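import Cfsg.Agent.H63.TwoGen.NoMoved.Rank
import Cfsg.Agent.H77.AutPGroup
import Cfsg.Agent.Cores.Fitting
import Cfsg.Agent.Components.PAction
import Mathlib

/-!
# Piece D: soluble automorphism groups of small elementary 2-groups

The element `φ` of order 5 or 7 generates a normal subgroup as soon as `O_2 = 1`.
-/

set_option autoImplicit false
set_option linter.style.haveILetI false
open Cfsg

namespace Cfsg.Agent.H63.TwoGen.NoMoved

open Subgroup
open scoped commutatorElement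

universe u

/-- The fixed points of a group of automorphisms. -/
def fixSub {V : Type u} [Group V] (A : Subgroup (MulAut V)) : Subgroup V where
  carrier := {v | ∀ a ∈ A, a v = v}
  one_mem' := fun a _ => map_one a
  mul_mem' := fun {v w} hv hw a ha => by rw [map_mul, hv a ha, hw a ha]
  inv_mem' := fun {v} hv a ha => by rw [map_inv, hv a ha]

theorem mem_fixSub {V : Type u} [Group V] {A : Subgroup (MulAut V)} {v : V} :
    v ∈ fixSub A ↔ ∀ a ∈ A, a v = v := Iff.rfl

theorem mem_fixSub_zpowers {V : Type u} [Group V] {τ : MulAut V} {v : V} (h : τ v = v) :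
    v ∈ fixSub (zpowers τ) := fun _ ⟨k, hk⟩ => hk ▸
  MulAction.mem_stabilizer_iff.1 (zpow_mem (show τ ∈ MulAction.stabilizer (MulAut V) v from h) k)

/-- Automorphisms normalizing `A` permute its fixed points. -/
theorem apply_mem_fixSub {V : Type u} [Group V] {A : Subgroup (MulAut V)} {φ : MulAut V}
    (hφ : φ ∈ normalizer (A : Set (MulAut V))) {v : V} (hv : v ∈ fixSub A) : φ v ∈ fixSub A := by
  intro a ha
  have h1 := hv _ ((mem_normalizer_iff''.1 hφ a).1 ha)
  rw [MulAut.mul_apply, MulAut.mul_apply] at h1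
  have := congrArg φ h1
  rwa [MulAut.apply_inv_self] at this

/-- Fixed points of a group of `p`-power order. -/
theorem card_fixSub_modEq {V : Type u} [Group V] [Finite V] {p : ℕ} [Fact p.Prime]
    {A : Subgroup (MulAut V)} (hA : IsPGroup p A) :
    Nat.card V ≡ Nat.card (fixSub A) [MOD p] := by
  have h := hA.card_modEq_card_fixedPoints V
  suffices he : Nat.card (MulAction.fixedPoints A V) = Nat.card (fixSub A) by rwa [he] at h
  refine Nat.card_congr (Equiv.subtypeEquivRight fun v => ?_)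
  rw [MulAction.mem_fixedPoints]
  exact ⟨fun h a ha => h ⟨a, ha⟩, fun h a => h a a.2⟩

theorem isPGroup_two {V : Type u} [Group V] (hV : ∀ v : V, v ^ 2 = 1) : IsPGroup 2 V :=
  fun v => ⟨1, by rw [pow_one]; exact hV v⟩

theorem fixSub_ne_bot {V : Type u} [Group V] [Finite V] [Nontrivial V] (hV : ∀ v : V, v ^ 2 = 1)
    {A : Subgroup (MulAut V)} (hA : IsPGroup 2 A) : fixSub A ≠ ⊥ := by
  haveI : Fact (Nat.Prime 2) := ⟨Nat.prime_two⟩
  intro he
  have h := card_fixSub_modEq hA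
  obtain ⟨m, hm0, hm⟩ := (isPGroup_two hV).nontrivial_iff_card.1 (inferInstance : Nontrivial V)
  rw [he, Subgroup.card_bot, hm, Nat.ModEq, Nat.pow_mod, Nat.mod_self, zero_pow hm0.ne'] at h
  simp at h

/-- `φ` leaves no proper nontrivial subgroup invariant. -/
def Irred {V : Type u} [Group V] (φ : MulAut V) : Prop :=
  ∀ U : Subgroup V, (∀ v ∈ U, φ v ∈ U) → U = ⊥ ∨ U = ⊤

/-- A 2-group of automorphisms normalized by an irreducible element is trivial. -/
theorem eq_bot_of_irred {V : Type u} [Group V] [Finite V] [Nontrivial V]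
    (hV : ∀ v : V, v ^ 2 = 1) {φ : MulAut V} (hi : Irred φ) {A : Subgroup (MulAut V)}
    (hA : IsPGroup 2 A) (hn : φ ∈ normalizer (A : Set (MulAut V))) : A = ⊥ := by
  rcases hi (fixSub A) (fun v hv => apply_mem_fixSub hn hv) with h | h
  · exact absurd h (fixSub_ne_bot hV hA)
  · refine (eq_bot_iff_forall A).2 fun a ha => MulEquiv.ext fun v => ?_
    exact (show v ∈ fixSub A from h ▸ mem_top v) a ha

theorem eq_one_of_commute {V : Type u} [Group V] [Finite V] [Nontrivial V]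
    (hV : ∀ v : V, v ^ 2 = 1) {φ τ : MulAut V} (hi : Irred φ) (hc : Commute φ τ)
    (hτ : IsPGroup 2 (zpowers τ)) : τ = 1 := by
  have hn : φ ∈ normalizer (zpowers τ : Set (MulAut V)) := by
    refine centralizer_le_normalizer _ ?_
    rw [zpowers_eq_closure, centralizer_closure]
    exact mem_centralizer_singleton_iff.2 hc.eq
  have h := eq_bot_of_irred hV hi hτ hn
  exact zpowers_eq_bot.1 h

/-- The automorphism group of an elementary group of order at most 16. -/
theorem card_mulAut_dvd {V : Type u} [Group V] [Finite V] (hV : ∀ v : V, v ^ 2 = 1)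
    (h16 : Nat.card V ∣ 16) : Nat.card (MulAut V) ∣ 20160 := by
  haveI : Fact (Nat.Prime 2) := ⟨Nat.prime_two⟩
  haveI := isMulCommutative_of_sq hV
  have hF : frattini V = ⊥ := by
    refine le_bot_iff.1 (PGroups.frattini_le_of_commutator_le (p := 2) ⊥ ?_ fun x => ?_)
    · rw [commutator_def, commutator_le]
      intro a _ b _
      rw [mem_bot, commutatorElement_eq_one_iff_mul_comm]
      exact mul_comm' a b
    · rw [mem_bot]; exact hV x
  obtain ⟨r, hr4, hr⟩ := (Nat.dvd_prime_pow Nat.prime_two).1 (show Nat.card V ∣ 2 ^ 4 from h16)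
  have hidx : (frattini V).index = 2 ^ r := by rw [hF, Subgroup.index_bot, hr]
  refine (H77.card_mulAut_dvd (isPGroup_two hV) hidx).trans ?_
  rw [hF, Subgroup.card_bot, one_pow, one_mul]
  interval_cases r <;> simp [Finset.prod_range_succ]

theorem orderOf_eq_five_or_seven {V : Type u} [Group V] [Finite V] (hV : ∀ v : V, v ^ 2 = 1)
    (h16 : Nat.card V ∣ 16) {p k : ℕ} (hp : p = 5 ∨ p = 7) {φ : MulAut V} (hk : φ ^ p ^ k = 1)
    (h1 : φ ≠ 1) : orderOf φ = p := by
  have hpp : p.Prime := by rcases hp with rfl | rfl <;> norm_num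
  obtain ⟨j, -, hj⟩ := (Nat.dvd_prime_pow hpp).1 (orderOf_dvd_of_pow_eq_one hk)
  have hd : p ^ j ∣ 20160 := hj ▸ (orderOf_dvd_natCard φ).trans (card_mulAut_dvd hV h16)
  rcases j with _ | _ | j
  · exact absurd (orderOf_eq_one_iff.1 (by simpa using hj)) h1
  · simpa using hj
  · exfalso
    have : p ^ 2 ∣ 20160 := (pow_dvd_pow p (by omega)).trans hd
    rcases hp with rfl | rfl <;> norm_num at this

/-- A fixed-point-free element of `p`-power order is irreducible when no proper divisor of the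
order is `1` modulo `p`. -/
theorem irred_of_fpf {V : Type u} [Group V] [Finite V] {p k : ℕ} [Fact p.Prime] {φ : MulAut V}
    (hk : φ ^ p ^ k = 1) (hfix : ∀ v : V, φ v = v → v = 1)
    (hnum : ∀ d : ℕ, d ∣ Nat.card V → d ≡ 1 [MOD p] → d = 1 ∨ d = Nat.card V) : Irred φ := by
  intro U hU
  let ψ : MulAut U := MulEquiv.ofBijective
    ({ toFun := fun u => (⟨φ u, hU u u.2⟩ : U)
       map_one' := Subtype.ext (map_one φ)
       map_mul' := fun a b => Subtype.ext (map_mul φ (a : V) b) } : U →* U)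
    (Finite.injective_iff_bijective.1 fun a b e =>
      Subtype.ext (φ.injective (congrArg Subtype.val e)))
  have hψ : ∀ (n : ℕ) (u : U), (((ψ ^ n) u : U) : V) = (φ ^ n) u := by
    intro n u
    induction n generalizing u with
    | zero => rfl
    | succ n ih => rw [pow_succ, pow_succ, MulAut.mul_apply, MulAut.mul_apply, ih]; rfl
  have hψp : IsPGroup p (zpowers ψ) := by
    have h1 : ψ ^ p ^ k = 1 := MulEquiv.ext fun u => Subtype.ext (by rw [hψ, hk]; rfl)
    refine IsPGroup.of_card_dvd_pow (n := k) ?_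
    rw [Nat.card_zpowers]
    exact orderOf_dvd_of_pow_eq_one h1
  have hbot : fixSub (zpowers ψ) = ⊥ := (eq_bot_iff_forall _).2 fun u hu =>
    Subtype.ext (hfix u (congrArg Subtype.val (hu ψ (mem_zpowers ψ)) :))
  have h := card_fixSub_modEq hψp
  rw [hbot, Subgroup.card_bot] at h
  rcases hnum _ U.card_subgroup_dvd_card h with h1 | h1
  · exact Or.inl (card_eq_one.1 h1)
  · exact Or.inr (eq_top_of_card_eq _ h1)

/-- An element of `p`-power order normalizing a group of order less than `p` centralizes it. -/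
theorem commute_of_small {G : Type u} [Group G] [Finite G] {p : ℕ} [Fact p.Prime] {Z : Subgroup G}
    {x : G} (hx : x ∈ normalizer (Z : Set G)) {k : ℕ} (hk : x ^ p ^ k = 1)
    (hZ : Nat.card Z < p) : ∀ z ∈ Z, Commute x z := by
  intro z hz
  set ψ := Z.normalizerMonoidHom ⟨x, hx⟩
  have h1 : ψ ^ p ^ k = 1 := by
    rw [← map_pow, show (⟨x, hx⟩ : normalizer (Z : Set G)) ^ p ^ k = 1 from Subtype.ext hk, map_one]
  have hψp : IsPGroup p (zpowers ψ) := by
    refine IsPGroup.of_card_dvd_pow (n := k) ?_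
    rw [Nat.card_zpowers]
    exact orderOf_dvd_of_pow_eq_one h1
  have h := card_fixSub_modEq hψp
  have hlt : Nat.card (fixSub (zpowers ψ)) < p := (card_le_card_group _).trans_lt hZ
  have htop := eq_top_of_card_eq _ ((Nat.ModEq.eq_of_lt_of_lt h hZ hlt).symm)
  have h2 : (⟨z, hz⟩ : Z) ∈ fixSub (zpowers ψ) := htop ▸ mem_top _
  have h3 : x * z * x⁻¹ = z := congrArg Subtype.val (h2 ψ (mem_zpowers ψ))
  exact mul_inv_eq_iff_eq_mul.1 h3

theorem small_modEq {p a b : ℕ} (hp : p = 5 ∨ p = 7) (ha : a ∈ [1, 3, 5, 7, 9]) (hb : b ∣ a)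
    (hpa : ¬ p ∣ a) (h : a ≡ b [MOD p]) : a = b := by
  have hb9 : b ≤ 9 := by
    have h9 : a ≤ 9 ∧ 0 < a := by fin_cases ha <;> norm_num
    exact (Nat.le_of_dvd h9.2 hb).trans h9.1
  have key : ∀ p ∈ [5, 7], ∀ a ∈ [1, 3, 5, 7, 9], ∀ b < 10, b ∣ a → ¬ p ∣ a →
      a % p = b % p → a = b := by decide
  exact key p (by rcases hp with rfl | rfl <;> simp) a ha b (by omega) hb hpa h

theorem primePow_mem {r k : ℕ} (hr : r.Prime) (hr2 : r ≠ 2) (h : r ^ k ∣ 20160) :
    r ^ k ∈ [1, 3, 5, 7, 9] := by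
  have hc : Nat.Coprime (r ^ k) 64 := by
    rw [show (64 : ℕ) = 2 ^ 6 from rfl]
    exact Nat.Coprime.pow k 6 ((Nat.coprime_primes hr Nat.prime_two).2 hr2)
  have h315 : r ^ k ∣ 315 := hc.dvd_of_dvd_mul_left (show r ^ k ∣ 64 * 315 by simpa using h)
  have hq : ∀ q : ℕ, q.Prime → q ∣ r ^ k → q = r := fun q hq hd =>
    (Nat.prime_dvd_prime_iff_eq hq hr).1 (hq.dvd_of_dvd_pow hd)
  generalize r ^ k = a at h315 hq ⊢
  have hne : ∀ q q' : ℕ, q.Prime → q'.Prime → q ≠ q' → ¬ (q ∣ a ∧ q' ∣ a) :=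
    fun q q' hq1 hq2 hne hd => hne ((hq q hq1 hd.1).trans (hq q' hq2 hd.2).symm)
  have key : ∀ a < 316, a ∣ 315 → a ∈ [1, 3, 5, 7, 9] ∨ (3 ∣ a ∧ 5 ∣ a) ∨ (3 ∣ a ∧ 7 ∣ a) ∨
      (5 ∣ a ∧ 7 ∣ a) := by
    decide +kernel
  refine (key a (by have := Nat.le_of_dvd (by norm_num) h315; omega) h315).resolve_right ?_
  rintro (hd | hd | hd)
  · exact hne 3 5 (by norm_num) (by norm_num) (by norm_num) hd
  · exact hne 3 7 (by norm_num) (by norm_num) (by norm_num) hd
  · exact hne 5 7 (by norm_num) (by norm_num) (by norm_num) hd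

/-- In a soluble group of order dividing `20160` with trivial 2-core, an element of order 5 or 7
generates a normal subgroup. -/
theorem zpowers_normal {F : Type u} [Group F] [Finite F] (hs : Group.IsSolvable F)
    (hF : Nat.card F ∣ 20160) (h2 : Cfsg.pCore 2 F = ⊥) {p : ℕ} (hp : p = 5 ∨ p = 7) {φ : F}
    (hφ : orderOf φ = p) : (zpowers φ).Normal := by
  haveI hpF : Fact p.Prime := ⟨by rcases hp with rfl | rfl <;> norm_num⟩
  have hz : IsPGroup p (zpowers φ) :=
    IsPGroup.iff_card.2 ⟨1, by rw [Nat.card_zpowers, hφ, pow_one]⟩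
  -- a `p`-subgroup containing `φ` is `⟨φ⟩`
  have hple : ∀ P : Subgroup F, IsPGroup p P → φ ∈ P → P = zpowers φ := by
    intro P hP hφP
    obtain ⟨k, hk⟩ := IsPGroup.iff_card.1 hP
    have hd : p ^ k ∣ 20160 := hk ▸ (P.card_subgroup_dvd_card.trans hF)
    have hk1 : k ≤ 1 := by
      by_contra hk'
      have : p ^ 2 ∣ 20160 := (pow_dvd_pow p (by omega)).trans hd
      rcases hp with rfl | rfl <;> norm_num at this
    refine (eq_of_le_of_card_ge (zpowers_le.2 hφP) ?_).symm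
    rw [Nat.card_zpowers, hφ, hk]
    calc p ^ k ≤ p ^ 1 := Nat.pow_le_pow_right hpF.out.pos hk1
      _ = p := pow_one p
  have hOp : Cfsg.pCore p F ≤ zpowers φ :=
    le_sup_right.trans (hple (zpowers φ ⊔ Cfsg.pCore p F)
      (hz.to_sup_of_normal_right Cores.pCore_isPGroup) (mem_sup_left (mem_zpowers φ))).le
  -- `φ` centralizes the Fitting subgroup
  have hcent : φ ∈ centralizer (Cfsg.fittingSubgroup F : Set F) := by
    suffices hle : ∀ r : Nat.Primes, Cfsg.pCore (r : ℕ) F ≤ centralizer ({φ} : Set F) by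
      refine mem_centralizer_iff.2 fun y hy => ?_
      rw [SetLike.mem_coe, Cores.iSup_pCore_eq_fittingSubgroup] at hy
      exact mem_centralizer_singleton_iff.1 (iSup_le hle hy)
    intro r
    haveI : Fact (r : ℕ).Prime := ⟨r.2⟩
    rcases eq_or_ne (r : ℕ) 2 with h' | h'
    · rw [h', h2]; exact bot_le
    rcases eq_or_ne (r : ℕ) p with h'' | h''
    · rw [h'']
      refine hOp.trans (zpowers_le.2 ?_)
      exact mem_centralizer_singleton_iff.2 rfl
    set R := Cfsg.pCore (r : ℕ) F with hR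
    obtain ⟨k, hk⟩ := IsPGroup.iff_card.1 (Cores.pCore_isPGroup (p := (r : ℕ)) (G := F))
    have hd : (r : ℕ) ^ k ∣ 20160 := hk ▸ (R.card_subgroup_dvd_card.trans hF)
    have hmem : Nat.card R ∈ [1, 3, 5, 7, 9] := hk ▸ primePow_mem r.2 h' hd
    have hnd : ¬ p ∣ Nat.card R := fun hd' => h''
      ((Nat.prime_dvd_prime_iff_eq hpF.out r.2).1 (hpF.out.dvd_of_dvd_pow (hk ▸ hd'))).symm
    let ψ : zpowers φ →* MulAut R :=
      (MulAut.conjNormal (H := R)).comp (zpowers φ).subtype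
    have hψ : IsPGroup p ψ.range := hz.of_surjective _ ψ.rangeRestrict_surjective
    have hfull : Nat.card R = Nat.card (fixSub ψ.range) :=
      small_modEq hp hmem (card_subgroup_dvd_card _) hnd (card_fixSub_modEq hψ)
    have htop := Subgroup.eq_top_of_card_eq _ hfull.symm
    intro y hy
    have h1 : (⟨y, hy⟩ : R) ∈ fixSub ψ.range := htop ▸ mem_top _
    have h2 : φ * y * φ⁻¹ = y :=
      congrArg Subtype.val (h1 (ψ ⟨φ, mem_zpowers φ⟩) ⟨_, rfl⟩)
    exact mem_centralizer_singleton_iff.2 (mul_inv_eq_iff_eq_mul.1 h2).symm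
  haveI := hs
  have hzF : zpowers φ ≤ Cfsg.fittingSubgroup F :=
    zpowers_le.2 (Cores.centralizer_fittingSubgroup_le hcent)
  have hzO : zpowers φ ≤ Cfsg.pCore p F := Cores.le_pCore_of_le_sup hz (hzF.trans (by
    rw [Cores.iSup_pCore_eq_fittingSubgroup]
    exact Cores.iSup_pCore_le_sup p))
  rw [le_antisymm hzO hOp]
  infer_instance

section Cyclic

variable {X : Type u} [Group X] {φ τ : X} {p : ℕ}

theorem conj_zpow_eq {i : ℤ} (h : τ * φ * τ⁻¹ = φ ^ i) (j : ℤ) :
    τ * φ ^ j * τ⁻¹ = φ ^ (i * j) := by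
  rw [← conj_zpow, h, zpow_mul]

/-- An involution normalizing a subgroup of prime order centralizes or inverts it. -/
theorem commute_or_inverts (hp : p.Prime) (hφ : orderOf φ = p) (hτ : τ * τ = 1)
    (h : τ * φ * τ⁻¹ ∈ zpowers φ) : Commute τ φ ∨ τ * φ * τ⁻¹ = φ⁻¹ := by
  obtain ⟨i, hi⟩ := mem_zpowers_iff.1 h
  have h2 : φ ^ (i * i) = φ := by
    rw [← conj_zpow_eq hi.symm i, hi, show τ * (τ * φ * τ⁻¹) * τ⁻¹ = τ * τ * φ * (τ * τ)⁻¹ by group,
      hτ]
    group
  have hd : (p : ℤ) ∣ (i - 1) * (i + 1) := by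
    rw [← hφ, orderOf_dvd_iff_zpow_eq_one, show (i - 1) * (i + 1) = i * i - 1 by ring, zpow_sub,
      h2, zpow_one, mul_inv_cancel]
  have hpow : ∀ m : ℤ, (p : ℤ) ∣ m → φ ^ m = 1 := fun m hm => by
    rwa [← hφ, orderOf_dvd_iff_zpow_eq_one] at hm
  rcases (Nat.prime_iff_prime_int.1 hp).dvd_mul.1 hd with hd | hd
  · left
    have := hpow _ hd
    rw [zpow_sub, zpow_one, mul_inv_eq_one] at this
    rw [this] at hi
    exact mul_inv_eq_iff_eq_mul.1 hi.symm
  · right
    have := hpow _ hd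
    rw [zpow_add, zpow_one, mul_eq_one_iff_eq_inv] at this
    rw [← hi, this]

theorem mem_normalizer_zpowers [Finite X] (h : τ * φ * τ⁻¹ ∈ zpowers φ) :
    τ ∈ normalizer (zpowers φ : Set X) := by
  refine Coprime.mem_normalizer_of_map_conj (eq_of_le_of_card_ge ?_ (Coprime.card_map_conj _ _).ge)
  rw [MonoidHom.map_zpowers, zpowers_le]
  exact h

/-- The elements normalizing a cyclic group induce commuting automorphisms on it. -/
theorem commute_commutator {a b : X} (ha : a ∈ normalizer (zpowers φ : Set X))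
    (hb : b ∈ normalizer (zpowers φ : Set X)) : Commute ⁅a, b⁆ φ := by
  obtain ⟨i, hi⟩ := mem_zpowers_iff.1
    ((mem_normalizer_iff.1 (inv_mem ha) φ).1 (mem_zpowers φ))
  obtain ⟨j, hj⟩ := mem_zpowers_iff.1
    ((mem_normalizer_iff.1 (inv_mem hb) φ).1 (mem_zpowers φ))
  have h : a⁻¹ * (b⁻¹ * φ * b⁻¹⁻¹) * a⁻¹⁻¹ = b⁻¹ * (a⁻¹ * φ * a⁻¹⁻¹) * b⁻¹⁻¹ := by
    rw [← hi, ← hj, conj_zpow_eq hi.symm, conj_zpow_eq hj.symm, mul_comm i j]
  calc ⁅a, b⁆ * φ = a * b * (a⁻¹ * (b⁻¹ * φ * b⁻¹⁻¹) * a⁻¹⁻¹) * b⁻¹ * a⁻¹ * ⁅a, b⁆ := by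
        rw [commutatorElement_def]; group
    _ = a * b * (b⁻¹ * (a⁻¹ * φ * a⁻¹⁻¹) * b⁻¹⁻¹) * b⁻¹ * a⁻¹ * ⁅a, b⁆ := by rw [h]
    _ = φ * ⁅a, b⁆ := by group

/-- A normalizing element of order prime to `p - 1` centralizes. -/
theorem commute_of_pow_eq_one (hp : p.Prime) (hφ : orderOf φ = p) {n : ℕ} (hn0 : n ≠ 0)
    (hn : τ ^ n = 1)
    (hcop : n.Coprime (p - 1)) (h : τ * φ * τ⁻¹ ∈ zpowers φ) : Commute τ φ := by
  haveI : Fact p.Prime := ⟨hp⟩
  obtain ⟨i, hi⟩ := mem_zpowers_iff.1 h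
  have hit : ∀ m : ℕ, τ ^ m * φ * (τ ^ m)⁻¹ = φ ^ (i ^ m) := by
    intro m
    induction m with
    | zero => simp
    | succ m ih =>
      rw [pow_succ', show τ * τ ^ m * φ * (τ * τ ^ m)⁻¹ = τ * (τ ^ m * φ * (τ ^ m)⁻¹) * τ⁻¹ by group,
        ih, conj_zpow_eq hi.symm, ← pow_succ']
  have h1 := hit n
  rw [hn, one_mul, inv_one, mul_one] at h1
  have hd : (p : ℤ) ∣ i ^ n - 1 := by
    rw [← hφ, orderOf_dvd_iff_zpow_eq_one, zpow_sub, ← h1, zpow_one, mul_inv_cancel]
  rw [← ZMod.intCast_zmod_eq_zero_iff_dvd, Int.cast_sub, Int.cast_pow, Int.cast_one, sub_eq_zero]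
    at hd
  have hi0 : (i : ZMod p) ≠ 0 := fun h0 => by rw [h0, zero_pow hn0] at hd; exact zero_ne_one hd
  have h2 : orderOf (i : ZMod p) ∣ Nat.gcd n (p - 1) :=
    Nat.dvd_gcd (orderOf_dvd_of_pow_eq_one hd)
      (orderOf_dvd_of_pow_eq_one (ZMod.pow_card_sub_one_eq_one hi0))
  rw [hcop.gcd_eq_one, Nat.dvd_one, orderOf_eq_one_iff, ← Int.cast_one, ← sub_eq_zero,
    ← Int.cast_sub, ZMod.intCast_zmod_eq_zero_iff_dvd, ← hφ, orderOf_dvd_iff_zpow_eq_one,
    zpow_sub, zpow_one, mul_inv_eq_one] at h2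
  rw [h2] at hi
  exact mul_inv_eq_iff_eq_mul.1 hi.symm

end Cyclic

/-- An involution inverting a fixed-point-free automorphism of odd order of an elementary 2-group
fixes a subgroup of half the rank. -/
theorem card_fixSub_sq {V : Type u} [Group V] [Finite V] (hV : ∀ v : V, v ^ 2 = 1) {φ τ : MulAut V}
    (hφ2 : Odd (orderOf φ)) (hfix : ∀ v : V, φ v = v → v = 1) (hτ : τ * τ = 1)
    (hinv : τ * φ * τ⁻¹ = φ⁻¹) :
    Nat.card (fixSub (zpowers τ)) * Nat.card (fixSub (zpowers τ)) = Nat.card V := by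
  haveI := isMulCommutative_of_sq hV
  set C := fixSub (zpowers τ) with hC
  have hCτ : ∀ v ∈ C, τ v = v := fun v hv => hv τ (mem_zpowers τ)
  have hinv' : ∀ v : V, τ (φ v) = φ⁻¹ (τ v) := fun v => by
    rw [← hinv, MulAut.mul_apply, MulAut.mul_apply, MulAut.inv_apply_self]
  have hmeet : ∀ w, w ∈ C → φ w ∈ C → w = 1 := by
    intro w hw hw'
    have h1 := hinv' w
    rw [hCτ w hw, hCτ _ hw'] at h1
    have h2 : (φ ^ 2) w = w := by
      rw [pow_two, MulAut.mul_apply, h1, MulAut.apply_inv_self]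
    obtain ⟨k, hk⟩ := exists_pow_eq_self_of_coprime (x := φ) (n := 2) (Nat.coprime_two_left.2 hφ2)
    refine hfix w ?_
    conv_lhs => rw [← hk]
    exact MulAction.mem_stabilizer_iff.1
      (pow_mem (show φ ^ 2 ∈ MulAction.stabilizer (MulAut V) w from h2) k)
  refine le_antisymm ?_ ?_
  · rw [← Nat.card_prod]
    refine Nat.card_le_card_of_injective (fun a : C × C => (a.1 : V) * φ a.2) fun a b e => ?_
    have e1 : φ ((a.2 : V) * (b.2 : V)⁻¹) = (a.1 : V)⁻¹ * (b.1 : V) := by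
      have e' : (a.1 : V) * φ a.2 = (b.1 : V) * φ b.2 := e
      rw [map_mul, map_inv, mul_inv_eq_iff_eq_mul, mul_assoc, ← e', inv_mul_cancel_left]
    have h2 := hmeet _ (C.mul_mem a.2.2 (C.inv_mem b.2.2))
      (e1 ▸ C.mul_mem (C.inv_mem a.1.2) b.1.2)
    have h2' : (a.2 : V) = b.2 := mul_inv_eq_one.1 h2
    refine Prod.ext (Subtype.ext ?_) (Subtype.ext h2')
    have e' : (a.1 : V) * φ a.2 = (b.1 : V) * φ b.2 := e
    rw [h2'] at e'
    exact mul_right_cancel e'
  · let f : V →* V :=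
      { toFun := fun w => τ w * w
        map_one' := by rw [map_one, one_mul]
        map_mul' := fun v w => by
          rw [map_mul, mul_assoc, ← mul_assoc (τ w) v w, mul_comm' (τ w) v, mul_assoc v,
            ← mul_assoc] }
    have hsq : ∀ v : V, v⁻¹ = v := fun v =>
      inv_eq_of_mul_eq_one_right (by rw [← pow_two]; exact hV v)
    have hr : f.range ≤ C := by
      rintro _ ⟨w, rfl⟩
      refine mem_fixSub_zpowers ?_
      show τ (τ w * w) = τ w * w
      rw [map_mul, ← MulAut.mul_apply, hτ, MulAut.one_apply, mul_comm']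
    have hk : f.ker ≤ C := fun w hw => mem_fixSub_zpowers (by
      have h' : τ w * w = 1 := hw
      rw [eq_inv_of_mul_eq_one_left h', hsq])
    rw [← f.ker.card_mul_index, index_ker]
    exact Nat.mul_le_mul (card_le_of_le hk) (card_le_of_le hr)

variable {V : Type u} [Group V] [Finite V] [Nontrivial V]

/-- In a soluble group of automorphisms, an irreducible element of order 5 or 7 generates a normal
subgroup. -/
theorem conj_mem_zpowers (hV : ∀ v : V, v ^ 2 = 1) (h16 : Nat.card V ∣ 16)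
    {F : Subgroup (MulAut V)} (hs : Group.IsSolvable F) {p : ℕ} (hp : p = 5 ∨ p = 7)
    {φ : MulAut V} (hφF : φ ∈ F) (hφ : orderOf φ = p) (hi : Irred φ) {τ : MulAut V} (hτ : τ ∈ F) :
    τ * φ * τ⁻¹ ∈ zpowers φ := by
  have h2 : Cfsg.pCore 2 F = ⊥ := by
    have h := eq_bot_of_irred hV hi (A := (Cfsg.pCore 2 F).map F.subtype)
      (Cores.pCore_isPGroup.map _)
      (Components.le_normalizer_map_characteristic _ le_normalizer hφF)
    exact (map_eq_bot_iff_of_injective _ F.subtype_injective).1 h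
  have hn := zpowers_normal hs ((F.card_subgroup_dvd_card).trans (card_mulAut_dvd hV h16)) h2 hp
    (φ := (⟨φ, hφF⟩ : F)) (by rw [← Subgroup.orderOf_coe]; exact hφ)
  obtain ⟨i, hi'⟩ := mem_zpowers_iff.1 (hn.conj_mem _ (mem_zpowers _) ⟨τ, hτ⟩)
  exact mem_zpowers_iff.2 ⟨i, congrArg Subtype.val hi'⟩

end Cfsg.Agent.H63.TwoGen.NoMoved
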