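import Cfsg.Agent.H63.TwoGen.NoMoved.TwoCase
import Mathlib

/-!
# Piece D: moved elementary 2-groups

An elementary group of order 16 moved by an element of order 5, or of order 8 moved by an element of
order 7, gives a normal elementary subgroup of order at least 8 in a Sylow 2-subgroup.
-/

set_option autoImplicit false
set_option linter.style.haveILetI false
open Cfsg

namespace Cfsg.Agent.H63.TwoGen.NoMoved

open Subgroup
open scoped commutatorElement

universe u

/-! ### Automorphisms -/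

/-- The order of an invariant subgroup is congruent to the number of its fixed points. -/
theorem card_invariant_modEq {V : Type u} [Group V] [Finite V] {p k : ℕ} [Fact p.Prime]
    {φ : MulAut V} (hk : φ ^ p ^ k = 1) {U : Subgroup V} (hU : ∀ u ∈ U, φ u ∈ U) :
    Nat.card U ≡ Nat.card (U ⊓ fixSub (zpowers φ) : Subgroup V) [MOD p] := by
  let ψ : MulAut U := MulEquiv.ofBijective
    ({ toFun := fun u => (⟨φ u, hU u u.2⟩ : U)
       map_one' := Subtype.ext (map_one φ)
       map_mul' := fun a b => Subtype.ext (map_mul φ (a : V) b) } : U →* U)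
    (Finite.injective_iff_bijective.1 fun a b e =>
      Subtype.ext (φ.injective (congrArg Subtype.val e)))
  have hψ : ∀ (n : ℕ) (u : U), (((ψ ^ n) u : U) : V) = (φ ^ n) u := by
    intro n u
    induction n generalizing u with
    | zero => rfl
    | succ n ih => rw [pow_succ, pow_succ, MulAut.mul_apply, MulAut.mul_apply, ih]; rfl
  have hψp : IsPGroup p (zpowers ψ) := by
    have h1 : ψ ^ p ^ k = 1 := MulEquiv.ext fun u => Subtype.ext (by rw [hψ, hk]; rfl)
    refine IsPGroup.of_card_dvd_pow (n := k) ?_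
    rw [Nat.card_zpowers]
    exact orderOf_dvd_of_pow_eq_one h1
  have h := card_fixSub_modEq hψp
  have he : fixSub (zpowers ψ) = (U ⊓ fixSub (zpowers φ)).subgroupOf U := by
    ext u
    rw [mem_subgroupOf]
    constructor
    · intro hu
      exact ⟨u.2, mem_fixSub_zpowers (congrArg Subtype.val (hu ψ (mem_zpowers ψ)) :)⟩
    · intro hu
      exact mem_fixSub_zpowers (Subtype.ext (hu.2 φ (mem_zpowers φ)))
  rwa [he, Nat.card_congr (subgroupOfEquivOfLe inf_le_left).toEquiv] at h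

theorem irred_seven {V : Type u} [Group V] [Finite V] (h8 : Nat.card V = 8) {φ : MulAut V}
    (hφ : orderOf φ = 7) (hfix : ∀ v : V, φ v = v → v = 1) : Irred φ := by
  haveI : Fact (Nat.Prime 7) := ⟨by norm_num⟩
  refine irred_of_fpf (p := 7) (k := 1) (by rw [pow_one, ← hφ, pow_orderOf_eq_one]) hfix
    fun d hd hm => ?_
  rw [h8] at hd ⊢
  have hd8 : d ≤ 8 := Nat.le_of_dvd (by norm_num) hd
  rw [Nat.ModEq] at hm
  interval_cases d <;> omega

/-- A soluble group of automorphisms of a group of order 8 containing an element of order 7 has odd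
order. -/
theorem eq_one_of_two_seven {V : Type u} [Group V] [Finite V] (hV : ∀ v : V, v ^ 2 = 1)
    (h8 : Nat.card V = 8) {F : Subgroup (MulAut V)} (hs : Group.IsSolvable F) {φ : MulAut V}
    (hφF : φ ∈ F) (hφ : orderOf φ = 7) (hfix : ∀ v : V, φ v = v → v = 1) {τ : MulAut V}
    (hτ : τ ∈ F) (hτ2 : ∃ k : ℕ, τ ^ 2 ^ k = 1) : τ = 1 := by
  haveI : Nontrivial V := Finite.one_lt_card_iff_nontrivial.1 (by rw [h8]; norm_num)
  have hi := irred_seven h8 hφ hfix
  have hinv : ∀ t ∈ F, t * t = 1 → t = 1 := by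
    intro t ht ht2
    rcases commute_or_inverts (by norm_num : Nat.Prime 7) hφ ht2
      (conj_mem_zpowers hV (by rw [h8]; norm_num) hs (Or.inr rfl) hφF hφ hi ht) with hc | hc
    · refine eq_one_of_commute hV hi hc.symm (IsPGroup.of_card_dvd_pow (n := 1) ?_)
      rw [Nat.card_zpowers]
      exact orderOf_dvd_of_pow_eq_one (by rw [pow_one, pow_two]; exact ht2)
    · exfalso
      have h1 := card_fixSub_sq hV (by rw [hφ]; decide) hfix ht2 hc
      rw [h8] at h1
      have h2 : Nat.card (fixSub (zpowers t)) ≤ 8 := h8 ▸ card_le_card_group _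
      interval_cases (Nat.card (fixSub (zpowers t))) <;> omega
  obtain ⟨k, hk⟩ := hτ2
  induction k generalizing τ with
  | zero => simpa using hk
  | succ k ih =>
    refine hinv τ hτ (ih (mul_mem hτ hτ) ?_)
    rw [← pow_two, ← pow_mul, mul_comm, ← pow_succ]
    exact hk

/-! ### Subgroups -/

variable {G : Type u} [Group G] [Finite G]

/-- A Sylow subgroup of an invariant subgroup is normalized by a corrected element. -/
theorem exists_frattini {L T : Subgroup G} {x : G} (hxL : x ∈ normalizer (L : Set G))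
    (hT : IsPGroup 2 T) (hTL : T ≤ L)
    (hmax : ∀ R : Subgroup G, IsPGroup 2 R → R ≤ L → T ≤ R → R ≤ T) :
    ∃ c ∈ L, c⁻¹ * x ∈ normalizer (T : Set G) := by
  haveI : Fact (Nat.Prime 2) := ⟨Nat.prime_two⟩
  have hsyl : ∀ R : Subgroup G, IsPGroup 2 R → R ≤ L →
      (∀ R' : Subgroup G, IsPGroup 2 R' → R' ≤ L → R ≤ R' → R' ≤ R) →
        ∃ Q : Sylow 2 L, (Q : Subgroup L).map L.subtype = R := by
    intro R hR hRL hm
    obtain ⟨Q, hQ⟩ := (hR.comap_subtype (K := L)).exists_le_sylow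
    have h2 : R ≤ (Q : Subgroup L).map L.subtype := by
      rw [← map_subgroupOf_eq_of_le hRL]
      exact map_mono hQ
    exact ⟨Q, le_antisymm (hm _ (Q.isPGroup'.map _) (map_subtype_le _) h2) h2⟩
  obtain ⟨Q₁, hQ₁⟩ := hsyl T hT hTL hmax
  set T' := T.map (MulAut.conj x).toMonoidHom with hT'
  obtain ⟨Q₂, hQ₂⟩ := hsyl T' (hT.map _) ((map_mono hTL).trans_eq (Coprime.map_conj_eq hxL))
    fun R' hR' hR'L hle => by
      have h2 : T ≤ R'.map (MulAut.conj x⁻¹).toMonoidHom := by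
        have := map_mono (f := (MulAut.conj x⁻¹).toMonoidHom) hle
        rwa [hT', Coprime.map_conj_map_conj, inv_mul_cancel, Coprime.map_conj_one] at this
      have h3 := hmax _ (hR'.map _)
        ((map_mono hR'L).trans_eq (Coprime.map_conj_eq (inv_mem hxL))) h2
      have := map_mono (f := (MulAut.conj x).toMonoidHom) h3
      rwa [Coprime.map_conj_map_conj, mul_inv_cancel, Coprime.map_conj_one] at this
  obtain ⟨k, hk⟩ := MulAction.exists_smul_eq L Q₁ Q₂
  have hkT : T.map (MulAut.conj (k : G)).toMonoidHom = T' := by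
    rw [← hQ₁, ← hQ₂, ← hk, Subgroup.map_map]
    show _ = ((Q₁ : Subgroup L).map (MulAut.conj k).toMonoidHom).map L.subtype
    rw [Subgroup.map_map]
    rfl
  refine ⟨k, k.2, Coprime.mem_normalizer_of_map_conj ?_⟩
  rw [← Coprime.map_conj_map_conj, ← hT', ← hkT, Coprime.map_conj_map_conj, inv_mul_cancel,
    Coprime.map_conj_one]

omit [Finite G] in
theorem exists_frattini_le {L T : Subgroup G} (N : Subgroup G)
    (hLN : L ≤ N) (hmax : ∀ R : Subgroup G, IsPGroup 2 R → R ≤ N → T ≤ R → R ≤ T) :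
    ∀ R : Subgroup G, IsPGroup 2 R → R ≤ L → T ≤ R → R ≤ T :=
  fun R hR hRL => hmax R hR (hRL.trans hLN)

omit [Finite G] in
theorem exists_act_pow {E : Subgroup G} {g : G} (hg : g ∈ normalizer (E : Set G)) {T : Subgroup G}
    (hT : IsPGroup 2 T) (hgT : g ∈ T) :
    ∃ k : ℕ, (E.normalizerMonoidHom ⟨g, hg⟩) ^ 2 ^ k = 1 := by
  obtain ⟨k, hk⟩ := hT ⟨g, hgT⟩
  exact ⟨k, by
    rw [← map_pow, show (⟨g, hg⟩ : normalizer (E : Set G)) ^ 2 ^ k = 1 from
      Subtype.ext (congrArg Subtype.val hk :), map_one]⟩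

omit [Finite G] in
theorem commute_of_act_eq_one {E : Subgroup G} {g : G} (hg : g ∈ normalizer (E : Set G))
    (h : E.normalizerMonoidHom ⟨g, hg⟩ = 1) : g ∈ centralizer (E : Set G) := by
  refine mem_centralizer_iff.2 fun e he => ?_
  have h1 : g * e * g⁻¹ = e := congrArg (fun σ : MulAut E => ((σ ⟨e, he⟩ : E) : G)) h
  exact (mul_inv_eq_iff_eq_mul.1 h1).symm

omit [Finite G] in
theorem elementary_sq_one {E : Subgroup G} (hE : Cfsg.IsElementaryAbelian 2 E) (e : E) : e ^ 2 = 1 :=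
  Subtype.ext (hE.2 e e.2)

omit [Finite G] in
theorem elementary_comm {E : Subgroup G} (hE : Cfsg.IsElementaryAbelian 2 E) {a b : G} (ha : a ∈ E)
    (hb : b ∈ E) : Commute a b := by
  haveI := hE.1
  exact congrArg Subtype.val (mul_comm' (⟨a, ha⟩ : E) ⟨b, hb⟩)

omit [Finite G] in
theorem elementary_conj {E : Subgroup G} (hE : Cfsg.IsElementaryAbelian 2 E) (g : G) :
    Cfsg.IsElementaryAbelian 2 (E.map (MulAut.conj g).toMonoidHom) := by
  haveI := hE.1
  exact ⟨Subgroup.map_isMulCommutative E _, by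
    rintro _ ⟨a, ha, rfl⟩
    rw [← map_pow, hE.2 a ha, map_one]⟩

/-- A self-maximal 2-subgroup with a large normal elementary subgroup contradicts `NoEight`. -/
theorem NoEight.false_of_normal (h : NoEight G) {T L A : Subgroup G} (hT : IsPGroup 2 T)
    (hTL : T ≤ L) (hmax : ∀ R : Subgroup G, IsPGroup 2 R → R ≤ L → T ≤ R → R ≤ T)
    (hn : ∀ R : Subgroup G, IsPGroup 2 R → T ≤ R → ∀ n ∈ R, n ∈ normalizer (T : Set G) → n ∈ L)
    (hAT : A ≤ T) (hTA : T ≤ normalizer (A : Set G)) (hA : Cfsg.IsElementaryAbelian 2 A)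
    (h8 : 8 ≤ Nat.card A) : False := by
  obtain ⟨S, hS⟩ := exists_sylow_eq hT fun R hR hTR n hnR hn' =>
    mem_of_maximal_two hR hTR hTL hmax hnR (hn R hR hTR n hnR hn')
  have := h S A (hS.symm ▸ hAT) (hS.symm ▸ hTA) hA
  omega

/-- An elementary group of order 16 is not moved fixed-point-freely by an element of order 5. -/
theorem false_of_sixteen (hG : Hyp G) (hno : NoEight G) {E : Subgroup G}
    (hE : Cfsg.IsElementaryAbelian 2 E) (h16 : Nat.card E = 16) {x : G}
    (hxE : x ∈ normalizer (E : Set G)) (hx5 : x ^ 5 = 1)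
    (hfix : ∀ e ∈ E, x * e * x⁻¹ = e → e = 1) : False := by
  haveI : Fact (Nat.Prime 2) := ⟨Nat.prime_two⟩
  haveI : Fact (Nat.Prime 5) := ⟨by norm_num⟩
  have hEp : IsPGroup 2 E := isPGroup_two (elementary_sq_one hE)
  haveI : Nontrivial E := Finite.one_lt_card_iff_nontrivial.1 (by rw [h16]; norm_num)
  set ψ := E.normalizerMonoidHom with hψ
  set φ := ψ ⟨x, hxE⟩ with hφdef
  have hfix' : ∀ e : E, φ e = e → e = 1 := fun e he =>
    Subtype.ext (hfix e e.2 (congrArg Subtype.val he))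
  have hk : φ ^ 5 ^ 1 = 1 := by
    rw [pow_one, hφdef, ← map_pow,
      show (⟨x, hxE⟩ : normalizer (E : Set G)) ^ 5 = 1 from Subtype.ext hx5, map_one]
  have hi : Irred φ := irred_of_fpf hk hfix' fun d hd hm => by
    rw [h16] at hd ⊢
    have hd16 : d ≤ 16 := Nat.le_of_dvd (by norm_num) hd
    rw [Nat.ModEq] at hm
    interval_cases d <;> omega
  have hφ5 : orderOf φ = 5 := orderOf_eq_five_or_seven (elementary_sq_one hE) (by rw [h16])
    (Or.inl rfl) hk fun h1 => by
      obtain ⟨e, he⟩ := exists_ne (1 : E)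
      exact he (hfix' e (by rw [h1]; rfl))
  have hs : Group.IsSolvable (normalizer (E : Set G)) := hG.proper_solvable _
    (hG.normalizer_ne_top (fun e => by rw [e, Subgroup.card_bot] at h16; omega)
      (hG.ne_top_of_isPGroup hEp))
  haveI := hs
  have hF : Group.IsSolvable ψ.range := Group.isSolvable_of_surjective ψ.rangeRestrict_surjective
  have hrk := hno.rk
  -- involutions centralizing `E` lie in `E`
  have hinv : ∀ t : G, t ^ 2 = 1 → t ∈ centralizer (E : Set G) → t ∈ E := by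
    intro t ht htC
    have htE : zpowers t ≤ normalizer (E : Set G) :=
      (zpowers_le.2 htC).trans (centralizer_le_normalizer _)
    have hz : IsPGroup 2 (zpowers t) := IsPGroup.of_card_dvd_pow (n := 1) (by
      rw [Nat.card_zpowers, pow_one]; exact orderOf_dvd_of_pow_eq_one ht)
    have hsq : ∀ w ∈ zpowers t ⊔ E, w ^ 2 ∈ (⊥ : Subgroup G) := by
      intro w hw
      rw [sup_comm] at hw
      obtain ⟨e, he, b, hb, rfl⟩ := (Coprime.mem_sup_iff htE).1 hw
      obtain ⟨i, rfl⟩ := mem_zpowers_iff.1 hb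
      have hc : Commute e (t ^ i) := Commute.zpow_right (mem_centralizer_iff.1 htC e he) i
      rw [mem_bot, hc.mul_pow, hE.2 e he, one_mul, ← zpow_natCast (t ^ i), ← zpow_mul, mul_comm,
        zpow_mul, zpow_natCast, ht, one_zpow]
    have h1 := hrk _ ⊥ (hz.to_sup_of_normal_right' hEp htE) bot_le
      (by rw [normalizer_eq_top]; exact le_top) hsq
    rw [Subgroup.card_bot, mul_one, ← h16] at h1
    have := eq_of_le_of_card_ge (le_sup_right : E ≤ zpowers t ⊔ E) h1
    exact this.ge (mem_sup_left (mem_zpowers t))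
  obtain ⟨T, hET, hTN, hT, hTmax⟩ := exists_maximal_two hEp (le_normalizer (H := E))
  refine hno.false_of_normal hT hTN hTmax (fun R hR hTR n hnR hn => ?_) hET hTN hE (by omega)
  set E' := E.map (MulAut.conj n).toMonoidHom with hE'
  have hE'T : E' ≤ T := (map_mono hET).trans_eq (Coprime.map_conj_eq hn)
  have hE'e : Cfsg.IsElementaryAbelian 2 E' := elementary_conj hE n
  refine Coprime.mem_normalizer_of_map_conj ?_
  by_contra hne
  have hnle : ¬ E' ≤ E := fun hle =>
    hne (eq_of_le_of_card_ge hle (Coprime.card_map_conj n E).ge)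
  -- elements of `E'` outside `E` invert `x`
  have hact : ∀ t (ht : t ∈ E'), t ∉ E → ψ ⟨t, hTN (hE'T ht)⟩ * φ * (ψ ⟨t, hTN (hE'T ht)⟩)⁻¹ = φ⁻¹ ∧
      ψ ⟨t, hTN (hE'T ht)⟩ * ψ ⟨t, hTN (hE'T ht)⟩ = 1 := by
    intro t ht htE
    have h2 : ψ ⟨t, hTN (hE'T ht)⟩ * ψ ⟨t, hTN (hE'T ht)⟩ = 1 := by
      rw [← map_mul, show (⟨t, hTN (hE'T ht)⟩ : normalizer (E : Set G)) * ⟨t, hTN (hE'T ht)⟩ = 1 from
        Subtype.ext (by rw [Subgroup.coe_mul, ← pow_two]; exact hE'e.2 t ht), map_one]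
    refine ⟨?_, h2⟩
    rcases commute_or_inverts (by norm_num : Nat.Prime 5) hφ5 h2
      (conj_mem_zpowers (elementary_sq_one hE) (by rw [h16]) hF (Or.inl rfl) ⟨_, rfl⟩ hφ5 hi
        ⟨_, rfl⟩) with hc | hc
    · refine absurd (hinv t (hE'e.2 t ht) (commute_of_act_eq_one (hTN (hE'T ht)) ?_)) htE
      refine eq_one_of_commute (elementary_sq_one hE) hi hc.symm (IsPGroup.of_card_dvd_pow (n := 1) ?_)
      rw [Nat.card_zpowers, pow_one]
      exact orderOf_dvd_of_pow_eq_one (by rw [pow_two]; exact h2)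
    · exact hc
  obtain ⟨t, ht, htE⟩ := SetLike.not_le_iff_exists.1 hnle
  have hidx : Nat.card E' ≤ 2 * Nat.card (E' ⊓ E : Subgroup G) := by
    refine card_le_two_mul fun a ha haD b hb hbD => ⟨E'.mul_mem (E'.inv_mem ha) hb, ?_⟩
    have haE : a ∉ E := fun h' => haD ⟨ha, h'⟩
    have hbE : b ∉ E := fun h' => hbD ⟨hb, h'⟩
    have hai : a⁻¹ = a := inv_eq_of_mul_eq_one_right (by rw [← pow_two]; exact hE'e.2 a ha)
    rw [hai]
    refine hinv _ (hE'e.2 _ (mul_mem ha hb))
      (commute_of_act_eq_one (hTN (hE'T (mul_mem ha hb))) ?_)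
    have hmul : ψ ⟨a * b, hTN (hE'T (mul_mem ha hb))⟩ =
        ψ ⟨a, hTN (hE'T ha)⟩ * ψ ⟨b, hTN (hE'T hb)⟩ := by rw [← map_mul]; rfl
    rw [hmul]
    obtain ⟨ea, ha2⟩ := hact a ha haE
    obtain ⟨eb, hb2⟩ := hact b hb hbE
    refine eq_one_of_commute (elementary_sq_one hE) hi ?_ (IsPGroup.of_card_dvd_pow (n := 1) ?_)
    · refine (mul_inv_eq_iff_eq_mul.1 ?_).symm
      rw [mul_inv_rev, show ∀ A B F : MulAut E, A * B * F * (B⁻¹ * A⁻¹) = A * (B * F * B⁻¹) * A⁻¹
        from fun A B F => by group, eb, ← conj_inv, ea, inv_inv]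
    · rw [Nat.card_zpowers, pow_one, ← hmul]
      refine orderOf_dvd_of_pow_eq_one ?_
      rw [← map_pow, show (⟨a * b, hTN (hE'T (mul_mem ha hb))⟩ : normalizer (E : Set G)) ^ 2 = 1 from
        Subtype.ext (hE'e.2 _ (mul_mem ha hb)), map_one]
  -- `t` fixes `E' ⊓ E`
  obtain ⟨et, ht2⟩ := hact t ht htE
  have hC := card_fixSub_sq (elementary_sq_one hE) (by rw [hφ5]; decide) hfix' ht2 et
  rw [h16] at hC
  have hsub : (E' ⊓ E).subgroupOf E ≤ fixSub (zpowers (ψ ⟨t, hTN (hE'T ht)⟩)) := by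
    intro w hw
    refine mem_fixSub_zpowers (Subtype.ext ?_)
    show t * (w : G) * t⁻¹ = w
    rw [(elementary_comm hE'e ht (show (w : G) ∈ E' from hw.1)).eq, mul_inv_cancel_right]
  have h3 := card_le_of_le hsub
  rw [Nat.card_congr (subgroupOfEquivOfLe inf_le_right).toEquiv] at h3
  rw [Coprime.card_map_conj n E, h16] at hidx
  have := Nat.mul_le_mul h3 h3
  nlinarith

/-- An elementary group of order 8 is not moved by an element of order 7. -/
theorem false_of_eight (hG : Hyp G) (hno : NoEight G) {W : Subgroup G}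
    (hW : Cfsg.IsElementaryAbelian 2 W) (h8 : Nat.card W = 8) {x : G}
    (hxW : x ∈ normalizer (W : Set G)) (hx7 : x ^ 7 = 1)
    (hfix : ∀ e ∈ W, x * e * x⁻¹ = e → e = 1) : False := by
  haveI : Fact (Nat.Prime 2) := ⟨Nat.prime_two⟩
  haveI : Fact (Nat.Prime 7) := ⟨by norm_num⟩
  have hrk := hno.rk
  have hWp : IsPGroup 2 W := isPGroup_two (elementary_sq_one hW)
  haveI : Nontrivial W := Finite.one_lt_card_iff_nontrivial.1 (by rw [h8]; norm_num)
  have hWne : W ≠ ⊥ := fun e => by rw [e, Subgroup.card_bot] at h8; omega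
  set ψW := W.normalizerMonoidHom with hψW
  set φ := ψW ⟨x, hxW⟩ with hφdef
  have hfixW : ∀ e : W, φ e = e → e = 1 := fun e he =>
    Subtype.ext (hfix e e.2 (congrArg Subtype.val he))
  have hφ7 : orderOf φ = 7 := by
    refine orderOf_eq_five_or_seven (elementary_sq_one hW) (by rw [h8]; norm_num) (Or.inr rfl)
      (k := 1) ?_ fun h1 => ?_
    · rw [pow_one, hφdef, ← map_pow,
        show (⟨x, hxW⟩ : normalizer (W : Set G)) ^ 7 = 1 from Subtype.ext hx7, map_one]
    · obtain ⟨e, he⟩ := exists_ne (1 : W)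
      exact he (hfixW e (by rw [h1]; rfl))
  haveI hsW : Group.IsSolvable (normalizer (W : Set G)) := hG.proper_solvable _
    (hG.normalizer_ne_top hWne (hG.ne_top_of_isPGroup hWp))
  obtain ⟨T₀, hWT₀, hT₀N, hT₀, hT₀max⟩ := exists_maximal_two hWp (le_normalizer (H := W))
  have hT₀C : T₀ ≤ centralizer (W : Set G) := fun t ht =>
    commute_of_act_eq_one (hT₀N ht) (eq_one_of_two_seven (elementary_sq_one hW) h8
      (F := ψW.range) (Group.isSolvable_of_surjective ψW.rangeRestrict_surjective) ⟨_, rfl⟩ hφ7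
      hfixW ⟨_, rfl⟩ (exists_act_pow (hT₀N ht) hT₀ ht))
  -- `x` corrected to normalize `T₀`, of 7-power order
  have hxC : x ∈ normalizer (centralizer (W : Set G) : Set G) :=
    H47.normalizer_le_normalizer_centralizer W hxW
  obtain ⟨c, hc, hn₀⟩ := exists_frattini hxC hT₀ hT₀C
    (exists_frattini_le _ (centralizer_le_normalizer _) hT₀max)
  set n₀ := c⁻¹ * x with hn₀def
  have hn₀W : n₀ ∈ normalizer (W : Set G) := mul_mem (inv_mem (centralizer_le_normalizer _ hc)) hxW
  have hn₀φ : ψW ⟨n₀, hn₀W⟩ = φ := by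
    rw [show (⟨n₀, hn₀W⟩ : normalizer (W : Set G)) =
      ⟨c, centralizer_le_normalizer _ hc⟩⁻¹ * ⟨x, hxW⟩ from rfl, map_mul, map_inv,
      show ψW ⟨c, centralizer_le_normalizer _ hc⟩ = 1 from MulEquiv.ext fun e => Subtype.ext (by
        show c * e * c⁻¹ = e
        rw [← mem_centralizer_iff.1 hc e e.2, mul_inv_cancel_right]), inv_one, one_mul]
  obtain ⟨a₇, m, hm, hord⟩ :=
    Nat.exists_eq_pow_mul_and_not_dvd (orderOf_pos n₀).ne' 7 (by norm_num)
  set x₁ := n₀ ^ m with hx₁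
  have hx₁7 : x₁ ^ 7 ^ a₇ = 1 := by rw [hx₁, ← pow_mul, mul_comm, ← hord, pow_orderOf_eq_one]
  have hx₁W : x₁ ∈ normalizer (W : Set G) := pow_mem hn₀W m
  have hfix₁ : ∀ e ∈ W, x₁ * e * x₁⁻¹ = e → e = 1 := by
    intro e he h1
    have h2 : (φ ^ m) ⟨e, he⟩ = ⟨e, he⟩ := by
      rw [← hn₀φ, ← map_pow,
        show (⟨n₀, hn₀W⟩ : normalizer (W : Set G)) ^ m = ⟨x₁, hx₁W⟩ from rfl]
      exact Subtype.ext h1
    obtain ⟨j, hj⟩ := exists_pow_eq_self_of_coprime (x := φ) (n := m) (by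
      rw [hφ7]; exact ((Nat.Prime.coprime_iff_not_dvd (by norm_num)).2 hm).symm)
    refine congrArg Subtype.val (hfixW ⟨e, he⟩ ?_)
    conv_lhs => rw [← hj]
    exact MulAction.mem_stabilizer_iff.1
      (pow_mem (show φ ^ m ∈ MulAction.stabilizer (MulAut W) (⟨e, he⟩ : W) from h2) j)
  -- `A = Ω₁ Z(T₀)`
  let A : Subgroup G :=
    { carrier := {a | a ∈ T₀ ∧ a ^ 2 = 1 ∧ ∀ t ∈ T₀, Commute a t}
      one_mem' := ⟨one_mem _, one_pow _, fun t _ => Commute.one_left t⟩
      mul_mem' := fun {a b} ha hb => ⟨mul_mem ha.1 hb.1, by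
        rw [(ha.2.2 b hb.1).mul_pow, ha.2.1, hb.2.1, one_mul],
        fun t ht => (ha.2.2 t ht).mul_left (hb.2.2 t ht)⟩
      inv_mem' := fun {a} ha => ⟨inv_mem ha.1, by rw [inv_pow, ha.2.1, inv_one],
        fun t ht => (ha.2.2 t ht).inv_left⟩ }
  have hAT₀ : A ≤ T₀ := fun a ha => ha.1
  have hWA : W ≤ A := fun w hw => ⟨hWT₀ hw, hW.2 w hw, fun t ht =>
    mem_centralizer_iff.1 (hT₀C ht) w hw⟩
  have hAe : Cfsg.IsElementaryAbelian 2 A :=
    ⟨⟨⟨fun a b => Subtype.ext (a.2.2.2 b b.2.1).eq⟩⟩, fun a ha => ha.2.1⟩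
  have hAnorm : normalizer (T₀ : Set G) ≤ normalizer (A : Set G) := fun g hg => by
    refine Coprime.mem_normalizer_of_map_conj (eq_of_le_of_card_ge ?_
      (Coprime.card_map_conj _ _).ge)
    rintro _ ⟨a, ha, rfl⟩
    refine ⟨(mem_normalizer_iff.1 hg a).1 ha.1, ?_, fun t ht => ?_⟩
    · show (g * a * g⁻¹) ^ 2 = 1
      rw [conj_pow, ha.2.1]; group
    · have h1 := (ha.2.2 _ ((mem_normalizer_iff''.1 hg t).1 ht)).eq
      show g * a * g⁻¹ * t = t * (g * a * g⁻¹)
      calc g * a * g⁻¹ * t = g * (a * (g⁻¹ * t * g)) * g⁻¹ := by group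
        _ = g * (g⁻¹ * t * g * a) * g⁻¹ := by rw [h1]
        _ = t * (g * a * g⁻¹) := by group
  have hA16 : Nat.card A ≤ 16 := by
    have := hrk A ⊥ (hT₀.to_le hAT₀) bot_le (by rw [normalizer_eq_top]; exact le_top)
      fun a ha => mem_bot.2 (hAe.2 a ha)
    rwa [Subgroup.card_bot, mul_one] at this
  have hT₀A : T₀ ≤ normalizer (A : Set G) := le_normalizer.trans hAnorm
  by_cases hAW : A = W
  · exact hno.false_of_normal hT₀ hT₀N hT₀max (fun R _ _ n _ hn => hAW ▸ hAnorm hn) hWT₀ hT₀N hW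
      (by omega)
  have hA : Nat.card A = 16 := by
    have hlt : Nat.card W < Nat.card A :=
      lt_of_not_ge fun hge => hAW (eq_of_le_of_card_ge hWA hge).symm
    obtain ⟨d, hd⟩ := card_dvd_of_le hWA
    rw [h8] at hd hlt
    omega
  -- some `nu` normalizes `A` and not `W`
  obtain ⟨nu, hnuT, hnuW⟩ : ∃ nu ∈ normalizer (T₀ : Set G), nu ∉ normalizer (W : Set G) := by
    by_contra hc'
    push Not at hc'
    exact hno.false_of_normal hT₀ hT₀N hT₀max (fun R _ _ n _ hn => hc' n hn) hWT₀ hT₀N hW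
      (by omega)
  haveI hsA : Group.IsSolvable (normalizer (A : Set G)) := hG.proper_solvable _
    (hG.normalizer_ne_top (fun e => by rw [e, Subgroup.card_bot] at hA; omega)
      (hG.ne_top_of_isPGroup (hT₀.to_le hAT₀)))
  haveI : Nontrivial A := Finite.one_lt_card_iff_nontrivial.1 (by rw [hA]; norm_num)
  have hx₁T : x₁ ∈ normalizer (T₀ : Set G) := pow_mem hn₀ m
  have hx₁A : x₁ ∈ normalizer (A : Set G) := hAnorm hx₁T
  set ψA := A.normalizerMonoidHom with hψA
  set φA := ψA ⟨x₁, hx₁A⟩ with hφA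
  have hkA : φA ^ 7 ^ a₇ = 1 := by
    rw [hφA, ← map_pow, show (⟨x₁, hx₁A⟩ : normalizer (A : Set G)) ^ 7 ^ a₇ = 1 from
      Subtype.ext hx₁7, map_one]
  set WA := W.subgroupOf A with hWAdef
  have hWA8 : Nat.card WA = 8 := by rw [hWAdef, Nat.card_congr (subgroupOfEquivOfLe hWA).toEquiv, h8]
  have hfixWA : ∀ w ∈ WA, φA w = w → w = 1 := fun w hw h1 =>
    Subtype.ext (hfix₁ w hw (congrArg Subtype.val h1))
  have hordA : orderOf φA = 7 := by
    refine orderOf_eq_five_or_seven (elementary_sq_one hAe) (by rw [hA]) (Or.inr rfl) hkA fun h1 => ?_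
    obtain ⟨e, he⟩ := exists_ne (1 : W)
    have h2 := hfixWA ⟨e, hWA e.2⟩ e.2 (by rw [h1]; rfl)
    exact he (Subtype.ext (congrArg (fun a : A => (a : G)) h2))
  -- the fixed line
  set V0 := fixSub (zpowers φA) with hV0
  have hV0W : V0 ⊓ WA = ⊥ :=
    (eq_bot_iff_forall _).2 fun w hw => hfixWA w hw.2 (hw.1 φA (mem_zpowers φA))
  have hV0card : Nat.card V0 = 2 := by
    have hφp : IsPGroup 7 (zpowers φA) :=
      IsPGroup.iff_card.2 ⟨1, by rw [Nat.card_zpowers, hordA, pow_one]⟩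
    have h1 := card_fixSub_modEq hφp
    have h2 : Nat.card V0 ∣ 16 := hA ▸ V0.card_subgroup_dvd_card
    have h3 : Nat.card V0 ≠ 16 := fun e => by
      have htop := eq_top_of_card_eq V0 (e.trans hA.symm)
      rw [htop, top_inf_eq] at hV0W
      rw [hV0W, Subgroup.card_bot] at hWA8
      omega
    rw [hA, ← hV0] at h1
    have h4 : Nat.card V0 ≤ 16 := Nat.le_of_dvd (by norm_num) h2
    rw [Nat.ModEq] at h1
    interval_cases (Nat.card V0) <;> omega
  -- invariant subgroups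
  have hcases : ∀ U : Subgroup A, (∀ u ∈ U, φA u ∈ U) → U = ⊥ ∨ U = V0 ∨ U = WA ∨ U = ⊤ := by
    intro U hU
    have h1 := card_invariant_modEq hkA hU
    rw [← hV0, Nat.ModEq] at h1
    have h2 : Nat.card U ∣ 16 := hA ▸ U.card_subgroup_dvd_card
    have hd : Nat.card U ≤ 16 := Nat.le_of_dvd (by norm_num) h2
    have hpos := Nat.card_pos (α := U)
    by_cases hVU : V0 ≤ U
    · rw [inf_eq_right.2 hVU, hV0card] at h1
      have h3 : Nat.card U = 2 ∨ Nat.card U = 16 := by interval_cases (Nat.card U) <;> omega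
      rcases h3 with h3 | h3
      · exact Or.inr (Or.inl (eq_of_le_of_card_ge hVU (by rw [h3, hV0card])).symm)
      · exact Or.inr (Or.inr (Or.inr (eq_top_of_card_eq U (h3.trans hA.symm))))
    · have h0 : U ⊓ V0 = ⊥ := by
        haveI : Fact (Nat.card V0).Prime := ⟨hV0card ▸ Nat.prime_two⟩
        rcases (U.subgroupOf V0).eq_bot_or_eq_top_of_prime_card with hb | hb
        · rw [subgroupOf_eq_bot, disjoint_iff] at hb; exact hb
        · exact absurd (subgroupOf_eq_top.1 hb) hVU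
      rw [h0, Subgroup.card_bot] at h1
      have h3 : Nat.card U = 1 ∨ Nat.card U = 8 := by interval_cases (Nat.card U) <;> omega
      rcases h3 with h3 | h3
      · exact Or.inl (card_eq_one.1 h3)
      · have hWinv : ∀ u ∈ U ⊓ WA, φA u ∈ U ⊓ WA := fun u hu =>
          ⟨hU u hu.1, (mem_normalizer_iff.1 hx₁W (u : G)).1 hu.2⟩
        have h4 := card_invariant_modEq hkA hWinv
        rw [← hV0, show U ⊓ WA ⊓ V0 = ⊥ from le_bot_iff.1
          ((inf_le_inf_right _ inf_le_left).trans h0.le), Subgroup.card_bot, Nat.ModEq] at h4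
        haveI := hAe.1
        have h5 := card_sup_mul_inf (B := WA) (D := U)
          (by rw [normalizer_eq_top]; exact le_top)
        rw [h3, hWA8] at h5
        have h6 : Nat.card (U ⊔ WA : Subgroup A) ≤ 16 := hA ▸ card_le_card_group _
        have h7 : Nat.card (U ⊓ WA : Subgroup A) ≤ 8 :=
          (card_le_of_le inf_le_right).trans hWA8.le
        have h8' : Nat.card (U ⊓ WA : Subgroup A) = 8 := by
          interval_cases (Nat.card (U ⊓ WA : Subgroup A)) <;> omega
        refine Or.inr (Or.inr (Or.inl ?_))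
        exact (eq_of_le_of_card_ge (inf_le_left : U ⊓ WA ≤ U) (by rw [h3, h8'])).symm.trans
          (eq_of_le_of_card_ge (inf_le_right : U ⊓ WA ≤ WA) (by rw [hWA8, h8']))
  set F := ψA.range with hFdef
  have hFs : Group.IsSolvable F := Group.isSolvable_of_surjective ψA.rangeRestrict_surjective
  have hφF : φA ∈ F := ⟨_, rfl⟩
  have hmove : ∀ n : normalizer (A : Set G), (∀ w ∈ WA, ψA n w ∈ WA) → (n : G) ∈ normalizer (W : Set G) := by
    intro n hn'
    refine Coprime.mem_normalizer_of_map_conj (eq_of_le_of_card_ge ?_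
      (Coprime.card_map_conj _ _).ge)
    rintro _ ⟨w, hw, rfl⟩
    exact hn' ⟨w, hWA hw⟩ hw
  set O := (Cfsg.pCore 2 F).map F.subtype with hO
  have hnormO : ∀ τ ∈ F, τ ∈ normalizer (O : Set (MulAut A)) := fun τ hτ =>
    Components.le_normalizer_map_characteristic _ le_normalizer hτ
  have hO2 : IsPGroup 2 O := Cores.pCore_isPGroup.map _
  have hOne : Cfsg.pCore 2 F ≠ ⊥ := by
    intro hb
    apply hnuW
    refine hmove ⟨nu, hAnorm hnuT⟩ fun w hw => ?_
    set τ := ψA ⟨nu, hAnorm hnuT⟩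
    have hτF : τ ∈ F := ⟨_, rfl⟩
    have hn := zpowers_normal hFs ((F.card_subgroup_dvd_card).trans
      (card_mulAut_dvd (elementary_sq_one hAe) (by rw [hA]))) hb (Or.inr rfl)
      (φ := (⟨φA, hφF⟩ : F)) (by rw [← Subgroup.orderOf_coe]; exact hordA)
    obtain ⟨i, hi⟩ := mem_zpowers_iff.1 (hn.conj_mem _ (mem_zpowers _) (⟨τ, hτF⟩ : F)⁻¹)
    have hi' : φA ^ i = τ⁻¹ * φA * τ⁻¹⁻¹ := congrArg Subtype.val hi
    rcases hcases (WA.map τ.toMonoidHom) (by
      rintro _ ⟨u, hu, rfl⟩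
      refine ⟨(φA ^ i) u, ?_, ?_⟩
      · show (((φA ^ i) u : A) : G) ∈ W
        rw [hφA, ← map_zpow]
        show x₁ ^ i * (u : G) * (x₁ ^ i)⁻¹ ∈ W
        exact (mem_normalizer_iff.1 (zpow_mem hx₁W i) (u : G)).1 hu
      · show τ ((φA ^ i) u) = φA (τ u)
        rw [hi', inv_inv, MulAut.mul_apply, MulAut.mul_apply, MulAut.apply_inv_self]) with h1 | h1 | h1 | h1
    · have : Nat.card (WA.map τ.toMonoidHom) = Nat.card WA := card_map_of_injective τ.injective
      rw [h1, hWA8, Subgroup.card_bot] at this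
      omega
    · have : Nat.card (WA.map τ.toMonoidHom) = Nat.card WA := card_map_of_injective τ.injective
      rw [h1, hWA8, hV0card] at this
      omega
    · exact h1.le (mem_map_of_mem _ hw)
    · have : Nat.card (WA.map τ.toMonoidHom) = Nat.card WA := card_map_of_injective τ.injective
      rw [h1, hWA8, Subgroup.card_top, hA] at this
      omega
  have hCO : fixSub O = V0 := by
    rcases hcases (fixSub O) (fun u hu => apply_mem_fixSub (hnormO φA hφF) hu) with h1 | h1 | h1 | h1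
    · exact absurd h1 (fixSub_ne_bot (elementary_sq_one hAe) hO2)
    · exact h1
    · exfalso
      apply hnuW
      refine hmove ⟨nu, hAnorm hnuT⟩ fun w hw => ?_
      rw [← h1] at hw ⊢
      exact apply_mem_fixSub (hnormO _ ⟨_, rfl⟩) hw
    · refine absurd ?_ hOne
      refine (map_eq_bot_iff_of_injective _ F.subtype_injective).1 ((eq_bot_iff_forall _).2 fun o ho => ?_)
      exact MulEquiv.ext fun u => (show u ∈ fixSub O from h1 ▸ mem_top u) o ho
  -- the fixed involution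
  obtain ⟨v, hvV, hv1⟩ := V0.bot_or_exists_ne_one.resolve_left fun e => by
    rw [e, Subgroup.card_bot] at hV0card; omega
  have hV0v : ∀ u ∈ V0, u = 1 ∨ u = v := by
    intro u hu
    by_contra hne
    push Not at hne
    have h3 : ({1, v, u} : Set A).ncard = 3 :=
      Set.ncard_eq_three.2 ⟨1, v, u, hv1.symm, Ne.symm hne.1, Ne.symm hne.2, rfl⟩
    have hsub : ({1, v, u} : Set A) ⊆ (V0 : Set A) := by
      rintro w (rfl | rfl | rfl)
      exacts [one_mem V0, hvV, hu]
    have h4 := Set.ncard_le_ncard hsub (Set.toFinite _)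
    rw [h3, ← Nat.card_coe_set_eq] at h4
    simp only [SetLike.coe_sort_coe] at h4
    omega
  have hvn : ∀ n (hn : n ∈ normalizer (A : Set G)), ψA ⟨n, hn⟩ v = v := by
    intro n hn
    have h1 : ψA ⟨n, hn⟩ v ∈ V0 := hCO ▸ apply_mem_fixSub (hnormO _ ⟨_, rfl⟩) (hCO.symm ▸ hvV)
    refine (hV0v _ h1).resolve_left fun e => hv1 ?_
    exact (ψA ⟨n, hn⟩).injective (e.trans (map_one _).symm)
  set V : Subgroup G := V0.map A.subtype with hVdef
  have hVv : ∀ z ∈ V, z = 1 ∨ z = (v : G) := by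
    rintro _ ⟨u, hu, rfl⟩
    rcases hV0v u hu with rfl | rfl
    · exact Or.inl rfl
    · exact Or.inr rfl
  have hvVG : (v : G) ∈ V := mem_map_of_mem _ hvV
  have hv2 : (v : G) * v = 1 := by rw [← pow_two]; exact v.2.2.1
  have hVcen : ∀ n ∈ normalizer (A : Set G), ∀ z ∈ V, Commute n z := by
    intro n hn z hz
    rcases hVv z hz with rfl | rfl
    · exact Commute.one_right n
    · have h1 : n * (v : G) * n⁻¹ = v := congrArg Subtype.val (hvn n hn)
      exact mul_inv_eq_iff_eq_mul.1 h1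
  -- the quotient `A / ⟨v⟩`
  haveI := hAe.1
  haveI : V0.Normal := Subgroup.normal_of_isMulCommutative V0
  have hstab : ∀ n : normalizer (A : Set G), V0.map (ψA n).toMonoidHom = V0 := fun n => by
    refine eq_of_le_of_card_ge ?_ (card_map_of_injective (ψA n).injective).ge
    rintro _ ⟨u, hu, rfl⟩
    rcases hV0v u hu with rfl | rfl
    · rw [map_one]; exact one_mem V0
    · exact ((hvn n n.2).symm ▸ hu : ψA n u ∈ V0)
  let κ : normalizer (A : Set G) →* MulAut (A ⧸ V0) :=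
    { toFun := fun n => QuotientGroup.congr V0 V0 (ψA n) (hstab n)
      map_one' := MulEquiv.ext fun q => by
        induction q using QuotientGroup.induction_on with | _ q => simp
      map_mul' := fun a b => MulEquiv.ext fun q => by
        induction q using QuotientGroup.induction_on with | _ q => simp [MulAut.mul_apply]; rfl }
  have hκ : ∀ n a, κ n (QuotientGroup.mk a) = QuotientGroup.mk (ψA n a) := fun n a => rfl
  have hQsq : ∀ q : A ⧸ V0, q ^ 2 = 1 := fun q => by
    induction q using QuotientGroup.induction_on with | _ q =>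
    rw [← QuotientGroup.mk_pow, elementary_sq_one hAe, QuotientGroup.mk_one]
  have hQ8 : Nat.card (A ⧸ V0) = 8 := by
    have h1 := V0.card_mul_index
    rw [hV0card, hA] at h1
    show V0.index = 8
    omega
  have hQfix : ∀ q : A ⧸ V0, κ ⟨x₁, hx₁A⟩ q = q → q = 1 := by
    intro q
    induction q using QuotientGroup.induction_on with | _ a =>
    intro h1
    rw [hκ, QuotientGroup.eq] at h1
    rw [QuotientGroup.eq_one_iff]
    set z := (φA a)⁻¹ * a with hz
    have hzV : z ∈ V0 := h1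
    have hza : φA a = a * z := by
      have hzi : z⁻¹ = z := inv_eq_of_mul_eq_one_right (by rw [← pow_two]; exact elementary_sq_one hAe z)
      rw [← hzi, hz, mul_inv_rev, inv_inv, mul_inv_cancel_left]
    have h2 : φA (φA a) = a := by
      rw [hza, map_mul, hzV φA (mem_zpowers φA), hza, mul_assoc, ← pow_two, elementary_sq_one hAe,
        mul_one]
    refine mem_fixSub_zpowers ?_
    obtain ⟨j, hj⟩ := exists_pow_eq_self_of_coprime (x := φA) (n := 2) (by rw [hordA]; norm_num)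
    conv_lhs => rw [← hj]
    exact MulAction.mem_stabilizer_iff.1
      (pow_mem (show φA ^ 2 ∈ MulAction.stabilizer (MulAut A) a from by
        rw [pow_two]; exact h2) j)
  haveI : Nontrivial (A ⧸ V0) := Finite.one_lt_card_iff_nontrivial.1 (by rw [hQ8]; norm_num)
  have hκ7 : orderOf (κ ⟨x₁, hx₁A⟩) = 7 := by
    refine orderOf_eq_five_or_seven hQsq (by rw [hQ8]; norm_num) (Or.inr rfl) (k := a₇) ?_
      fun h1 => ?_
    · rw [← map_pow, show (⟨x₁, hx₁A⟩ : normalizer (A : Set G)) ^ 7 ^ a₇ = 1 from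
        Subtype.ext hx₁7, map_one]
    · obtain ⟨q, hq⟩ := exists_ne (1 : A ⧸ V0)
      exact hq (hQfix q (by rw [h1]; rfl))
  -- a Sylow subgroup of `N(A)`
  obtain ⟨T, hT₀T, hTA, hT, hTmax⟩ := exists_maximal_two hT₀ hT₀A
  have hAT : A ≤ T := hAT₀.trans hT₀T
  have hκT : ∀ t (ht : t ∈ T), κ ⟨t, hTA ht⟩ = 1 := by
    intro t ht
    obtain ⟨k, hk⟩ := hT ⟨t, ht⟩
    exact eq_one_of_two_seven hQsq hQ8 (F := κ.range)
      (Group.isSolvable_of_surjective κ.rangeRestrict_surjective) ⟨_, rfl⟩ hκ7 hQfix ⟨_, rfl⟩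
      ⟨k, by rw [← map_pow, show (⟨t, hTA ht⟩ : normalizer (A : Set G)) ^ 2 ^ k = 1 from
        Subtype.ext (congrArg Subtype.val hk :), map_one]⟩
  have hcomm : ∀ t ∈ T, ∀ a ∈ A, ⁅t, a⁆ ∈ V := by
    intro t ht a ha
    have h1 : κ ⟨t, hTA ht⟩ (QuotientGroup.mk (⟨a, ha⟩ : A)) = QuotientGroup.mk (⟨a, ha⟩ : A) := by
      rw [hκT t ht]; rfl
    rw [hκ, QuotientGroup.eq] at h1
    have h2 : (t * a * t⁻¹)⁻¹ * a ∈ V := mem_map_of_mem A.subtype h1
    have e : ⁅t, a⁆ = a * ((t * a * t⁻¹)⁻¹ * a)⁻¹ * a⁻¹ := by rw [commutatorElement_def]; group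
    rw [e]
    have haz : ∀ z ∈ V, a * z * a⁻¹ = z := fun z hz => by
      rw [(hVcen a (le_normalizer ha) z hz).eq, mul_inv_cancel_right]
    rw [haz _ (inv_mem h2)]
    exact inv_mem h2
  refine hno.false_of_normal hT hTA hTmax (fun R hR hTR n hnR hn => ?_) hAT hTA hAe (by omega)
  set A' := A.map (MulAut.conj n).toMonoidHom with hA'
  have hA'T : A' ≤ T := (map_mono hAT).trans_eq (Coprime.map_conj_eq hn)
  have hA'e : Cfsg.IsElementaryAbelian 2 A' := elementary_conj hAe n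
  refine Coprime.mem_normalizer_of_map_conj ?_
  by_contra hne
  have hnle : ¬ A' ≤ A := fun hle => hne (eq_of_le_of_card_ge hle (Coprime.card_map_conj n A).ge)
  obtain ⟨a', ha', a, ha, haa⟩ : ∃ a' ∈ A', ∃ a ∈ A, ⁅a', a⁆ ≠ 1 := by
    by_contra hc'
    push Not at hc'
    have hsq : ∀ w ∈ A' ⊔ A, w ^ 2 ∈ (⊥ : Subgroup G) := by
      intro w hw
      rw [sup_comm] at hw
      obtain ⟨a, ha, b, hb, rfl⟩ := (Coprime.mem_sup_iff (hA'T.trans hTA)).1 hw
      rw [mem_bot, (commutatorElement_eq_one_iff_commute.1 (hc' b hb a ha)).symm.mul_pow, hAe.2 a ha,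
        hA'e.2 b hb, one_mul]
    have h1 := hrk _ ⊥ (hT.to_le (sup_le hA'T hAT)) bot_le (by rw [normalizer_eq_top]; exact le_top) hsq
    rw [Subgroup.card_bot, mul_one, ← hA] at h1
    exact hnle (le_sup_left.trans (eq_of_le_of_card_ge (le_sup_right : A ≤ A' ⊔ A) h1).ge)
  -- `v` is fixed by `n`
  have hnv : ∀ z ∈ V, n * z * n⁻¹ = z := by
    have h1 : ⁅a', a⁆ = v := (hVv _ (hcomm a' (hA'T ha') a ha)).resolve_left haa
    obtain ⟨a₁, ha₁, rfl⟩ := ha'
    have hat : n⁻¹ * a * n ∈ T := (mem_normalizer_iff''.1 hn a).1 (hAT ha)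
    have h2 : ⁅n⁻¹ * a * n, a₁⁆⁻¹ = v := by
      refine ((hVv _ (inv_mem (hcomm _ hat a₁ ha₁))).resolve_left fun e => haa ?_)
      rw [show ⁅(MulAut.conj n).toMonoidHom a₁, a⁆ = n * ⁅n⁻¹ * a * n, a₁⁆⁻¹ * n⁻¹ by
        simp only [MulEquiv.coe_toMonoidHom, MulAut.conj_apply, commutatorElement_def]; group, e]
      group
    intro z hz
    rcases hVv z hz with rfl | rfl
    · group
    · nth_rw 1 [← h2]
      rw [← h1]
      simp only [MulEquiv.coe_toMonoidHom, MulAut.conj_apply, commutatorElement_def]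
      group
  have hcomm' : ∀ t ∈ T, ∀ b ∈ A', ⁅t, b⁆ ∈ V := by
    rintro t ht _ ⟨b, hb, rfl⟩
    have e : ⁅t, (MulAut.conj n).toMonoidHom b⁆ = n * ⁅n⁻¹ * t * n, b⁆ * n⁻¹ := by
      simp only [MulEquiv.coe_toMonoidHom, MulAut.conj_apply, commutatorElement_def]; group
    have h1 := hcomm _ ((mem_normalizer_iff''.1 hn t).1 ht) b hb
    rw [e, hnv _ h1]
    exact h1
  -- an element of `N(A) ∩ N(T)` acting like `x₁` modulo `v`
  set Kr := κ.ker.map (normalizer (A : Set G)).subtype with hKr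
  have hKrN : Kr ≤ normalizer (A : Set G) := map_subtype_le _
  have hTKr : T ≤ Kr := fun t ht => ⟨⟨t, hTA ht⟩, hκT t ht, rfl⟩
  have hxKr : x₁ ∈ normalizer (Kr : Set G) := by
    refine Coprime.mem_normalizer_of_map_conj (eq_of_le_of_card_ge ?_
      (Coprime.card_map_conj _ _).ge)
    rintro _ ⟨_, ⟨⟨k, hk⟩, hk1, rfl⟩, rfl⟩
    exact mem_map_of_mem (normalizer (A : Set G)).subtype
      ((MonoidHom.normal_ker κ).conj_mem ⟨k, hk⟩ hk1 ⟨x₁, hx₁A⟩)
  obtain ⟨d, hd, hyT⟩ := exists_frattini hxKr hT hTKr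
    (exists_frattini_le _ hKrN hTmax)
  set y := d⁻¹ * x₁ with hy
  have hyA : y ∈ normalizer (A : Set G) := mul_mem (inv_mem (hKrN hd)) hx₁A
  have hκy : κ ⟨y, hyA⟩ = κ ⟨x₁, hx₁A⟩ := by
    obtain ⟨d₀, hd₀, rfl⟩ := hd
    rw [show (⟨y, hyA⟩ : normalizer (A : Set G)) = d₀⁻¹ * ⟨x₁, hx₁A⟩ from rfl, map_mul, map_inv,
      MonoidHom.mem_ker.1 hd₀, inv_one, one_mul]
  have hVsq : ∀ z ∈ V, z * z = 1 := fun z hz => by
    rcases hVv z hz with rfl | rfl
    · exact one_mul 1
    · exact hv2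
  let P : Subgroup G :=
    { carrier := {g | g ∈ T ∧ g ^ 2 ∈ V ∧ ∀ t ∈ T, ⁅t, g⁆ ∈ V}
      one_mem' := ⟨one_mem _, by rw [one_pow]; exact one_mem V, fun t _ => by
        rw [commutatorElement_one_right]; exact one_mem V⟩
      mul_mem' := fun {g k} hg hk => ⟨mul_mem hg.1 hk.1, by
        have e : (g * k) ^ 2 = g ^ 2 * (g⁻¹ * ⁅k, g⁆ * g) * k ^ 2 := by
          simp only [pow_two, commutatorElement_def]; group
        rw [e, mul_assoc g⁻¹, ← (hVcen g (hTA hg.1) _ (hg.2.2 k hk.1)).eq, inv_mul_cancel_left]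
        exact mul_mem (mul_mem hg.2.1 (hg.2.2 k hk.1)) hk.2.1, fun t ht => by
        rw [show ⁅t, g * k⁆ = ⁅t, g⁆ * (g * ⁅t, k⁆ * g⁻¹) by
          simp only [commutatorElement_def]; group, (hVcen g (hTA hg.1) _ (hk.2.2 t ht)).eq,
          mul_inv_cancel_right]
        exact mul_mem (hg.2.2 t ht) (hk.2.2 t ht)⟩
      inv_mem' := fun {g} hg => ⟨inv_mem hg.1, by rw [inv_pow]; exact inv_mem hg.2.1, fun t ht => by
        rw [show ⁅t, g⁻¹⁆ = g⁻¹ * ⁅t, g⁆⁻¹ * g by simp only [commutatorElement_def]; group,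
          mul_assoc, ← (hVcen g (hTA hg.1) _ (inv_mem (hg.2.2 t ht))).eq, inv_mul_cancel_left]
        exact inv_mem (hg.2.2 t ht)⟩ }
  have hAP : A ≤ P := fun b hb => ⟨hAT hb, by rw [hAe.2 b hb]; exact one_mem V,
    fun t ht => hcomm t ht b hb⟩
  have hA'P : A' ≤ P := fun b hb => ⟨hA'T hb, by rw [hA'e.2 b hb]; exact one_mem V,
    fun t ht => hcomm' t ht b hb⟩
  have hPT : P ≤ T := fun g hg => hg.1
  have hVP : V ≤ P := (map_subtype_le V0).trans hAP
  have hVn : T ≤ normalizer (V : Set G) := fun t ht =>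
    centralizer_le_normalizer _ (mem_centralizer_iff.2 fun z hz => (hVcen t (hTA ht) z hz).eq.symm)
  have hP32 : Nat.card P ≤ 32 := by
    have h1 := hrk P V (hT.to_le hPT) hVP (hPT.trans hVn) fun g hg => hg.2.1
    rw [hVdef, card_map_of_injective A.subtype_injective, hV0card] at h1
    exact h1
  have hyP : ∀ g ∈ P, y * g * y⁻¹ ∈ P := by
    intro g hg
    refine ⟨(mem_normalizer_iff.1 hyT g).1 hg.1, ?_, fun t ht => ?_⟩
    · rw [conj_pow, (hVcen y hyA _ hg.2.1).eq, mul_inv_cancel_right]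
      exact hg.2.1
    · have h1 := hg.2.2 _ ((mem_normalizer_iff''.1 hyT t).1 ht)
      have e : ⁅t, y * g * y⁻¹⁆ = y * ⁅y⁻¹ * t * y, g⁆ * y⁻¹ := by
        simp only [commutatorElement_def]; group
      rw [e, (hVcen y hyA _ h1).eq, mul_inv_cancel_right]
      exact h1
  have ha'A : a' ∉ A := fun h' => haa (commutatorElement_eq_one_iff_commute.2
    (elementary_comm hAe h' ha))
  -- `P = A ∪ a'A`
  have hPcov : ∀ g ∈ P, g ∈ A ∨ a'⁻¹ * g ∈ A := by
    intro g hg
    by_contra hc'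
    push Not at hc'
    have hd' : Disjoint ((A : Set G) ∪ (fun z => a' * z) '' (A : Set G)) {g} := by
      rw [Set.disjoint_singleton_right]
      rintro (h1 | ⟨z, hz, h1⟩)
      · exact hc'.1 h1
      · exact hc'.2 (by rw [← h1, inv_mul_cancel_left]; exact hz)
    have hd2 : Disjoint (A : Set G) ((fun z => a' * z) '' (A : Set G)) := by
      rw [Set.disjoint_left]
      rintro z hz ⟨w, hw, rfl⟩
      have hm := A.mul_mem hz (A.inv_mem hw)
      rw [mul_inv_cancel_right] at hm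
      exact ha'A hm
    have hsub : (A : Set G) ∪ (fun z => a' * z) '' (A : Set G) ∪ {g} ⊆ (P : Set G) := by
      rintro z ((hz | ⟨w, hw, rfl⟩) | rfl)
      exacts [hAP hz, mul_mem (hA'P ha') (hAP hw), hg]
    have h1 := Set.ncard_le_ncard hsub (Set.toFinite _)
    rw [Set.ncard_union_eq hd' (Set.toFinite _) (Set.toFinite _),
      Set.ncard_union_eq hd2 (Set.toFinite _) (Set.toFinite _),
      Set.ncard_image_of_injective _ (mul_right_injective a'), Set.ncard_singleton,
      ← Nat.card_coe_set_eq, ← Nat.card_coe_set_eq (P : Set G)] at h1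
    simp only [SetLike.coe_sort_coe] at h1
    omega
  -- the centralizer of `P` in `A` is `y`-invariant
  set C := A ⊓ centralizer (P : Set G) with hC
  have hyC : ∀ u ∈ C, y * u * y⁻¹ ∈ C := by
    intro u hu
    have hP' : P.map (MulAut.conj y).toMonoidHom = P := by
      refine eq_of_le_of_card_ge ?_ (Coprime.card_map_conj _ _).ge
      rintro _ ⟨g, hg, rfl⟩
      exact hyP g hg
    refine ⟨(mem_normalizer_iff.1 hyA u).1 hu.1, mem_centralizer_iff.2 fun g hg => ?_⟩
    obtain ⟨g₀, hg₀, rfl⟩ : g ∈ P.map (MulAut.conj y).toMonoidHom := hP'.symm ▸ hg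
    show (MulAut.conj y) g₀ * (MulAut.conj y) u = (MulAut.conj y) u * (MulAut.conj y) g₀
    rw [← map_mul, ← map_mul, mem_centralizer_iff.1 hu.2 g₀ hg₀]
  have hVC : V ≤ C := fun z hz => ⟨map_subtype_le V0 hz,
    mem_centralizer_iff.2 fun g hg => hVcen g (hTA (hPT hg)) z hz⟩
  have hCbig : Nat.card A ≤ 2 * Nat.card C := by
    refine card_le_two_mul fun b hb hbC c hc' hcC =>
      ⟨A.mul_mem (A.inv_mem hb) hc', mem_centralizer_iff.2 fun g hg => ?_⟩
    have hnot : ∀ u ∈ A, u ∉ C → ⁅a', u⁆ = v := fun u hu huC => by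
      refine (hVv _ (hcomm a' (hA'T ha') u hu)).resolve_left fun e => huC ⟨hu, ?_⟩
      refine mem_centralizer_iff.2 fun g hg => ?_
      rcases hPcov g hg with hgA | hgA
      · exact (elementary_comm hAe hgA hu).eq
      · rw [← mul_inv_cancel_left a' g]
        exact ((commutatorElement_eq_one_iff_commute.1 e).mul_left (elementary_comm hAe hgA hu)).eq
    have e1 : ⁅a', b⁻¹ * c⁆ = 1 := by
      have hbi : b⁻¹ = b := inv_eq_of_mul_eq_one_right (by rw [← pow_two]; exact hAe.2 b hb)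
      have hbN : Commute b (v : G) := hVcen b (le_normalizer hb) _ hvVG
      rw [hbi, show ⁅a', b * c⁆ = ⁅a', b⁆ * (b * ⁅a', c⁆ * b⁻¹) by
        simp only [commutatorElement_def]; group, hnot b hb hbC, hnot c hc' hcC, hbN.eq,
        mul_inv_cancel_right, hv2]
    rcases hPcov g hg with hgA | hgA
    · exact (elementary_comm hAe hgA (A.mul_mem (A.inv_mem hb) hc')).eq
    · rw [← mul_inv_cancel_left a' g]
      exact ((commutatorElement_eq_one_iff_commute.1 e1).mul_left
        (elementary_comm hAe hgA (A.mul_mem (A.inv_mem hb) hc'))).eq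
  have hCA : C = A := by
    rcases (irred_seven hQ8 hκ7 hQfix) ((C.subgroupOf A).map (QuotientGroup.mk' V0)) (by
      rintro _ ⟨u, hu, rfl⟩
      refine ⟨ψA ⟨y, hyA⟩ u, hyC _ hu, ?_⟩
      rw [← hκy]; rfl) with h1 | h1
    · exfalso
      have h2 : C.subgroupOf A ≤ V0 := by
        intro u hu
        have h3 : QuotientGroup.mk' V0 u ∈ (C.subgroupOf A).map (QuotientGroup.mk' V0) :=
          mem_map_of_mem _ hu
        rw [h1, mem_bot] at h3
        exact (QuotientGroup.eq_one_iff u).1 h3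
      have h4 := card_le_of_le h2
      rw [Nat.card_congr (subgroupOfEquivOfLe (inf_le_left : C ≤ A)).toEquiv, hV0card] at h4
      have h5 : Nat.card C ≤ 2 := h4
      omega
    · refine le_antisymm inf_le_left fun u hu => ?_
      obtain ⟨w, hw, hwe⟩ : (QuotientGroup.mk' V0 (⟨u, hu⟩ : A)) ∈
          (C.subgroupOf A).map (QuotientGroup.mk' V0) := h1 ▸ mem_top _
      have h2 : (w : G)⁻¹ * u ∈ V := mem_map_of_mem A.subtype (QuotientGroup.eq.1 hwe)
      have h3 : (w : G) * ((w : G)⁻¹ * u) ∈ C := C.mul_mem hw (hVC h2)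
      rwa [mul_inv_cancel_left] at h3
  have ha_C : a ∈ C := hCA.symm ▸ ha
  exact haa (commutatorElement_eq_one_iff_commute.2 (mem_centralizer_iff.1 ha_C.2 a' (hA'P ha')))

end Cfsg.Agent.H63.TwoGen.NoMoved
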