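import Cfsg.Agent.H63.TwoGen.NoMoved.TwoCase
import Mathlib

/-!
# Piece D: no moved special group of order 64

The cores of `C(e)`, `e ∈ Z#`, give a proper `M` controlling the involutions of `Z`.
-/

set_option autoImplicit false
set_option linter.style.haveILetI false
open Cfsg

namespace Cfsg.Agent.H63.TwoGen.NoMoved

open Subgroup
open scoped commutatorElement
open Cfsg.Agent.H47 (coreOf coreOf_le le_normalizer_coreOf coprime_coreOf le_coreOf
  coreOf_centralizer_le coreOf_le_centralizer_pCore map_coreOf_le)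

universe u

variable {G : Type u} [Group G] [Finite G] {Y Z : Subgroup G} {x : G}

/-- `O(C_K(e)) ≤ O(K)` for a soluble `K` and an element `e` of 2-power order. -/
theorem coreOf_inf_centralizer_le {K : Subgroup G} (hK : Group.IsSolvable K) {e : G} (he : e ∈ K)
    (he2 : e ^ 2 = 1) : coreOf 2 (K ⊓ centralizer ({e} : Set G)) ≤ coreOf 2 K := by
  haveI : Fact (Nat.Prime 2) := ⟨Nat.prime_two⟩
  haveI := hK
  set N := Cfsg.pPrimeCore 2 K with hN
  set π := QuotientGroup.mk' N
  haveI : Group.IsSolvable (K ⧸ N) :=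
    Group.isSolvable_of_surjective (QuotientGroup.mk'_surjective N)
  intro d hd
  have hdK : d ∈ K := (coreOf_le _ hd).1
  refine ⟨⟨d, hdK⟩, ?_, rfl⟩
  set D := (coreOf 2 (K ⊓ centralizer ({e} : Set G))).subgroupOf K with hD
  have hDQ : (Nat.card (D.map π)).Coprime 2 := by
    refine Nat.Coprime.coprime_dvd_left (Subgroup.card_map_dvd _ _) ?_
    rw [Nat.card_congr (subgroupOfEquivOfLe ((coreOf_le _).trans inf_le_left)).toEquiv]
    exact coprime_coreOf _
  set C := centralizer ({(⟨e, he⟩ : K)} : Set K)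
  have h1 : D ≤ coreOf 2 C := by
    refine le_coreOf ?_ ?_ ?_
    · intro w hw
      exact mem_centralizer_singleton_iff.2
        (Subtype.ext (mem_centralizer_singleton_iff.1 (coreOf_le _ hw).2))
    · refine le_normalizer_iff.2 fun c hc w hw => ?_
      have hcC : (c : G) ∈ K ⊓ centralizer ({e} : Set G) :=
        ⟨c.2, mem_centralizer_singleton_iff.2
          (congrArg Subtype.val (mem_centralizer_singleton_iff.1 hc))⟩
      show ((c * w * c⁻¹ : K) : G) ∈ coreOf 2 (K ⊓ centralizer ({e} : Set G))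
      exact Coprime.conj_mem (le_normalizer_coreOf _ hcC)
        (show (w : G) ∈ coreOf 2 (K ⊓ centralizer ({e} : Set G)) from hw)
    · rw [Nat.card_congr (subgroupOfEquivOfLe ((coreOf_le _).trans inf_le_left)).toEquiv]
      exact coprime_coreOf _
  have h2 : D.map π ≤ coreOf 2 (centralizer ({π ⟨e, he⟩} : Set (K ⧸ N))) := by
    refine le_trans ((map_mono h1).trans (map_coreOf_le π C)) ?_
    refine le_coreOf ((coreOf_le _).trans ?_) ?_ (coprime_coreOf _)
    · rintro _ ⟨c, hc, rfl⟩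
      refine mem_centralizer_singleton_iff.2 ?_
      rw [← map_mul, ← map_mul, mem_centralizer_singleton_iff.1 hc]
    · refine le_of_eq_of_le ?_ (le_normalizer_coreOf _)
      -- the centralizer in the quotient is the image of the centralizer
      have hR : IsPGroup 2 (zpowers (⟨e, he⟩ : K)) := by
        refine IsPGroup.of_card_dvd_pow (n := 1) ?_
        rw [Nat.card_zpowers, pow_one]
        exact orderOf_dvd_of_pow_eq_one (Subtype.ext he2)
      have h3 := Cores.map_centralizer_of_coprime (p := 2) N Cores.coprime_card_pPrimeCore hR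
      rw [MonoidHom.map_zpowers, zpowers_eq_closure, zpowers_eq_closure, centralizer_closure,
        centralizer_closure] at h3
      exact h3.symm
  have hR' : IsPGroup 2 (zpowers (π ⟨e, he⟩)) := by
    refine IsPGroup.of_card_dvd_pow (n := 1) ?_
    rw [Nat.card_zpowers, pow_one]
    exact orderOf_dvd_of_pow_eq_one (by
      rw [← map_pow, show (⟨e, he⟩ : K) ^ 2 = 1 from Subtype.ext he2, map_one])
  have h4 : D.map π ≤ Cfsg.pCore 2 (K ⧸ N) :=
    ((h2.trans (coreOf_centralizer_le _)).trans (coreOf_le_centralizer_pCore hR')).trans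
      (Cores.centralizer_pCore_le Cores.isPSolvable_of_isSolvable
        Cores.pPrimeCore_quotient_pPrimeCore)
  have h5 : D.map π = ⊥ := by
    have := Cores.disjoint_of_isPGroup_of_coprime
      (Cores.pCore_isPGroup (p := 2) (G := K ⧸ N)) hDQ
    rwa [inf_eq_right.2 h4] at this
  have h6 : π ⟨d, hdK⟩ = 1 := by
    rw [← mem_bot, ← h5]; exact mem_map_of_mem π hd
  exact (QuotientGroup.eq_one_iff _).1 h6

/-- Elements of the core normalizing `Y` centralize it. -/
theorem commute_of_mem_core {H : Subgroup G} (hY : IsPGroup 2 Y) (hYH : Y ≤ H) {o : G}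
    (ho : o ∈ coreOf 2 H) (hoY : o ∈ normalizer (Y : Set G)) : ∀ y ∈ Y, Commute o y := by
  intro y hy
  refine commutatorElement_eq_one_iff_commute.1 ?_
  have h1 : ⁅o, y⁆ ∈ Y := by
    rw [commutatorElement_def]
    exact Y.mul_mem ((mem_normalizer_iff.1 hoY y).1 hy) (Y.inv_mem hy)
  have h2 : ⁅o, y⁆ ∈ coreOf 2 H := by
    rw [commutatorElement_def, mul_assoc, mul_assoc]
    refine (coreOf 2 H).mul_mem ho ?_
    rw [← mul_assoc]
    exact Coprime.conj_mem ((hYH.trans (le_normalizer_coreOf H)) hy) ((coreOf 2 H).inv_mem ho)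
  exact mem_bot.1 ((Coprime.inf_eq_bot (coprime_two_coreOf (H := H) hY)).le ⟨h1, h2⟩)

omit [Finite G] in
theorem Sp.zpowers_elementary (h : Sp Y Z x) : Cfsg.IsElementaryAbelian 2 Z :=
  ⟨⟨⟨fun a b => Subtype.ext (h.central a a.2 b (h.le b.2)).eq⟩⟩, h.zsq⟩

/-- For `|Z| = 4`, 3-subgroups of `C(e)` normalized by `Z` lie in `O(C(e))`. -/
theorem Sp.mem_core_of_three (h : Sp Y Z x) (hG : Hyp G) (hrk : Rk G) (h4 : Nat.card Z = 4) {e : G}
    (he : e ∈ Z) (he1 : e ≠ 1) {U : Subgroup G} (hU : IsPGroup 3 U)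
    (hZU : Z ≤ normalizer (U : Set G)) {u : G} (hu : u ∈ U)
    (huC : u ∈ centralizer ({e} : Set G)) : u ∈ coreOf 2 (centralizer ({e} : Set G)) := by
  haveI : Fact (Nat.Prime 2) := ⟨Nat.prime_two⟩
  set H := centralizer ({e} : Set G) with hH
  have hHs : Group.IsSolvable H := hG.centralizer_solvable he1
  have hYH : Y ≤ H := fun y hy => mem_centralizer_singleton_iff.2 (h.central e he y hy).eq.symm
  have hxH : x ∈ H := mem_centralizer_singleton_iff.2 (h.xZ e he).eq
  have hodd : ∀ w ∈ U, Odd (orderOf w) := fun w hw => by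
    obtain ⟨k, hk⟩ := hU ⟨w, hw⟩
    exact Odd.of_dvd_nat (Odd.pow (by decide : Odd 3))
      (orderOf_dvd_of_pow_eq_one (congrArg Subtype.val hk :))
  set O := coreOf 2 H with hO
  have hn := h.local_le_normalizer hrk hHs hxH hYH
  -- `u` commutes with `Z` modulo `O`
  have hcomm : ∀ z ∈ Z, ⁅u, z⁆ ∈ O := by
    intro z hz
    have h1 : ⁅u, z⁆ ∈ U := by
      rw [commutatorElement_def, mul_assoc, mul_assoc, ← mul_assoc z]
      exact U.mul_mem hu (Coprime.conj_mem (hZU hz) (U.inv_mem hu))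
    have h2 : ⁅u, z⁆ ∈ O ⊔ Y := by
      rw [commutatorElement_def]
      exact mul_mem (Coprime.conj_mem (hn huC) (mem_sup_right (h.le hz)))
        (inv_mem (mem_sup_right (h.le hz)))
    have h3 : ⁅u, z⁆ ∈ H := by
      rw [commutatorElement_def]
      exact mul_mem (mul_mem (mul_mem huC (hYH (h.le hz))) (inv_mem huC))
        (inv_mem (hYH (h.le hz)))
    exact h.mem_core_of_odd hYH h3 (hodd _ h1) h2
  -- split `u = o n`
  set Y' := Y.map (MulAut.conj u).toMonoidHom
  obtain ⟨o, ho, hoe⟩ := h.exists_conj hrk hHs hxH hYH (h.conj u)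
    (mul_mem (mul_mem huC hxH) (inv_mem huC))
    (by rintro _ ⟨y, hy, rfl⟩; exact mul_mem (mul_mem huC (hYH hy)) (inv_mem huC))
    (Coprime.card_map_conj _ _)
  set n := o⁻¹ * u with hndef
  have hnN : n ∈ normalizer (Y : Set G) := Coprime.mem_normalizer_of_map_conj (by
    rw [hndef, ← Coprime.map_conj_map_conj, hoe, Coprime.map_conj_map_conj, inv_mul_cancel,
      Coprime.map_conj_one])
  have hnH : n ∈ H := mul_mem (inv_mem (coreOf_le _ ho)) huC
  have hOn : ∀ z ∈ Z, z ∈ normalizer (O : Set G) := fun z hz => le_normalizer_coreOf H (hYH (h.le hz))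
  have hnZ : ∀ z ∈ Z, Commute n z := by
    intro z hz
    refine commutatorElement_eq_one_iff_commute.1 ?_
    have h1 : ⁅n, z⁆ ∈ Z := by
      rw [commutatorElement_def]
      exact Z.mul_mem ((mem_normalizer_iff.1 (h.normalizer_le hnN) z).1 hz) (Z.inv_mem hz)
    have h2 : ⁅n, z⁆ ∈ O := by
      have e' : ⁅n, z⁆ = o⁻¹ * ⁅u, z⁆ * (z * o * z⁻¹) := by
        rw [hndef, commutatorElement_def, commutatorElement_def]; group
      rw [e']
      exact mul_mem (mul_mem (inv_mem ho) (hcomm z hz)) (Coprime.conj_mem (hOn z hz) ho)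
    exact mem_bot.1 ((Coprime.inf_eq_bot (coprime_two_coreOf (H := H) h.pY)).le ⟨h.le h1, h2⟩)
  -- a 3-power of `n` lies in `O`
  obtain ⟨k, hk⟩ := hU ⟨u, hu⟩
  have hk' : u ^ 3 ^ k = 1 := congrArg Subtype.val hk
  have hnk : n ^ 3 ^ k ∈ O := by
    set L := normalizer (O : Set G)
    haveI : (O.subgroupOf L).Normal := normal_subgroupOf_of_le_normalizer le_rfl
    set q := QuotientGroup.mk' (O.subgroupOf L)
    have hnL : n ∈ L := le_normalizer_coreOf H hnH
    have e1 : q ⟨n, hnL⟩ = q ⟨u, le_normalizer_coreOf H huC⟩ := by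
      rw [show (⟨u, le_normalizer_coreOf H huC⟩ : L) = ⟨o, le_normalizer ho⟩ * ⟨n, hnL⟩ from
        Subtype.ext (by show u = o * n; rw [hndef, mul_inv_cancel_left]), map_mul,
        show q ⟨o, le_normalizer ho⟩ = 1 from (QuotientGroup.eq_one_iff _).2 ho, one_mul]
    have h1 : q (⟨n, hnL⟩ ^ 3 ^ k) = 1 := by
      rw [map_pow, e1, ← map_pow,
        show (⟨u, le_normalizer_coreOf H huC⟩ : L) ^ 3 ^ k = 1 from Subtype.ext hk', map_one]
    exact mem_subgroupOf.1 ((QuotientGroup.eq_one_iff _).1 h1)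
  have hnkC := commute_of_mem_core h.pY hYH hnk (pow_mem hnN _)
  have hψk : modHom Y ⟨n, hnN⟩ ^ 3 ^ k = 1 := by
    rw [← map_pow]
    refine (h.act_eq_one_iff (pow_mem hnN _)).2 fun y hy => ?_
    rw [commutatorElement_eq_one_iff_commute.2 (hnkC y hy)]
    exact one_mem Z
  -- the 3-part of `n`
  obtain ⟨a, m, hm, hord⟩ :=
    Nat.exists_eq_pow_mul_and_not_dvd (orderOf_pos n).ne' 3 (by norm_num)
  have hs := h.normalizer_solvable hG
  have h3 := h.act_three h4 hs (pow_mem hnN m) (m := a)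
    (by rw [← pow_mul, mul_comm, ← hord, pow_orderOf_eq_one])
    fun z hz => (hnZ z hz).pow_left m
  rw [show (⟨n ^ m, pow_mem hnN m⟩ : normalizer (Y : Set G)) = ⟨n, hnN⟩ ^ m from rfl, map_pow] at h3
  have hψ1 : modHom Y ⟨n, hnN⟩ = 1 := by
    have h5 := Nat.dvd_gcd (orderOf_dvd_of_pow_eq_one h3) (orderOf_dvd_of_pow_eq_one hψk)
    rw [(((Nat.prime_three.coprime_iff_not_dvd).2 hm).symm.pow_right k).gcd_eq_one, Nat.dvd_one] at h5
    exact orderOf_eq_one_iff.1 h5
  -- `n` centralizes `Y`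
  have hnC : n ∈ centralizer (Y : Set G) := by
    refine mem_centralizer_iff.2 fun y hy => ?_
    have hl := (h.act_eq_one_iff hnN).1 hψ1 y hy
    have h2 : Commute (n ^ 2) y := by
      have hfix : n * ⁅n, y⁆ = ⁅n, y⁆ * n := (hnZ _ hl).eq
      have e' : n ^ 2 * y * (n ^ 2)⁻¹ = n * ⁅n, y⁆ * n⁻¹ * ⁅n, y⁆ * y := by
        simp only [pow_two, commutatorElement_def]; group
      rw [hfix, mul_inv_cancel_right, ← pow_two, h.zsq _ hl, one_mul, mul_inv_eq_iff_eq_mul] at e'
      exact e'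
    obtain ⟨j, hj⟩ : ∃ j, 3 ^ k = 2 * j + 1 := Odd.pow (by decide : Odd 3)
    have h6 := hnkC y hy
    rw [hj, pow_succ, pow_mul] at h6
    have h7 : Commute n y := by
      have := (h2.pow_left j).inv_left.mul_left h6
      rwa [inv_mul_cancel_left] at this
    exact h7.eq.symm
  refine h.mem_core_of_odd hYH huC (hodd u hu) ?_
  have := h.centralizer_le_local hrk hHs hxH hYH ⟨hnH, hnC⟩
  have h8 := mul_mem (mem_sup_left (T := Y) ho) this
  rwa [hndef, mul_inv_cancel_left] at h8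

/-- There is no moved special group of order 64. -/
theorem Sp.false_of_card_four (h : Sp Y Z x) (hG : Hyp G) (hrk : Rk G)
    (hrkr : ∀ r : ℕ, r.Prime → 5 ≤ r → Cfsg.PRankLE r 2 G) (h4 : Nat.card Z = 4) : False := by
  haveI : Fact (Nat.Prime 2) := ⟨Nat.prime_two⟩
  haveI : Fact (Nat.Prime 3) := ⟨Nat.prime_three⟩
  haveI := hG.nontrivial
  have hZe := h.zpowers_elementary
  haveI := hZe.1
  have hZ2 : Nat.card Z = 2 ^ 2 := by rw [h4]; norm_num
  obtain ⟨T, hYT, hTN, hT, hTmax⟩ := exists_maximal_two h.pY (le_normalizer (H := Y))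
  have hfus : ∀ c ∈ Z, c ≠ 1 → ∀ g : G, g * c * g⁻¹ ∈ T → g * c * g⁻¹ ∈ Z := by
    intro c hc hc1 g hg
    refine h.mem_Z_of_sq h4 (h.mem_Y_of_conj hG hrk hrkr hT hYT hTN hc hc1 hg) ?_
    rw [conj_pow, h.zsq c hc]; group
  have hYC : ∀ e ∈ Z, Y ≤ centralizer ({e} : Set G) := fun e he y hy =>
    mem_centralizer_singleton_iff.2 (h.central e he y hy).eq.symm
  have hxC : ∀ e ∈ Z, x ∈ centralizer ({e} : Set G) := fun e he =>
    mem_centralizer_singleton_iff.2 (h.xZ e he).eq
  have hmovH : ∀ (n c : G), c ∈ Z → ∀ w ∈ centralizer ({c} : Set G),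
      n * w * n⁻¹ ∈ centralizer ({n * c * n⁻¹} : Set G) := by
    intro n c hc w hw
    refine mem_centralizer_singleton_iff.2 ?_
    have h3 := mem_centralizer_singleton_iff.1 hw
    calc n * w * n⁻¹ * (n * c * n⁻¹) = n * (w * c) * n⁻¹ := by group
      _ = n * (c * w) * n⁻¹ := by rw [h3]
      _ = n * c * n⁻¹ * (n * w * n⁻¹) := by group
  obtain ⟨c, hc, hc1⟩ := Z.bot_or_exists_ne_one.resolve_left fun e => by
    rw [e, Subgroup.card_bot] at h4; omega
  -- `T` is a Sylow subgroup of `G`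
  obtain ⟨S, hS⟩ := exists_sylow_eq hT fun R hR hTR n hnR hn => by
    refine mem_of_maximal_two hR hTR hTN hTmax hnR ?_
    have hc' : n * c * n⁻¹ ∈ Z :=
      hfus c hc hc1 n ((mem_normalizer_iff.1 hn c).1 (hYT (h.le hc)))
    refine Coprime.mem_normalizer_of_map_conj ?_
    refine h.eq_of_common hrk (hG.centralizer_solvable fun e => hc1 (conj_eq_one_iff.1 e))
      (hxC _ hc') (hYC _ hc') (h.conj n) (hmovH n c hc x (hxC c hc)) ?_ (Coprime.card_map_conj _ _)
      hT hYT ((map_mono hYT).trans_eq (Coprime.map_conj_eq hn))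
    rintro _ ⟨y, hy, rfl⟩
    exact hmovH n c hc y (hYC c hc hy)
  set θ : G → Subgroup G := fun e => coreOf 2 (centralizer ({e} : Set G)) with hθ
  have hcore : InvInCore 2 Z 3 := by
    intro K hK hZK U hUK hU
    have hUcop : (Nat.card U).Coprime 2 := by
      obtain ⟨k, hk⟩ := IsPGroup.iff_card.1 hU.1
      rw [hk]; exact (by norm_num : Nat.Coprime 3 2).pow_left k
    refine le_of_plane hZe hZ2 hU.2 hUcop fun e he he1 w hw => ?_
    refine coreOf_inf_centralizer_le (hG.proper_solvable K hK) (hZK he) (h.zsq e he) ?_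
    refine le_coreOf (inf_le_inf_left K (coreOf_le (centralizer ({e} : Set G)))) ?_ ?_
      (⟨hUK hw.1, h.mem_core_of_three hG hrk h4 he he1 hU.1 hU.2 hw.1 hw.2⟩ :
        w ∈ K ⊓ θ e)
    · exact le_normalizer_inter (inf_le_left.trans le_normalizer)
        (inf_le_right.trans (le_normalizer_coreOf _))
    · exact Nat.Coprime.coprime_dvd_left (card_dvd_of_le inf_le_right) (coprime_coreOf _)
  -- the 3-group `W`
  set W : Subgroup G := ⨆ e : {e : G // e ∈ Z ∧ e ≠ 1}, ⁅θ e, Z⁆ with hW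
  have hZN : ∀ e ∈ Z, Z ≤ normalizer (θ e : Set G) := fun e he =>
    (h.le.trans (hYC e he)).trans (le_normalizer_coreOf _)
  have hWe : ∀ e ∈ Z, e ≠ 1 → IsPGroup 3 (⁅θ e, Z⁆ : Subgroup G) := fun e he he1 =>
    (h.isPGroup_three hrkr (hG.centralizer_solvable he1) (hxC e he) (hYC e he)).to_le
      (commutator_mono le_rfl h.le)
  obtain ⟨V, hV, hVmax⟩ := exists_common_maximal hG hZe hcore hZ2 (by norm_num : (3 : ℕ) ≠ 2)
  have hWV : W ≤ V := iSup_le fun ⟨e, he, he1⟩ => by
    refine hVmax _ ⟨hWe e he he1, fun z hz =>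
      Coprime.mem_normalizer_commutator (hZN e he hz) (le_normalizer hz)⟩ fun g hg => ?_
    refine Coprime.mem_normalizer_commutator (le_normalizer_coreOf _ ?_)
      (centralizer_le_normalizer _ hg)
    exact mem_centralizer_singleton_iff.2 (mem_centralizer_iff.1 hg e he).symm
  have hW3 : IsPGroup 3 W := hV.1.1.to_le hWV
  have hNW : normalizer (Z : Set G) ≤ normalizer (W : Set G) := by
    intro n hn
    refine Coprime.mem_normalizer_of_map_conj (eq_of_le_of_card_ge ?_
      (Coprime.card_map_conj _ _).ge)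
    rw [hW, Subgroup.map_iSup]
    refine iSup_le fun ⟨e, he, he1⟩ => ?_
    rw [map_commutator, Coprime.map_conj_eq hn]
    refine le_trans (commutator_mono ?_ le_rfl)
      (le_iSup (fun e : {e : G // e ∈ Z ∧ e ≠ 1} => ⁅θ e, Z⁆)
        ⟨n * e * n⁻¹, (mem_normalizer_iff.1 hn e).1 he, fun h1 => he1 (conj_eq_one_iff.1 h1)⟩)
    refine (map_coreOf_le _ _).trans (le_coreOf ((coreOf_le _).trans ?_) ?_ (coprime_coreOf _))
    · rintro _ ⟨w, hw, rfl⟩
      exact hmovH n e he w hw
    · refine le_of_eq_of_le (le_antisymm ?_ ?_) (le_normalizer_coreOf _)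
      · intro w hw
        refine ⟨n⁻¹ * w * n, ?_, by show n * (n⁻¹ * w * n) * n⁻¹ = w; group⟩
        refine mem_centralizer_singleton_iff.2 ?_
        have h3 := mem_centralizer_singleton_iff.1 hw
        calc n⁻¹ * w * n * e = n⁻¹ * (w * (n * e * n⁻¹)) * n := by group
          _ = n⁻¹ * (n * e * n⁻¹ * w) * n := by rw [h3]
          _ = e * (n⁻¹ * w * n) := by group
      · rintro _ ⟨w, hw, rfl⟩
        exact hmovH n e he w hw
  -- the proper subgroup `M`
  obtain ⟨M, hM, hMZ, hMC⟩ : ∃ M : Subgroup G, M ≠ ⊤ ∧ normalizer (Z : Set G) ≤ M ∧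
      ∀ e ∈ Z, e ≠ 1 → centralizer ({e} : Set G) ≤ M := by
    have hdec : ∀ M : Subgroup G, W ≤ M → normalizer (Z : Set G) ≤ M →
        ∀ e ∈ Z, e ≠ 1 → centralizer ({e} : Set G) ≤ M := by
      intro M hWM hNM e he he1
      have hθM : θ e ≤ M := by
        have hcop : (Nat.card Z).Coprime (Nat.card (θ e)) := by
          rw [hZ2]
          exact ((coprime_coreOf (p := 2) (centralizer ({e} : Set G))).symm).pow_left 2
        haveI := (h.pY.to_le h.le).isNilpotent
        rw [← Coprime.commutator_sup_centralizer (hZN e he) hcop (Or.inl inferInstance)]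
        exact sup_le ((le_iSup (fun e : {e : G // e ∈ Z ∧ e ≠ 1} => ⁅θ e, Z⁆) ⟨e, he, he1⟩).trans hWM)
          (inf_le_right.trans ((centralizer_le_normalizer _).trans hNM))
      intro n hn
      have hn' : ∀ w ∈ centralizer ({e} : Set G), n * w * n⁻¹ ∈ centralizer ({e} : Set G) :=
        fun w hw => mul_mem (mul_mem hn hw) (inv_mem hn)
      obtain ⟨o, ho, hoe⟩ := h.exists_conj hrk (hG.centralizer_solvable he1) (hxC e he) (hYC e he)
        (h.conj n) (hn' x (hxC e he))
        (by rintro _ ⟨y, hy, rfl⟩; exact hn' y (hYC e he hy)) (Coprime.card_map_conj _ _)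
      have hon : o⁻¹ * n ∈ normalizer (Y : Set G) := Coprime.mem_normalizer_of_map_conj (by
        rw [← Coprime.map_conj_map_conj, hoe, Coprime.map_conj_map_conj, inv_mul_cancel,
          Coprime.map_conj_one])
      have := mul_mem (hθM ho) (hNM (h.normalizer_le hon))
      rwa [mul_inv_cancel_left] at this
    by_cases hWb : W = ⊥
    · refine ⟨normalizer (Z : Set G), hG.normalizer_ne_top (fun e => ?_)
        (hG.ne_top_of_isPGroup (h.pY.to_le h.le)), le_rfl,
        hdec _ (hWb ▸ bot_le) le_rfl⟩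
      rw [e, Subgroup.card_bot] at h4; omega
    · exact ⟨normalizer (W : Set G), hG.normalizer_ne_top hWb (hG.ne_top_of_isPGroup hW3), hNW,
        hdec _ le_normalizer hNW⟩
  have hTM : T ≤ M := (hTN.trans h.normalizer_le).trans hMZ
  refine hG.false_of_involution hM (orderOf_eq_prime (h.zsq c hc) hc1)
    (hMC c hc hc1 (mem_centralizer_singleton_iff.2 rfl)) ?_ ?_
  · intro d hdM hd R hR hdR
    by_contra hRM
    have hlt : R ⊓ M < R := lt_of_le_of_ne inf_le_left fun e => hRM (e ▸ inf_le_right)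
    obtain ⟨n, ⟨hnR, hnN⟩, hnM⟩ := SetLike.not_le_iff_exists.1 (not_inf_normalizer_le hR hlt)
    have hnM' : n ∉ M := fun hn => hnM ⟨hnR, hn⟩
    obtain ⟨m, hmM, hm⟩ := exists_conj_le hS hTM (hR.to_le (inf_le_left : R ⊓ M ≤ R)) inf_le_right
    obtain ⟨g₀, hg₀⟩ := isConj_iff.1 hd
    have hd1 : d ∈ R ⊓ M := ⟨hdR, hdM⟩
    have hd2 : n * d * n⁻¹ ∈ R ⊓ M := (mem_normalizer_iff.1 hnN d).1 hd1
    set e := m * d * m⁻¹ with he
    set g := m * n * m⁻¹ with hg
    have heZ : e ∈ Z := by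
      have e' : e = m * g₀ * c * (m * g₀)⁻¹ := by rw [he, ← hg₀]; group
      rw [e']
      exact hfus c hc hc1 _ (e' ▸ hm d hd1)
    have hge : g * e * g⁻¹ ∈ Z := by
      have e1 : g * e * g⁻¹ = m * (n * d * n⁻¹) * m⁻¹ := by rw [hg, he]; group
      have e' : g * e * g⁻¹ = g * m * g₀ * c * (g * m * g₀)⁻¹ := by rw [he, ← hg₀]; group
      rw [e']
      exact hfus c hc hc1 _ (e' ▸ e1 ▸ hm _ hd2)
    have he1 : e ≠ 1 := fun e' => hc1 (by
      rw [he, ← hg₀, conj_eq_one_iff, conj_eq_one_iff] at e'; exact e')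
    have hge1 : g * e * g⁻¹ ≠ 1 := fun e' => he1 (conj_eq_one_iff.1 e')
    obtain ⟨o, ho, hoe⟩ := h.exists_conj hrk (hG.centralizer_solvable hge1) (hxC _ hge) (hYC _ hge)
      (h.conj g) (hmovH g e heZ x (hxC e heZ))
      (by rintro _ ⟨y, hy, rfl⟩; exact hmovH g e heZ y (hYC e heZ hy)) (Coprime.card_map_conj _ _)
    have hon : o⁻¹ * g ∈ normalizer (Y : Set G) := Coprime.mem_normalizer_of_map_conj (by
      rw [← Coprime.map_conj_map_conj, hoe, Coprime.map_conj_map_conj, inv_mul_cancel,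
        Coprime.map_conj_one])
    have hgM : g ∈ M := by
      have := mul_mem (hMC _ hge hge1 (coreOf_le _ ho)) (hMZ (h.normalizer_le hon))
      rwa [mul_inv_cancel_left] at this
    exact hnM' (by
      have := mul_mem (mul_mem (inv_mem hmM) hgM) hmM
      rwa [hg, show m⁻¹ * (m * n * m⁻¹) * m = n by group] at this)
  · intro w hw hinv
    obtain ⟨K, hK, -, hYK, hwO⟩ := h.exists_local_inverted hG hrk hc hc1 hw hinv
    refine le_of_plane hZe hZ2 ((h.le.trans hYK).trans (le_normalizer_coreOf K)) (coprime_coreOf K)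
      (fun e he he1 => inf_le_right.trans (hMC e he he1)) hwO

end Cfsg.Agent.H63.TwoGen.NoMoved
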