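import Cfsg.Agent.H63.TwoGen.NoMoved.Small
import Cfsg.Agent.H63.TwoGen.Moved
import Cfsg.Agent.Cores.Constrained
import Mathlib

/-!
# Piece D: proper subgroups containing a moved special group

If a soluble `H` contains `Y` and `x` then `O(H) Y = O_{2',2}(H)` and `[O(H), Y]` is a 3-group.
-/

set_option autoImplicit false
set_option linter.style.haveILetI false
open Cfsg

namespace Cfsg.Agent.H63.TwoGen.NoMoved

open Subgroup
open scoped commutatorElement
open Cfsg.Agent.H47 (coreOf coreOf_le le_normalizer_coreOf coprime_coreOf le_coreOf)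

universe u v

variable {G : Type u} [Group G] [Finite G] {Y Z : Subgroup G} {x : G}

omit [Finite G] in
/-- Transport along a homomorphism injective on `Y`. -/
theorem Sp.map (h : Sp Y Z x) {G' : Type v} [Group G'] (f : G →* G')
    (hinj : ∀ y ∈ Y, f y = 1 → y = 1) : Sp (Y.map f) (Z.map f) (f x) := by
  have hcard : ∀ U : Subgroup G, U ≤ Y → Nat.card (U.map f) = Nat.card U := by
    intro U hU
    refine (Nat.card_congr (Equiv.ofBijective (fun u : U => (⟨f u, mem_map_of_mem f u.2⟩ : U.map f))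
      ⟨fun a b e => Subtype.ext ?_, fun ⟨v, hv⟩ => ?_⟩)).symm
    · exact mul_inv_eq_one.1 (hinj _ (mul_mem (hU a.2) (inv_mem (hU b.2))) (by
        rw [map_mul, map_inv, show f a = f b from congrArg Subtype.val e, mul_inv_cancel]))
    · obtain ⟨w, hw, rfl⟩ := hv; exact ⟨⟨w, hw⟩, rfl⟩
  have hcY := hcard Y le_rfl
  have hcZ := hcard Z h.le
  refine ⟨h.pY.map f, map_mono h.le, ?_, ?_, ?_, ?_, ?_, ?_, ?_, ?_, ?_, ?_⟩
  · rintro _ ⟨z, hz, rfl⟩ _ ⟨y, hy, rfl⟩; exact (h.central z hz y hy).map f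
  · rintro _ ⟨z, hz, rfl⟩; rw [← map_pow, h.zsq z hz, map_one]
  · rintro _ ⟨y, hy, rfl⟩; rw [← map_pow]; exact mem_map_of_mem f (h.sq y hy)
  · rw [← map_commutator, h.comm]
  · exact le_normalizer_map f ⟨x, h.xY, rfl⟩
  · obtain ⟨k, hk⟩ := h.xp; exact ⟨k, by rw [← map_pow, hk, map_one]⟩
  · rintro _ ⟨z, hz, rfl⟩; exact (h.xZ z hz).map f
  · rw [hcY, hcZ, h.card]
  · rw [hcZ]; exact h.cardZ
  · rintro _ ⟨y, hy, rfl⟩ hxy
    rw [← map_commutatorElement] at hxy
    obtain ⟨z, hz, e⟩ := hxy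
    have hxy' : ⁅x, y⁆ ∈ Y := by
      rw [commutatorElement_def]
      exact Y.mul_mem ((mem_normalizer_iff.1 h.xY y).1 hy) (Y.inv_mem hy)
    refine mem_map_of_mem f (h.fixed y hy ?_)
    have h1 := hinj _ (mul_mem hxy' (inv_mem (h.le hz))) (by
      rw [map_mul, map_inv, e, mul_inv_cancel])
    rwa [mul_inv_eq_one.1 h1]

omit [Finite G] in
/-- Pull back along an injective homomorphism. -/
theorem Sp.of_map {G' : Type v} [Group G'] (f : G →* G') (hf : Function.Injective f)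
    (h : Sp (Y.map f) (Z.map f) (f x)) : Sp Y Z x := by
  refine ⟨h.pY.of_equiv (Y.equivMapOfInjective f hf).symm, (map_le_map_iff_of_injective hf).1 h.le,
    fun z hz y hy => hf (by simpa using (h.central _ (mem_map_of_mem f hz) _ (mem_map_of_mem f hy)).eq),
    fun z hz => hf (by rw [map_pow, map_one]; exact h.zsq _ (mem_map_of_mem f hz)),
    fun y hy => ?_, map_injective hf (by rw [map_commutator, h.comm]), ?_, ?_, ?_, ?_, ?_, ?_⟩
  · have h1 := h.sq _ (mem_map_of_mem f hy)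
    rwa [← map_pow, mem_map_iff_mem hf] at h1
  · refine mem_normalizer_iff.2 fun y => ?_
    have h1 := mem_normalizer_iff.1 h.xY (f y)
    rwa [← map_inv, ← map_mul, ← map_mul, mem_map_iff_mem hf, mem_map_iff_mem hf] at h1
  · obtain ⟨k, hk⟩ := h.xp; exact ⟨k, hf (by rw [map_pow, hk, map_one])⟩
  · exact fun z hz => hf (by simpa using (h.xZ _ (mem_map_of_mem f hz)).eq)
  · have h1 := h.card
    rwa [card_map_of_injective hf, card_map_of_injective hf] at h1
  · have h1 := h.cardZ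
    rwa [card_map_of_injective hf] at h1
  · intro y hy hxy
    have h1 := h.fixed _ (mem_map_of_mem f hy) (by
      rw [← map_commutatorElement]; exact mem_map_of_mem f hxy)
    rwa [mem_map_iff_mem hf] at h1

omit [Finite G] in
/-- A conjugate. -/
theorem Sp.conj (h : Sp Y Z x) (g : G) :
    Sp (Y.map (MulAut.conj g).toMonoidHom) (Z.map (MulAut.conj g).toMonoidHom) (g * x * g⁻¹) :=
  h.map (MulAut.conj g).toMonoidHom fun _ _ e =>
    (MulAut.conj g).injective (e.trans (map_one (MulAut.conj g)).symm)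

/-- In a soluble `H` containing `Y` and `x`, `O(H) Y = O_{2',2}(H)` contains `C_H(Y)`. -/
theorem Sp.local_aux (h : Sp Y Z x) (hrk : Rk G) {H : Subgroup G} (hH : Group.IsSolvable H)
    (hxH : x ∈ H) (hYH : Y ≤ H) :
    coreOf 2 H ⊔ Y = (Cfsg.pPrimePCore 2 H).map H.subtype ∧
      H ⊓ centralizer (Y : Set G) ≤ (Cfsg.pPrimePCore 2 H).map H.subtype := by
  haveI : Fact (Nat.Prime 2) := ⟨Nat.prime_two⟩
  set Y' := Y.subgroupOf H with hY'
  set Z' := Z.subgroupOf H with hZ'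
  set x' : H := ⟨x, hxH⟩
  have h' : Sp Y' Z' x' := by
    refine Sp.of_map H.subtype H.subtype_injective ?_
    rw [map_subgroupOf_eq_of_le hYH, map_subgroupOf_eq_of_le (h.le.trans hYH)]
    exact h
  set N := Cfsg.pPrimeCore 2 H with hN
  have hNodd : Odd (Nat.card N) :=
    Nat.coprime_two_right.1 (Cores.coprime_card_pPrimeCore (p := 2) (G := H))
  set π := QuotientGroup.mk' N
  have hdisj : ∀ y ∈ Y', π y = 1 → y = 1 := by
    intro y hy e
    have hyN : y ∈ N := (QuotientGroup.eq_one_iff y).1 e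
    obtain ⟨k, hk⟩ := h'.pY ⟨y, hy⟩
    have hk' : y ^ 2 ^ k = 1 := congrArg Subtype.val hk
    have h1 : orderOf y ∣ Nat.gcd (2 ^ k) (Nat.card N) :=
      Nat.dvd_gcd (orderOf_dvd_of_pow_eq_one hk') (Subgroup.orderOf_dvd_natCard N hyN)
    rw [((Nat.coprime_two_left.2 hNodd).pow_left k).gcd_eq_one, Nat.dvd_one] at h1
    exact orderOf_eq_one_iff.1 h1
  have hQ := h'.map π hdisj
  set YQ := Y'.map π with hYQ
  set B := Cfsg.pCore 2 (H ⧸ N) with hB
  haveI := hH
  haveI : Group.IsSolvable (H ⧸ N) :=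
    Group.isSolvable_of_surjective (QuotientGroup.mk'_surjective N)
  have hCB : centralizer (B : Set (H ⧸ N)) ≤ B :=
    Cores.centralizer_pCore_le Cores.isPSolvable_of_isSolvable Cores.pPrimeCore_quotient_pPrimeCore
  have hxB' : π x' ∈ normalizer (B : Set (H ⧸ N)) := by rw [normalizer_eq_top]; exact mem_top _
  have hBY : B ≤ YQ := by
    have hR : IsPGroup 2 (YQ ⊔ B : Subgroup (H ⧸ N)) :=
      hQ.pY.to_sup_of_normal_right Cores.pCore_isPGroup
    have hx : π x' ∈ normalizer ((YQ ⊔ B : Subgroup (H ⧸ N)) : Set (H ⧸ N)) := by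
      refine Coprime.mem_normalizer_of_map_conj ?_
      rw [Subgroup.map_sup, Coprime.map_conj_eq hQ.xY, Coprime.map_conj_eq hxB']
    have := hQ.eq_of_invariant ((hrk.subgroup H).quotient N hNodd) hR le_sup_left hx
    exact le_sup_right.trans this.le
  have hBeq : B = YQ := by
    rcases hQ.irred hBY hxB' with hle | heq
    · exfalso
      have hxB : π x' ∈ B := hCB (mem_centralizer_iff.2 fun b hb => ((hQ.xZ b (hle hb)).eq).symm)
      refine hQ.not_le_Z fun y hy => hQ.fixed y hy ?_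
      exact hQ.comm_mem (hBY hxB) hy
    · exact heq
  have h1 : Cfsg.pPrimePCore 2 H = Y' ⊔ N := by
    show (Cfsg.pCore 2 (H ⧸ N)).comap π = _
    rw [← hB, hBeq, hYQ, comap_map_eq, QuotientGroup.ker_mk']
  refine ⟨?_, fun n hn => ⟨⟨n, hn.1⟩, ?_, rfl⟩⟩
  · rw [h1, Subgroup.map_sup, map_subgroupOf_eq_of_le hYH, sup_comm]
    rfl
  · refine hCB (mem_centralizer_iff.2 ?_)
    rw [hBeq]
    rintro _ ⟨y, hy, rfl⟩
    show π y * π ⟨n, hn.1⟩ = π ⟨n, hn.1⟩ * π y
    rw [← map_mul, ← map_mul]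
    exact congrArg π (Subtype.ext (mem_centralizer_iff.1 hn.2 y hy))

theorem Sp.le_local (h : Sp Y Z x) (hrk : Rk G) {H : Subgroup G} (hH : Group.IsSolvable H)
    (hxH : x ∈ H) (hYH : Y ≤ H) :
    coreOf 2 H ⊔ Y = (Cfsg.pPrimePCore 2 H).map H.subtype :=
  (h.local_aux hrk hH hxH hYH).1

theorem Sp.centralizer_le_local (h : Sp Y Z x) (hrk : Rk G) {H : Subgroup G}
    (hH : Group.IsSolvable H) (hxH : x ∈ H) (hYH : Y ≤ H) :
    H ⊓ centralizer (Y : Set G) ≤ coreOf 2 H ⊔ Y :=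
  (h.le_local hrk hH hxH hYH).symm ▸ (h.local_aux hrk hH hxH hYH).2

theorem Sp.local_le_normalizer (h : Sp Y Z x) (hrk : Rk G) {H : Subgroup G}
    (hH : Group.IsSolvable H) (hxH : x ∈ H) (hYH : Y ≤ H) :
    H ≤ normalizer ((coreOf 2 H ⊔ Y : Subgroup G) : Set G) := by
  rw [h.le_local hrk hH hxH hYH]
  refine (normal_subgroupOf_iff_le_normalizer (map_subtype_le _)).1 ?_
  rw [subgroupOf, comap_map_eq_self_of_injective H.subtype_injective]
  infer_instance

theorem coprime_two_coreOf {H : Subgroup G} {R : Subgroup G} (hR : IsPGroup 2 R) :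
    (Nat.card R).Coprime (Nat.card (coreOf 2 H)) := by
  haveI : Fact (Nat.Prime 2) := ⟨Nat.prime_two⟩
  obtain ⟨k, hk⟩ := IsPGroup.iff_card.1 hR
  rw [hk]
  exact ((coprime_coreOf (p := 2) H).symm).pow_left k

/-- A 2-group between `Y` and `O(H) Y` is `Y`. -/
theorem eq_of_le_sup {H Y : Subgroup G} (hYH : Y ≤ H) {R : Subgroup G}
    (hR : IsPGroup 2 R) (hle : R ≤ coreOf 2 H ⊔ Y) (hYR : Y ≤ R) : R = Y := by
  have hn : Y ≤ normalizer (coreOf 2 H : Set G) := hYH.trans (le_normalizer_coreOf H)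
  refine le_antisymm (fun r hr => ?_) hYR
  obtain ⟨o, ho, y, hy, rfl⟩ := (Coprime.mem_sup_iff hn).1 (hle hr)
  have hoR : o ∈ R := by
    have := mul_mem hr (inv_mem (hYR hy))
    rwa [mul_inv_cancel_right] at this
  have := (Coprime.inf_eq_bot (coprime_two_coreOf (H := H) hR)).le ⟨hoR, ho⟩
  rw [mem_bot.1 this, one_mul]
  exact hy

/-- Two moved special groups of the same order in one soluble subgroup are conjugate under its
core. -/
theorem Sp.exists_conj (h : Sp Y Z x) (hrk : Rk G) {H : Subgroup G} (hH : Group.IsSolvable H)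
    (hxH : x ∈ H) (hYH : Y ≤ H) {Y' Z' : Subgroup G} {x' : G} (h' : Sp Y' Z' x') (hx'H : x' ∈ H)
    (hY'H : Y' ≤ H) (hc : Nat.card Y' = Nat.card Y) :
    ∃ o ∈ coreOf 2 H, Y' = Y.map (MulAut.conj o).toMonoidHom := by
  haveI : Fact (Nat.Prime 2) := ⟨Nat.prime_two⟩
  haveI := h.pY.isNilpotent
  exact Coprime.exists_conj_of_le_sup (hYH.trans (le_normalizer_coreOf H))
    (le_sup_right.trans (((h'.le_local hrk hH hx'H hY'H)).trans (h.le_local hrk hH hxH hYH).symm).le)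
    hc (coprime_two_coreOf h.pY) (Or.inl inferInstance)

/-- A 2-group through `Y` contains only one such group per soluble overgroup. -/
theorem Sp.eq_of_common (h : Sp Y Z x) (hrk : Rk G) {H : Subgroup G} (hH : Group.IsSolvable H)
    (hxH : x ∈ H) (hYH : Y ≤ H) {Y' Z' : Subgroup G} {x' : G} (h' : Sp Y' Z' x') (hx'H : x' ∈ H)
    (hY'H : Y' ≤ H) (hc : Nat.card Y' = Nat.card Y) {T : Subgroup G} (hT : IsPGroup 2 T)
    (hYT : Y ≤ T) (hY'T : Y' ≤ T) : Y' = Y := by
  have hle : Y' ≤ coreOf 2 H ⊔ Y :=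
    le_sup_right.trans (((h'.le_local hrk hH hx'H hY'H)).trans (h.le_local hrk hH hxH hYH).symm).le
  have h1 := eq_of_le_sup hYH (hT.to_le (sup_le hYT hY'T)) (sup_le le_sup_right hle) le_sup_left
  exact eq_of_le_of_card_ge (le_sup_right.trans h1.le) hc.ge

/-- `[O(H), Y]` is a 3-group. -/
theorem Sp.isPGroup_three (h : Sp Y Z x) (hrkr : ∀ r : ℕ, r.Prime → 5 ≤ r → Cfsg.PRankLE r 2 G)
    {H : Subgroup G} (hH : Group.IsSolvable H) (hxH : x ∈ H) (hYH : Y ≤ H) :
    IsPGroup 3 (⁅coreOf 2 H, Y⁆ : Subgroup G) := by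
  haveI : Fact (Nat.Prime 3) := ⟨Nat.prime_three⟩
  set O := coreOf 2 H with hO
  have hOs : Group.IsSolvable O := Coprime.isSolvable_of_le (coreOf_le H) hH
  have hYO : Y ≤ normalizer (O : Set G) := hYH.trans (le_normalizer_coreOf H)
  refine isPGroup_commutator hYO (coprime_two_coreOf h.pY) hOs ?_
  intro r hr hr3 R hRO hR hYR
  haveI : Fact r.Prime := ⟨hr⟩
  by_cases hr2 : r = 2
  · subst hr2
    have hb : R = ⊥ := by
      have := Coprime.inf_eq_bot (coprime_two_coreOf (H := H) hR)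
      rwa [inf_eq_left.2 hRO] at this
    rw [hb]; exact bot_le
  have hr5 : 5 ≤ r := by
    rcases hr.eq_two_or_odd' with he | ho
    · exact absurd he hr2
    · obtain ⟨m, rfl⟩ := ho
      have := hr.two_le
      omega
  obtain ⟨P, hRP, hYP⟩ := Coprime.exists_invariant_sylow_ge hYO (coprime_two_coreOf h.pY)
    (Or.inr hOs) r hRO hR hYR
  set P₁ := (P : Subgroup O).map O.subtype with hP₁
  refine hRP.trans ?_
  -- correct `x` to normalize the Sylow subgroup
  have hxO : x ∈ normalizer (O : Set G) := le_normalizer_coreOf H hxH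
  set P₂ := P₁.map (MulAut.conj x).toMonoidHom with hP₂
  have hP₂O : P₂ ≤ O := (map_mono (map_subtype_le _)).trans_eq (Coprime.map_conj_eq hxO)
  have hYP₂ : Y ≤ normalizer (P₂ : Set G) :=
    (Coprime.map_conj_eq h.xY).ge.trans ((map_mono hYP).trans (le_normalizer_map _))
  let Q₂ : Sylow r O := Sylow.ofCard (P₂.subgroupOf O) (by
    rw [Nat.card_congr (subgroupOfEquivOfLe hP₂O).toEquiv, hP₂, Coprime.card_map_conj, hP₁,
      card_map_of_injective O.subtype_injective, P.card_eq_multiplicity])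
  obtain ⟨k, hk⟩ := MulAction.exists_smul_eq O Q₂ P
  have hkP : P₂.map (MulAut.conj (k : G)).toMonoidHom = P₁ := by
    rw [hP₁, ← hk, ← map_subgroupOf_eq_of_le hP₂O, Subgroup.map_map]
    show _ = ((P₂.subgroupOf O).map (MulAut.conj k).toMonoidHom).map O.subtype
    rw [Subgroup.map_map]
    rfl
  obtain ⟨c, hc, hcP⟩ := Coprime.exists_centralizer_conj hYO (coprime_two_coreOf h.pY) (Or.inr hOs)
    hYP₂ hYP k.2 hkP
  refine h.le_centralizer_rgroup hr hr5 (hrkr r hr hr5) (P.isPGroup'.map _) hYP (x' := c * x)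
    (Coprime.mem_normalizer_of_map_conj ?_) fun y hy => ?_
  · rw [← Coprime.map_conj_map_conj, ← hP₂]
    exact hcP
  · have hy' := mem_centralizer_iff.1 hc.2 _ ((mem_normalizer_iff.1 h.xY y).1 hy)
    calc c * x * y * (c * x)⁻¹ = c * (x * y * x⁻¹) * c⁻¹ := by group
      _ = x * y * x⁻¹ := by rw [← hy', mul_inv_cancel_right]

/-- An odd element of `O(K) Y` lies in `O(K)`. -/
theorem Sp.mem_core_of_odd (h : Sp Y Z x) {K : Subgroup G} (hYK : Y ≤ K) {w : G} (hwK : w ∈ K)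
    (hw : Odd (orderOf w)) (hwY : w ∈ coreOf 2 K ⊔ Y) : w ∈ coreOf 2 K := by
  haveI : Fact (Nat.Prime 2) := ⟨Nat.prime_two⟩
  have hYn : Y ≤ normalizer (coreOf 2 K : Set G) := hYK.trans (le_normalizer_coreOf K)
  obtain ⟨o, ho, b, hb', hob⟩ := (Coprime.mem_sup_iff hYn).1 hwY
  -- the image of `w` in the 2-group `O Y / O` has odd order
  have hn' : normalizer (coreOf 2 K : Set G) ≥ zpowers w ⊔ zpowers b :=
    sup_le (zpowers_le.2 (le_normalizer_coreOf K hwK)) (zpowers_le.2 (hYn hb'))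
  have hbo : b ∈ coreOf 2 K := by
    set L := normalizer (coreOf 2 K : Set G)
    haveI : ((coreOf 2 K).subgroupOf L).Normal := normal_subgroupOf_of_le_normalizer le_rfl
    set q := QuotientGroup.mk' ((coreOf 2 K).subgroupOf L)
    have e : q ⟨w, hn' (mem_sup_left (mem_zpowers w))⟩ = q ⟨b, hn' (mem_sup_right (mem_zpowers b))⟩ := by
      rw [show (⟨w, hn' (mem_sup_left (mem_zpowers w))⟩ : L) = ⟨o, le_normalizer ho⟩ *
        ⟨b, hn' (mem_sup_right (mem_zpowers b))⟩ from Subtype.ext hob.symm, map_mul,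
        show q ⟨o, le_normalizer ho⟩ = 1 from (QuotientGroup.eq_one_iff _).2 ho, one_mul]
    obtain ⟨j, hj⟩ := h.pY ⟨b, hb'⟩
    have h2 : (q ⟨b, hn' (mem_sup_right (mem_zpowers b))⟩) ^ 2 ^ j = 1 := by
      rw [← map_pow, show (⟨b, hn' (mem_sup_right (mem_zpowers b))⟩ : L) ^ 2 ^ j = 1 from
        Subtype.ext (congrArg Subtype.val hj :), map_one]
    have h3 : (q ⟨b, hn' (mem_sup_right (mem_zpowers b))⟩) ^ orderOf w = 1 := by
      rw [← e, ← map_pow, show (⟨w, hn' (mem_sup_left (mem_zpowers w))⟩ : L) ^ orderOf w = 1 from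
        Subtype.ext (pow_orderOf_eq_one w), map_one]
    have h4 := Nat.dvd_gcd (orderOf_dvd_of_pow_eq_one h2) (orderOf_dvd_of_pow_eq_one h3)
    rw [((Nat.coprime_two_left.2 hw).pow_left j).gcd_eq_one, Nat.dvd_one, orderOf_eq_one_iff] at h4
    exact mem_subgroupOf.1
      ((QuotientGroup.eq_one_iff (⟨b, hn' (mem_sup_right (mem_zpowers b))⟩ : L)).1 h4)
  exact hob ▸ mul_mem ho hbo

/-- An odd element inverted by an involution of `Z` lies in the core of a proper overgroup of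
`Y` and `x`. -/
theorem Sp.exists_local_inverted (h : Sp Y Z x) (hG : Hyp G) (hrk : Rk G) {c : G} (hc : c ∈ Z)
    (hc1 : c ≠ 1) {w : G} (hw : Odd (orderOf w)) (hinv : c * w * c⁻¹ = w⁻¹) :
    ∃ K : Subgroup G, K ≠ ⊤ ∧ x ∈ K ∧ Y ≤ K ∧ w ∈ coreOf 2 K := by
  haveI : Fact (Nat.Prime 2) := ⟨Nat.prime_two⟩
  obtain ⟨y, hy, hyZ⟩ := SetLike.not_le_iff_exists.1 h.not_le_Z
  have hxc : Commute x c := h.xZ c hc
  have hcop : (orderOf x).Coprime (orderOf c) := by
    obtain ⟨k, hk⟩ := h.xp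
    rw [orderOf_eq_prime (h.zsq c hc) hc1]
    exact Nat.Coprime.coprime_dvd_left (orderOf_dvd_of_pow_eq_one hk)
      ((by norm_num : Nat.Coprime 5 2).pow_left k)
  obtain ⟨K, hK, hb, hcK, hyK, hwK⟩ := hG.exists_proper_inverted (b := x * c) (c := c) (g := y)
    (mem_zpowers_mul' hxc hcop) (h.central c hc y hy) hw hinv
  have hxK : x ∈ K := zpowers_le.2 hb (mem_zpowers_mul hxc hcop)
  have hYK : Y ≤ K := by
    rcases h.irred (inf_le_left : Y ⊓ K ≤ Y) (le_normalizer_inter (S := zpowers x)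
      (zpowers_le.2 h.xY) ((zpowers_le.2 hxK).trans le_normalizer) (mem_zpowers x)) with hle | heq
    · exact absurd (hle ⟨hy, hyK⟩) hyZ
    · exact heq.ge.trans inf_le_right
  refine ⟨K, hK, hxK, hYK, ?_⟩
  have hn := h.local_le_normalizer hrk (hG.proper_solvable K hK) hxK hYK
  obtain ⟨k, hk⟩ := exists_pow_eq_self_of_coprime (x := w) (n := 2) (Nat.coprime_two_left.2 hw)
  have hw2 : w ^ 2 ∈ coreOf 2 K ⊔ Y := by
    have e : w ^ 2 = w * c * w⁻¹ * c⁻¹ := by
      rw [show w * c * w⁻¹ * c⁻¹ = w * (c * w * c⁻¹)⁻¹ by group, hinv, inv_inv, pow_two]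
    rw [e]
    exact mul_mem (Coprime.conj_mem (hn hwK) (mem_sup_right (h.le hc)))
      (inv_mem (mem_sup_right (h.le hc)))
  exact h.mem_core_of_odd hYK hwK hw (hk ▸ pow_mem hw2 k)

/-- An odd element inverted by an involution of `Z` is a 3-element. -/
theorem Sp.three_of_inverted (h : Sp Y Z x) (hG : Hyp G) (hrk : Rk G)
    (hrkr : ∀ r : ℕ, r.Prime → 5 ≤ r → Cfsg.PRankLE r 2 G) {c : G} (hc : c ∈ Z) (hc1 : c ≠ 1)
    {w : G} (hw : Odd (orderOf w)) (hinv : c * w * c⁻¹ = w⁻¹) : ∃ k : ℕ, w ^ 3 ^ k = 1 := by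
  obtain ⟨K, hK, hxK, hYK, hwO⟩ := h.exists_local_inverted hG hrk hc hc1 hw hinv
  have hmem : w ^ 2 ∈ (⁅coreOf 2 K, Y⁆ : Subgroup G) := by
    have h1 := commutator_mem_commutator hwO (h.le hc)
    have e : w ^ 2 = ⁅w, c⁆ := by
      rw [commutatorElement_def, show w * c * w⁻¹ * c⁻¹ = w * (c * w * c⁻¹)⁻¹ by group, hinv,
        inv_inv, pow_two]
    rwa [e]
  obtain ⟨k, hk⟩ := h.isPGroup_three hrkr (hG.proper_solvable K hK) hxK hYK ⟨_, hmem⟩
  have hk' : (w ^ 2) ^ 3 ^ k = 1 := congrArg Subtype.val hk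
  rw [← pow_mul, mul_comm, pow_mul] at hk'
  have hd : orderOf w ∣ 2 * 3 ^ k := orderOf_dvd_of_pow_eq_one (by rw [mul_comm, pow_mul]; exact hk')
  exact ⟨k, orderOf_dvd_iff_pow_eq_one.1
    ((Nat.coprime_two_right.2 hw).dvd_of_dvd_mul_left hd)⟩

end Cfsg.Agent.H63.TwoGen.NoMoved
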