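import Cfsg.Agent.H63.TwoGen.NoMoved.FourCase
import Cfsg.Agent.H63.TwoGen.NoMoved.Elementary
import Mathlib

/-!
# Piece D: a minimal moved 2-group

It is elementary of order 8 or 16 or special of order 32 or 64, all of which are impossible.
-/

set_option autoImplicit false
set_option linter.style.haveILetI false
open Cfsg

namespace Cfsg.Agent.H63.TwoGen.NoMoved

open Subgroup
open scoped commutatorElement
open Cfsg.Agent.Cores.NoAbelianEight (phi phi_le sq_mem_phi commutator_le_phi phi_nongenerating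
  phi_lt le_normalizer_phi phi_elementary)

universe u

variable {G : Type u} [Group G] [Finite G]

omit [Finite G] in
theorem commutator_mul_left_of_central {Y : Subgroup G} {a b c : G}
    (hcen : ∀ f ∈ ⁅Y, Y⁆, ∀ w ∈ Y, Commute f w) (ha : a ∈ Y) (hb : b ∈ Y) (hc : c ∈ Y) :
    ⁅a * b, c⁆ = ⁅b, c⁆ * ⁅a, c⁆ := by
  rw [show ⁅a * b, c⁆ = a * ⁅b, c⁆ * a⁻¹ * ⁅a, c⁆ by simp only [commutatorElement_def]; group,
    ← (hcen _ (commutator_mem_commutator hb hc) a ha).eq, mul_inv_cancel_right]

/-- There is no minimal moved 2-group. -/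
theorem false_of_minimal (hG : Hyp G) (hno : NoEight G)
    (hrkr : ∀ r : ℕ, r.Prime → 5 ≤ r → Cfsg.PRankLE r 2 G) {Y : Subgroup G} (hY : IsPGroup 2 Y)
    {x : G} {p : ℕ} (hp : p.Prime) (hp5 : 5 ≤ p) (hx : orderOf x = p)
    (hxY : x ∈ normalizer (Y : Set G)) (hne : ¬ Y ≤ centralizer ({x} : Set G))
    (hmin : ∀ U : Subgroup G, U < Y → x ∈ normalizer (U : Set G) →
      U ≤ centralizer ({x} : Set G)) : False := by
  haveI : Fact (Nat.Prime 2) := ⟨Nat.prime_two⟩
  haveI : Fact p.Prime := ⟨hp⟩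
  set A := zpowers x with hA
  have hAY : A ≤ normalizer (Y : Set G) := zpowers_le.2 hxY
  have hxp : x ^ p = 1 := hx ▸ pow_orderOf_eq_one x
  have hcop : (Nat.card A).Coprime (Nat.card Y) := by
    obtain ⟨k, hk⟩ := IsPGroup.iff_card.1 hY
    rw [hA, Nat.card_zpowers, hx, hk]
    exact ((Nat.coprime_primes hp Nat.prime_two).2 (by omega)).pow_right k
  have hYne : Y ≠ ⊥ := fun e => hne (e ▸ bot_le)
  have hle : ∀ {U : Subgroup G}, U ≤ centralizer ({x} : Set G) → U ≤ centralizer (A : Set G) := by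
    intro U hU
    rwa [hA, zpowers_eq_closure, centralizer_closure]
  have hle' : ∀ {U : Subgroup G}, U ≤ centralizer (A : Set G) → U ≤ centralizer ({x} : Set G) := by
    intro U hU
    rwa [hA, zpowers_eq_closure, centralizer_closure] at hU
  -- `[Y, x] = Y`
  have hYA : ⁅Y, A⁆ = Y := by
    haveI := hY.isNilpotent
    by_contra hlt
    have h1 : ⁅Y, A⁆ < Y := lt_of_le_of_ne (Coprime.commutator_le_left_of_normalizer hAY) hlt
    have h2 := hmin _ h1 (Coprime.mem_normalizer_commutator hxY (le_normalizer (mem_zpowers x)))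
    have h3 : ⁅⁅Y, A⁆, A⁆ = ⊥ := commutator_eq_bot_iff_le_centralizer.2 (hle h2)
    rw [Coprime.commutator_commutator_eq hAY hcop (Or.inr inferInstance),
      commutator_eq_bot_iff_le_centralizer] at h3
    exact hne (hle' h3)
  set Z := phi Y with hZdef
  have hZY : Z ≤ Y := phi_le Y
  have hZA : Z ≤ centralizer (A : Set G) :=
    hle (hmin Z (phi_lt hYne) (le_normalizer_phi Y hxY))
  have hYZn : Y ≤ normalizer (Z : Set G) := le_normalizer.trans (le_normalizer_phi Y)
  have hcen : ∀ f ∈ Z, ∀ w ∈ Y, f * w = w * f := by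
    have h1 : ⁅⁅A, Z⁆, Y⁆ = ⊥ := by
      rw [commutator_eq_bot_iff_le_centralizer.2 (le_centralizer_iff.1 hZA), commutator_bot_left]
    have h2 : ⁅⁅Z, Y⁆, A⁆ = ⊥ := commutator_eq_bot_iff_le_centralizer.2
      ((Coprime.commutator_le_left_of_normalizer hYZn).trans hZA)
    have h3 := commutator_commutator_eq_bot_of_rotate (H₁ := Y) (H₂ := A) (H₃ := Z) h1 h2
    rw [hYA, commutator_eq_bot_iff_le_centralizer] at h3
    intro f hf w hw
    exact mem_centralizer_iff.1 (h3 hw) f hf
  have hel := phi_elementary (K := A) hY hAY hYA hcen (le_centralizer_iff.1 hZA)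
  have hZcomm : ⁅Y, Y⁆ = Z := le_antisymm (commutator_le_phi hY) fun f hf => (hel f hf).2
  have hzsq : ∀ f ∈ Z, f ^ 2 = 1 := fun f hf => (hel f hf).1
  have hsq : ∀ w ∈ Y, w ^ 2 ∈ Z := fun w hw => sq_mem_phi hY hw
  have hxZ : ∀ f ∈ Z, Commute x f := fun f hf => mem_centralizer_iff.1 (hZA hf) x (mem_zpowers x)
  have hcen' : ∀ f ∈ ⁅Y, Y⁆, ∀ w ∈ Y, Commute f w := fun f hf w hw => hcen f (hZcomm ▸ hf) w hw
  -- `V = Y / Z`
  have hVsq : ∀ v : Abelianization Y, v ^ 2 = 1 := fun v => by
    obtain ⟨w, rfl⟩ := of_surjective v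
    rw [← map_pow, of_eq_one_iff, hZcomm]
    exact hsq w w.2
  have hVinv : ∀ v : Abelianization Y, v⁻¹ = v := fun v =>
    inv_eq_of_mul_eq_one_right (by rw [← pow_two]; exact hVsq v)
  have hVmul : ∀ v : Abelianization Y, v * v = 1 := fun v => (pow_two v).symm.trans (hVsq v)
  set φ := modHom Y ⟨x, hxY⟩ with hφdef
  let δ : Abelianization Y →* Abelianization Y :=
    { toFun := fun w => φ w * w
      map_one' := by rw [map_one, one_mul]
      map_mul' := fun a b => by rw [map_mul]; ac_rfl }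
  let S : Subgroup (MulAut (Abelianization Y)) :=
    { carrier := {ψ | ∀ w, ψ w * w ∈ δ.range}
      one_mem' := fun w => by rw [MulAut.one_apply, hVmul]; exact one_mem _
      mul_mem' := fun {a b} ha hb w => by
        have := mul_mem (ha (b w)) (hb w)
        rwa [mul_assoc, ← mul_assoc (b w) (b w), hVmul, one_mul, ← MulAut.mul_apply] at this
      inv_mem' := fun {a} ha w => by
        have := ha (a⁻¹ w)
        rwa [MulAut.apply_inv_self, mul_comm] at this }
  have hφS : φ ∈ S := fun w => ⟨w, rfl⟩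
  have hsurj : δ.range = ⊤ := by
    refine eq_top_iff.2 fun v _ => ?_
    obtain ⟨⟨w, hw⟩, rfl⟩ := of_surjective v
    have hgen : Y ≤ (δ.range.comap Abelianization.of).map Y.subtype := by
      conv_lhs => rw [← hYA]
      refine commutator_le.2 fun y hy a ha => ?_
      obtain ⟨i, rfl⟩ := mem_zpowers_iff.1 ha
      have hin : x ^ i * y⁻¹ * (x ^ i)⁻¹ ∈ Y :=
        (mem_normalizer_iff.1 (zpow_mem hxY i) _).1 (inv_mem hy)
      refine ⟨⟨y, hy⟩ * ⟨_, hin⟩, ?_, by
        show y * (x ^ i * y⁻¹ * (x ^ i)⁻¹) = _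
        rw [commutatorElement_def]; group⟩
      show Abelianization.of ((⟨y, hy⟩ : Y) * ⟨_, hin⟩) ∈ δ.range
      rw [map_mul]
      have e : Abelianization.of (⟨_, hin⟩ : Y) = (φ ^ i) (Abelianization.of ⟨y, hy⟩) := by
        rw [hφdef, ← map_zpow]
        conv_rhs => rw [← hVinv (Abelianization.of (⟨y, hy⟩ : Y)), ← map_inv]
        exact (modHom_of (zpow_mem hxY i) (inv_mem hy)).symm
      rw [e, mul_comm]
      exact zpow_mem hφS i _
    obtain ⟨w', hw', e⟩ := hgen hw
    rw [show (⟨w, hw⟩ : Y) = w' from Subtype.ext e.symm]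
    exact hw'
  have hfix : ∀ v, φ v = v → v = 1 := by
    intro v hv
    have hinj : Function.Injective δ :=
      Finite.injective_iff_surjective.2 (MonoidHom.range_eq_top.1 hsurj)
    refine hinj ?_
    show φ v * v = φ 1 * 1
    rw [hv, hVmul, map_one, mul_one]
  have hfixY : ∀ w ∈ Y, ⁅x, w⁆ ∈ Z → w ∈ Z := by
    intro w hw h1
    have h2 := hfix (Abelianization.of ⟨w, hw⟩) (by
      rw [hφdef, modHom_of hxY hw, eq_comm, of_eq_iff, hZcomm]
      have e : w⁻¹ * (x * w * x⁻¹) = w⁻¹ * ⁅x, w⁆ * w⁻¹⁻¹ := by rw [commutatorElement_def]; group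
      exact e ▸ Coprime.conj_mem (hYZn (inv_mem hw)) h1)
    rwa [of_eq_one_iff, hZcomm] at h2
  -- orders
  have hcardV : Nat.card Y = Nat.card (Abelianization Y) * Nat.card Z := by
    have h1 := (commutator Y).card_mul_index
    have h2 : Nat.card (commutator Y) = Nat.card Z := by
      rw [← hZcomm, ← map_subtype_commutator, card_map_of_injective Y.subtype_injective]
    rw [h2, mul_comm] at h1
    exact h1.symm
  have hV16 : Nat.card (Abelianization Y) ≤ 16 := by
    have h1 := hno.rk Y Z hY hZY hYZn hsq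
    rw [hcardV] at h1
    exact Nat.le_of_mul_le_mul_right h1 Nat.card_pos
  obtain ⟨d, hd⟩ := IsPGroup.iff_card.1 (isPGroup_two hVsq)
  have hd0 : d ≠ 0 := by
    rintro rfl
    rw [pow_zero] at hd
    rw [hd, one_mul] at hcardV
    exact (phi_lt hYne).ne (eq_of_le_of_card_ge hZY hcardV.le)
  have hφp : φ ^ p ^ 1 = 1 := by
    rw [pow_one, hφdef, ← map_pow,
      show (⟨x, hxY⟩ : normalizer (Y : Set G)) ^ p = 1 from Subtype.ext hxp, map_one]
  have hmod : Nat.card (Abelianization Y) ≡ 1 [MOD p] := by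
    have hφP : IsPGroup p (zpowers φ) := by
      refine IsPGroup.of_card_dvd_pow (n := 1) ?_
      rw [Nat.card_zpowers]
      exact orderOf_dvd_of_pow_eq_one hφp
    have h1 := card_fixSub_modEq hφP
    have hb : fixSub (zpowers φ) = ⊥ :=
      (eq_bot_iff_forall _).2 fun v hv => hfix v (hv φ (mem_zpowers φ))
    rwa [hb, Subgroup.card_bot] at h1
  have hpd : (p = 7 ∧ Nat.card (Abelianization Y) = 8) ∨ (p = 5 ∧ Nat.card (Abelianization Y) = 16) := by
    rw [hd] at hV16 hmod ⊢
    have hd4 : d ≤ 4 :=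
      (Nat.pow_le_pow_iff_right (le_refl 2)).1 (hV16.trans (by norm_num : 16 ≤ 2 ^ 4))
    have hdvd := (Nat.modEq_iff_dvd' (Nat.one_le_two_pow)).1 hmod.symm
    have hle15 : p ≤ 15 := (Nat.le_of_dvd (by
      have : 2 ≤ 2 ^ d := Nat.le_self_pow hd0 2
      omega) hdvd).trans (by omega)
    interval_cases d <;> interval_cases p
    all_goals first
      | omega
      | (exfalso; revert hp; norm_num)
  have hirr : ∀ U ≤ Y, x ∈ normalizer (U : Set G) → U ≤ Z ∨ U = Y := by
    intro U hUY hxU
    rcases hUY.eq_or_lt with he | hlt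
    · exact Or.inr he
    · refine Or.inl fun w hw => hfixY w (hUY hw) ?_
      rw [commutatorElement_eq_one_iff_mul_comm.2
        (mem_centralizer_singleton_iff.1 (hmin U hlt hxU hw)).symm]
      exact one_mem Z
  -- the orbit of an element
  have hvi : ∀ {v : G}, v ∈ Y → ∀ i : ℕ, vi x v i ∈ Y := fun hv i =>
    (mem_normalizer_iff.1 (pow_mem hxY i) _).1 hv
  have hel2 : Z = ⊥ → Cfsg.IsElementaryAbelian 2 Y ∧
      (∀ e ∈ Y, x * e * x⁻¹ = e → e = 1) ∧ Nat.card Y = Nat.card (Abelianization Y) := by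
    intro hb
    refine ⟨⟨⟨⟨fun a b => Subtype.ext ?_⟩⟩, fun w hw => mem_bot.1 (hb ▸ hsq w hw)⟩, ?_, ?_⟩
    · have h1 : ⁅(a : G), (b : G)⁆ ∈ (⊥ : Subgroup G) :=
        hb ▸ hZcomm ▸ commutator_mem_commutator a.2 b.2
      exact commutatorElement_eq_one_iff_mul_comm.1 (mem_bot.1 h1)
    · intro e he h1
      refine mem_bot.1 (hb ▸ hfixY e he ?_)
      rw [commutatorElement_def, h1, mul_inv_cancel]
      exact one_mem Z
    · rw [hcardV, hb, Subgroup.card_bot, mul_one]
  rcases hpd with ⟨rfl, hV8⟩ | ⟨rfl, hV⟩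
  · -- order 7: all squares are equal, so `Y` is elementary
    have hb : Z = ⊥ := by
      haveI : Nontrivial (Abelianization Y) :=
        Finite.one_lt_card_iff_nontrivial.1 (by rw [hV8]; norm_num)
      obtain ⟨a, ha⟩ := exists_ne (1 : Abelianization Y)
      obtain ⟨⟨v, hv⟩, hva⟩ := of_surjective a
      have hφ7 : orderOf φ = 7 :=
        orderOf_eq_five_or_seven hVsq (by rw [hV8]; norm_num) (Or.inr rfl) hφp
          fun h1 => ha (hfix a (by rw [h1]; rfl))
      have horb : ∀ w : Abelianization Y, w ≠ 1 → ∃ i : Fin 7, (φ ^ (i : ℕ)) a = w := by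
        have hinj : Function.Injective fun i : Fin 7 => (φ ^ (i : ℕ)) a := by
          intro i j e
          by_contra hij
          rcases lt_or_gt_of_ne (fun h => hij (Fin.ext h) : (i : ℕ) ≠ j) with hlt | hlt
          all_goals
            first
            | (have e' : (φ ^ ((j : ℕ) - i)) a = a := by
                apply (φ ^ (i : ℕ)).injective
                rw [← MulAut.mul_apply, ← pow_add, Nat.add_sub_cancel' hlt.le]
                exact e.symm
               obtain ⟨k, hk⟩ := exists_pow_eq_self_of_coprime (x := φ) (n := (j : ℕ) - i) (by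
                rw [hφ7]
                exact ((Nat.Prime.coprime_iff_not_dvd (by norm_num)).2 (fun hd => by
                  have := Nat.le_of_dvd (by omega) hd
                  omega)).symm)
               refine ha (hfix a ?_)
               conv_lhs => rw [← hk]
               exact MulAction.mem_stabilizer_iff.1
                (pow_mem (show φ ^ ((j : ℕ) - i) ∈ MulAction.stabilizer (MulAut _) a from e') k))
            | (have e' : (φ ^ ((i : ℕ) - j)) a = a := by
                apply (φ ^ (j : ℕ)).injective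
                rw [← MulAut.mul_apply, ← pow_add, Nat.add_sub_cancel' hlt.le]
                exact e
               obtain ⟨k, hk⟩ := exists_pow_eq_self_of_coprime (x := φ) (n := (i : ℕ) - j) (by
                rw [hφ7]
                exact ((Nat.Prime.coprime_iff_not_dvd (by norm_num)).2 (fun hd => by
                  have := Nat.le_of_dvd (by omega) hd
                  omega)).symm)
               refine ha (hfix a ?_)
               conv_lhs => rw [← hk]
               exact MulAction.mem_stabilizer_iff.1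
                (pow_mem (show φ ^ ((i : ℕ) - j) ∈ MulAction.stabilizer (MulAut _) a from e') k))
        intro w hw
        by_contra hne'
        push Not at hne'
        have hsub : Set.range (fun i : Fin 7 => (φ ^ (i : ℕ)) a) ⊆
            (({1, w} : Set (Abelianization Y))ᶜ) := by
          rintro _ ⟨i, rfl⟩ (h1 | h1)
          · exact ha ((φ ^ (i : ℕ)).injective (h1.trans (map_one _).symm))
          · exact hne' i h1
        have h1 := Set.ncard_le_ncard hsub (Set.toFinite _)
        rw [Set.ncard_range_of_injective hinj, Set.ncard_compl, hV8, Set.ncard_pair (Ne.symm hw),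
          Nat.card_fin] at h1
        omega
      have hq : ∀ w ∈ Y, w ∉ Z → w ^ 2 = v ^ 2 := by
        intro w hw hwZ
        obtain ⟨i, hi⟩ := horb (Abelianization.of ⟨w, hw⟩)
          (fun e => hwZ (by rwa [of_eq_one_iff, hZcomm] at e))
        have e1 : Abelianization.of (⟨vi x v i, hvi hv i⟩ : Y) = Abelianization.of ⟨w, hw⟩ := by
          rw [← hi, ← hva, hφdef, ← map_pow]
          exact (modHom_of (pow_mem hxY (i : ℕ)) hv).symm
        rw [of_eq_iff, hZcomm] at e1
        conv_lhs => rw [← mul_inv_cancel_left (vi x v i) w]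
        rw [(show Commute (vi x v i) ((vi x v i)⁻¹ * w) from
          (hcen _ e1 _ (hvi hv i)).symm).mul_pow, hzsq _ e1, mul_one, vi, conj_pow,
          ((hxZ _ (hsq v hv)).pow_left (i : ℕ)).eq, mul_inv_cancel_right]
      set q := v ^ 2 with hqdef
      have hqq : q * q = 1 := by rw [← pow_two]; exact hzsq _ (hsq v hv)
      have hcm : ∀ {b c : G}, b ∈ Y → c ∈ Y → b ∉ Z → c ∉ Z → b * c ∉ Z → ⁅c, b⁆ = q := by
        intro b c hb hc hbZ hcZ hbcZ
        have hz : ⁅c, b⁆ ∈ Z := hZcomm ▸ commutator_mem_commutator hc hb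
        have e : (b * c) ^ 2 = b * ⁅c, b⁆ * b * c * c := by
          simp only [pow_two, commutatorElement_def]; group
        rw [← hcen _ hz b hb, mul_assoc, mul_assoc, mul_assoc, ← mul_assoc b b, ← pow_two, ← pow_two,
          hq b hb hbZ, hq c hc hcZ, hq _ (mul_mem hb hc) hbcZ, hqq, mul_one] at e
        exact e.symm
      obtain ⟨B, hB⟩ : ∃ B, B ∉ zpowers a := by
        by_contra hc'
        push Not at hc'
        have htop : zpowers a = ⊤ := eq_top_iff.2 fun w _ => hc' w
        have h1 := congrArg (fun H : Subgroup (Abelianization Y) => Nat.card H) htop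
        simp only [Subgroup.card_top, Nat.card_zpowers, hV8] at h1
        have := Nat.le_of_dvd (by norm_num) (orderOf_dvd_of_pow_eq_one (hVsq a))
        omega
      obtain ⟨C, hC⟩ : ∃ C, C ∉ zpowers a ⊔ zpowers B := by
        by_contra hc'
        push Not at hc'
        have htop : zpowers a ⊔ zpowers B = ⊤ := eq_top_iff.2 fun w _ => hc' w
        have h1 := card_sup_mul_inf (B := zpowers B) (D := zpowers a)
          (by rw [normalizer_eq_top]; exact le_top)
        rw [htop, Subgroup.card_top, hV8, Nat.card_zpowers, Nat.card_zpowers] at h1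
        have h2 := Nat.le_of_dvd (by norm_num) (orderOf_dvd_of_pow_eq_one (hVsq a))
        have h3 := Nat.le_of_dvd (by norm_num) (orderOf_dvd_of_pow_eq_one (hVsq B))
        have h4 := Nat.mul_le_mul h2 h3
        have h5 := Nat.card_pos (α := (zpowers a ⊓ zpowers B : Subgroup (Abelianization Y)))
        nlinarith
      obtain ⟨⟨b, hb⟩, hbB⟩ := of_surjective B
      obtain ⟨⟨c, hc⟩, hcC⟩ := of_surjective C
      have hmem : ∀ {w : G} (hw : w ∈ Y), w ∈ Z → Abelianization.of (⟨w, hw⟩ : Y) = 1 := by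
        intro w hw h1
        rw [of_eq_one_iff, hZcomm]
        exact h1
      have hprod : ∀ {w w' : G} (hw : w ∈ Y) (hw' : w' ∈ Y),
          w * w' ∈ Z → Abelianization.of (⟨w, hw⟩ : Y) = Abelianization.of ⟨w', hw'⟩ := by
        intro w w' hw hw' h1
        have h2 := hmem (mul_mem hw hw') h1
        rw [show (⟨w * w', mul_mem hw hw'⟩ : Y) = ⟨w, hw⟩ * ⟨w', hw'⟩ from rfl, map_mul,
          mul_eq_one_iff_eq_inv, hVinv] at h2
        exact h2
      have hvZ : v ∉ Z := fun h1 => ha (hva ▸ hmem hv h1)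
      have hbZ : b ∉ Z := fun h1 => hB (hbB ▸ hmem hb h1 ▸ one_mem _)
      have hcZ : c ∉ Z := fun h1 => hC (hcC ▸ hmem hc h1 ▸ one_mem _)
      have haS : a ∈ zpowers a ⊔ zpowers B := mem_sup_left (mem_zpowers a)
      have hBS : B ∈ zpowers a ⊔ zpowers B := mem_sup_right (mem_zpowers B)
      have hvb : v * b ∉ Z := fun h1 => hB (by
        rw [← hbB, ← hprod hv hb h1, hva]; exact mem_zpowers a)
      have hvc : v * c ∉ Z := fun h1 => hC (by
        rw [← hcC, ← hprod hv hc h1, hva]; exact haS)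
      have hbc : b * c ∉ Z := fun h1 => hC (by
        rw [← hcC, ← hprod hb hc h1, hbB]; exact hBS)
      have hbcv : b * c * v ∉ Z := fun h1 => hC (by
        have h2 := hprod (mul_mem hb hc) hv h1
        rw [show (⟨b * c, mul_mem hb hc⟩ : Y) = ⟨b, hb⟩ * ⟨c, hc⟩ from rfl, map_mul, hbB, hcC,
          hva] at h2
        have h3 : C = B * a := by rw [← h2, ← mul_assoc, hVmul, one_mul]
        rw [h3]; exact mul_mem hBS haS)
      have hq1 : q = 1 := by
        have e1 := commutator_mul_left_of_central hcen' hb hc hv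
        have hcv : c * v ∉ Z := fun h1 => hvc (by
          have h2 := hprod hc hv h1
          rw [of_eq_iff, hZcomm] at h2
          have h3 : v * c ∈ Z := by
            have h4 : v * c = v * (c * v) * v⁻¹ := by group
            rw [h4]; exact Coprime.conj_mem (hYZn hv) h1
          exact h3)
        rw [hcm hv (mul_mem hb hc) hvZ hbc (fun h1 => hbcv (by
            have h4 : b * c * v = v⁻¹ * (v * (b * c)) * v⁻¹⁻¹ := by group
            rw [h4]; exact Coprime.conj_mem (hYZn (inv_mem hv)) h1)),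
          hcm hv hc hvZ hcZ hvc, hcm hv hb hvZ hbZ hvb, hqq] at e1
        exact e1
      have hY2 : ∀ w ∈ Y, w ^ 2 = 1 := fun w hw => by
        by_cases hwZ : w ∈ Z
        · exact hzsq w hwZ
        · rw [hq w hw hwZ, hq1]
      rw [← hZcomm, commutator_eq_bot_iff_le_centralizer]
      intro w hw
      refine mem_centralizer_iff.2 fun w' hw' => ?_
      have hinv : ∀ u ∈ Y, u⁻¹ = u := fun u hu =>
        inv_eq_of_mul_eq_one_right (by rw [← pow_two]; exact hY2 u hu)
      rw [← hinv _ (mul_mem hw' hw), mul_inv_rev, hinv w hw, hinv w' hw']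
    obtain ⟨hYe, hYfix, hYc⟩ := hel2 hb
    exact false_of_eight hG hno hYe (hYc.trans hV8) hxY hxp hYfix
  -- order 5
  have hZ4 : Nat.card Z ≤ 4 := by
    obtain ⟨v, hv, hvZ⟩ := SetLike.not_le_iff_exists.1 (phi_lt hYne).not_ge
    have hper : ∀ i : ℕ, vi x v (i % 5) = vi x v i := fun i => by
      have h5 := pow_mod_orderOf x i
      rw [hx] at h5
      rw [vi, vi, h5]
    have hshift : ∀ i j : ℕ, ⁅vi x v i, vi x v (i + j)⁆ = ⁅v, vi x v j⁆ := by
      intro i j
      have hz : ⁅v, vi x v j⁆ ∈ Z := hZcomm ▸ commutator_mem_commutator hv (hvi hv j)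
      have e : ⁅vi x v i, vi x v (i + j)⁆ = x ^ i * ⁅v, vi x v j⁆ * (x ^ i)⁻¹ := by
        simp only [vi, commutatorElement_def, pow_add]; group
      rw [e, ((hxZ _ hz).pow_left i).eq, mul_inv_cancel_right]
    set K := zpowers ⁅v, vi x v 1⁆ ⊔ zpowers ⁅v, vi x v 2⁆ with hK
    have h1K : ⁅v, vi x v 1⁆ ∈ K := mem_sup_left (mem_zpowers _)
    have h2K : ⁅v, vi x v 2⁆ ∈ K := mem_sup_right (mem_zpowers _)
    have hj : ∀ j, j < 5 → ⁅v, vi x v j⁆ ∈ K := by
      intro j hj
      have hback : ∀ i j : ℕ, i + j = 5 → ⁅v, vi x v j⁆ = ⁅v, vi x v i⁆⁻¹ := fun i j hij => by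
        rw [← hshift i j, hij, ← hper 5, commutatorElement_inv]
        simp only [Nat.mod_self, vi_zero]
      interval_cases j
      · rw [vi_zero, commutatorElement_self]; exact one_mem K
      · exact h1K
      · exact h2K
      · rw [hback 2 3 rfl]; exact inv_mem h2K
      · rw [hback 1 4 rfl]; exact inv_mem h1K
    have hgen : ∀ i j : ℕ, ⁅vi x v i, vi x v j⁆ ∈ K := by
      intro i j
      have h1 : vi x v (i + ((j + 4 * i) % 5)) = vi x v j := by
        rw [← hper (i + (j + 4 * i) % 5), ← hper j]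
        congr 1
        omega
      rw [← h1, hshift]
      exact hj _ (Nat.mod_lt _ (by norm_num))
    let D : (S : Set G) → Subgroup G := fun S =>
      { carrier := {g | g ∈ Y ∧ ∀ s ∈ S, s ∈ Y → ⁅g, s⁆ ∈ K}
        one_mem' := ⟨one_mem _, fun s _ _ => by rw [commutatorElement_one_left]; exact one_mem K⟩
        mul_mem' := fun {g g'} hg hg' => ⟨mul_mem hg.1 hg'.1, fun s hs hsY => by
          rw [commutator_mul_left_of_central hcen' hg.1 hg'.1 hsY]
          exact mul_mem (hg'.2 s hs hsY) (hg.2 s hs hsY)⟩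
        inv_mem' := fun {g} hg => ⟨inv_mem hg.1, fun s hs hsY => by
          have e := commutator_mul_left_of_central hcen' hg.1 (inv_mem hg.1) hsY
          rw [mul_inv_cancel, commutatorElement_one_left, eq_comm, mul_eq_one_iff_eq_inv] at e
          rw [e]; exact inv_mem (hg.2 s hs hsY)⟩ }
    have horbit : closure (Set.range (vi x v)) = Y := by
      have hcl : closure (Set.range (vi x v)) ≤ Y :=
        (closure_le _).2 (by rintro _ ⟨i, rfl⟩; exact hvi hv i)
      refine (hirr _ hcl ?_).resolve_left fun h1 => hvZ (h1 (subset_closure ⟨0, vi_zero x v⟩))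
      refine Coprime.mem_normalizer_of_map_conj (eq_of_le_of_card_ge ?_
        (Coprime.card_map_conj _ _).ge)
      rw [MonoidHom.map_closure, closure_le]
      rintro _ ⟨_, ⟨i, rfl⟩, rfl⟩
      refine subset_closure ⟨i + 1, ?_⟩
      simp only [vi, pow_succ', MulEquiv.coe_toMonoidHom, MulAut.conj_apply]
      group
    have h1 : Y ≤ D (Set.range (vi x v)) := horbit.ge.trans ((closure_le _).2 (by
      rintro _ ⟨i, rfl⟩
      exact ⟨hvi hv i, by rintro _ ⟨j, rfl⟩ _; exact hgen i j⟩))
    have h2 : Y ≤ D (Y : Set G) := horbit.ge.trans ((closure_le _).2 (by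
      rintro _ ⟨i, rfl⟩
      refine ⟨hvi hv i, fun s hs _ => ?_⟩
      rw [← commutatorElement_inv]
      exact inv_mem ((h1 hs).2 _ ⟨i, rfl⟩ (hvi hv i))))
    have hZK : Z ≤ K := hZcomm ▸ commutator_le.2 fun a ha b hb => (h2 ha).2 b hb hb
    refine (card_le_of_le hZK).trans ?_
    have hf1 : ⁅v, vi x v 1⁆ ∈ Z := hZcomm ▸ commutator_mem_commutator hv (hvi hv 1)
    have hf2 : ⁅v, vi x v 2⁆ ∈ Z := hZcomm ▸ commutator_mem_commutator hv (hvi hv 2)
    have hn : zpowers ⁅v, vi x v 1⁆ ≤ normalizer (zpowers ⁅v, vi x v 2⁆ : Set G) := by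
      refine zpowers_le.2 (centralizer_le_normalizer _ ?_)
      rw [zpowers_eq_closure, centralizer_closure]
      exact mem_centralizer_singleton_iff.2 (hcen _ hf1 _ (hZY hf2))
    have h3 := card_sup_mul_inf hn
    rw [← hK, Nat.card_zpowers, Nat.card_zpowers] at h3
    have ha := Nat.le_of_dvd (by norm_num) (orderOf_dvd_of_pow_eq_one (hzsq _ hf1))
    have hb := Nat.le_of_dvd (by norm_num) (orderOf_dvd_of_pow_eq_one (hzsq _ hf2))
    have h4 := Nat.mul_le_mul ha hb
    have h5 := Nat.card_pos (α := (zpowers ⁅v, vi x v 1⁆ ⊓ zpowers ⁅v, vi x v 2⁆ : Subgroup G))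
    nlinarith
  obtain ⟨e, he⟩ := IsPGroup.iff_card.1 (hY.to_le hZY)
  have he2 : e ≤ 2 := (Nat.pow_le_pow_iff_right (le_refl 2)).1 ((he ▸ hZ4).trans (by norm_num : 4 ≤ 2 ^ 2))
  by_cases hb : Z = ⊥
  · obtain ⟨hYe, hYfix, hYc⟩ := hel2 hb
    exact false_of_sixteen hG hno hYe (hYc.trans hV) hxY hxp hYfix
  have he0 : e ≠ 0 := by
    rintro rfl
    rw [pow_zero] at he
    exact hb (card_eq_one.1 he)
  have hcZ : Nat.card Z = 2 ∨ Nat.card Z = 4 := by
    rw [he]
    interval_cases e <;> first | exact absurd rfl he0 | norm_num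
  have hsp : Sp Y Z x :=
    ⟨hY, hZY, hcen, hzsq, hsq, hZcomm, hxY, ⟨1, by rw [pow_one]; exact hxp⟩, hxZ,
      by rw [hcardV, hV], hcZ, hfixY⟩
  rcases hcZ with h2 | h4
  · exact hsp.false_of_card_two hG hno.rk hrkr h2
  · exact hsp.false_of_card_four hG hno.rk hrkr h4

end Cfsg.Agent.H63.TwoGen.NoMoved
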