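import Cfsg.Agent.H63.TwoGen.Classes
import Cfsg.Agent.S0501
import Cfsg.Agent.Cores.NoAbelianEight
import Mathlib

/-!
# Piece D: sectional rank at most four

`NoEight G`: no Sylow 2-subgroup has a normal elementary abelian subgroup of order at least 8.
`Rk G`: an elementary abelian section of a 2-subgroup has order at most 16.
-/

set_option autoImplicit false
set_option linter.style.haveILetI false
open Cfsg

namespace Cfsg.Agent.H63.TwoGen.NoMoved

open Subgroup

universe u

variable {G : Type u} [Group G]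

/-- Elementary sections of 2-subgroups have order at most `16`. -/
def Rk (G : Type u) [Group G] : Prop :=
  ∀ T K : Subgroup G, IsPGroup 2 T → K ≤ T → T ≤ normalizer (K : Set G) →
    (∀ t ∈ T, t ^ 2 ∈ K) → Nat.card T ≤ 16 * Nat.card K

/-- No Sylow 2-subgroup has a normal elementary abelian subgroup of order 8 or more. -/
def NoEight (G : Type u) [Group G] : Prop :=
  ∀ (P : Sylow 2 G) (A : Subgroup G), A ≤ (P : Subgroup G) →
    (P : Subgroup G) ≤ normalizer (A : Set G) → Cfsg.IsElementaryAbelian 2 A → Nat.card A ≤ 4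

theorem isMulCommutative_of_sq {X : Type*} [Group X] (h : ∀ x : X, x ^ 2 = 1) :
    IsMulCommutative X := by
  have hinv : ∀ x : X, x⁻¹ = x := fun x =>
    inv_eq_of_mul_eq_one_right (by rw [← pow_two]; exact h x)
  exact ⟨⟨fun a b => by rw [← hinv (a * b), mul_inv_rev, hinv, hinv]⟩⟩

theorem noEight_of_sylow [Finite G] (S : Sylow 2 G)
    (hno : ∀ A : Subgroup G, A ≤ (S : Subgroup G) → (S : Subgroup G) ≤ normalizer (A : Set G) →
      Cfsg.IsElementaryAbelian 2 A → Nat.card A ≤ 4) : NoEight G := by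
  intro P A hAP hPA hA
  obtain ⟨g, rfl⟩ := MulAction.exists_smul_eq G P S
  haveI := hA.1
  have h := hno (A.map (MulAut.conj g).toMonoidHom) (Subgroup.map_mono hAP)
    ((Subgroup.map_mono hPA).trans (Subgroup.le_normalizer_map _))
    ⟨Subgroup.map_isMulCommutative A _, by
      rintro _ ⟨a, ha, rfl⟩
      rw [← map_pow, hA.2 a ha, map_one]⟩
  rwa [Coprime.card_map_conj] at h

theorem NoEight.rk [Finite G] (h : NoEight G) : Rk G := by
  intro T K hT hKT hTK hsq
  obtain ⟨P, hP⟩ := hT.exists_le_sylow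
  have hsec : Cfsg.SectionalPRankLE 2 4 ↥(P : Subgroup G) := by
    refine Cfsg.Agent.S0501.result P.isPGroup' fun A hAn hA hA2 => ?_
    haveI := hA
    rw [← Subgroup.card_map_of_injective (P : Subgroup G).subtype_injective]
    refine h P _ (map_subtype_le _) ?_ ⟨Subgroup.map_isMulCommutative A _, ?_⟩
    · refine (Subgroup.normal_subgroupOf_iff_le_normalizer (map_subtype_le _)).1 ?_
      rwa [subgroupOf, comap_map_eq_self_of_injective (P : Subgroup G).subtype_injective]
    · rintro _ ⟨a, ha, rfl⟩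
      rw [← map_pow, hA2 a ha, map_one]
  let f : T →* ↥(P : Subgroup G) := Subgroup.inclusion hP
  have hf : Function.Injective f := Subgroup.inclusion_injective hP
  haveI hKn : (K.subgroupOf T).Normal := normal_subgroupOf_of_le_normalizer hTK
  set N : Subgroup f.range := (K.subgroupOf T).map f.rangeRestrict
  haveI : N.Normal := hKn.map _ f.rangeRestrict_surjective
  have hsq' : ∀ q : f.range ⧸ N, q ^ 2 = 1 := by
    intro q
    obtain ⟨x, rfl⟩ := QuotientGroup.mk'_surjective N q
    obtain ⟨t, rfl⟩ := f.rangeRestrict_surjective x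
    rw [← map_pow, ← map_pow]
    exact (QuotientGroup.eq_one_iff _).2 ⟨t ^ 2, hsq t t.2, rfl⟩
  haveI := isMulCommutative_of_sq hsq'
  have h16 := hsec f.range N ⊤ ⟨⟨fun a b => Subtype.ext (mul_comm' (a : f.range ⧸ N) b)⟩⟩
    fun q _ => hsq' q
  rw [Subgroup.card_top] at h16
  have hidx : N.index = (K.subgroupOf T).index :=
    Subgroup.index_map_of_bijective
      ⟨fun a b e => hf (congrArg Subtype.val e), f.rangeRestrict_surjective⟩ _
  have h1 : N.index ≤ 2 ^ 4 := h16
  rw [← (K.subgroupOf T).card_mul_index, Nat.card_congr (subgroupOfEquivOfLe hKT).toEquiv,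
    mul_comm 16 (Nat.card K), ← hidx]
  exact Nat.mul_le_mul_left _ h1

/-- `Rk` passes to a quotient by a normal subgroup of odd order. -/
theorem Rk.quotient [Finite G] (h : Rk G) (N : Subgroup G) [N.Normal] (hN : Odd (Nat.card N)) :
    Rk (G ⧸ N) := by
  haveI : Fact (Nat.Prime 2) := ⟨Nat.prime_two⟩
  intro T₀ K₀ hT hKT hTK hsq
  set L := T₀.comap (QuotientGroup.mk' N) with hL
  obtain ⟨P⟩ : Nonempty (Sylow 2 L) := inferInstance
  set T := (P : Subgroup L).map L.subtype with hTdef
  have hTp : IsPGroup 2 T := P.isPGroup'.map _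
  have hmap : T.map (QuotientGroup.mk' N) ≤ T₀ :=
    (map_mono (map_subtype_le _)).trans (map_comap_le _ _)
  have hinj : ∀ a ∈ T, QuotientGroup.mk' N a = 1 → a = 1 := by
    intro a ha e
    have haN : a ∈ N := (QuotientGroup.eq_one_iff a).1 e
    obtain ⟨k, hk⟩ := hTp ⟨a, ha⟩
    have hk' : a ^ 2 ^ k = 1 := congrArg Subtype.val hk
    have h1 : orderOf a ∣ Nat.gcd (2 ^ k) (Nat.card N) :=
      Nat.dvd_gcd (orderOf_dvd_of_pow_eq_one hk') (Subgroup.orderOf_dvd_natCard N haN)
    rw [((Nat.coprime_two_left.2 hN).pow_left k).gcd_eq_one, Nat.dvd_one] at h1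
    exact orderOf_eq_one_iff.1 h1
  let f : T → T₀ := fun a => ⟨QuotientGroup.mk' N a, hmap (mem_map_of_mem _ a.2)⟩
  have hf : Function.Injective f := fun a b e => by
    have e' : QuotientGroup.mk' N (a : G) = QuotientGroup.mk' N b := congrArg Subtype.val e
    exact Subtype.ext (eq_of_mul_inv_eq_one
      (hinj _ (mul_mem a.2 (inv_mem b.2)) (by rw [map_mul, map_inv, e', mul_inv_cancel])))
  have hcard : Nat.card L = Nat.card N * Nat.card T₀ := by
    rw [← Nat.card_prod]
    exact Nat.card_congr (QuotientGroup.preimageMkEquivSubgroupProdSet N (T₀ : Set (G ⧸ N)))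
  obtain ⟨k, hk⟩ := IsPGroup.iff_card.1 hT
  have hTcard : Nat.card T₀ = Nat.card T := by
    rw [hTdef, card_map_of_injective L.subtype_injective, P.card_eq_multiplicity, hcard, hk,
      Nat.factorization_mul Nat.card_pos.ne' (by positivity), Nat.prime_two.factorization_pow]
    simp [Nat.factorization_eq_zero_of_not_dvd
      (fun h2 => Nat.not_even_iff_odd.2 hN (even_iff_two_dvd.2 h2))]
  set K := T ⊓ K₀.comap (QuotientGroup.mk' N)
  have hTK' : T ≤ normalizer (K : Set G) := by
    refine le_normalizer_iff.2 fun t ht x hx => ⟨?_, ?_⟩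
    · exact T.mul_mem (T.mul_mem ht hx.1) (T.inv_mem ht)
    · show QuotientGroup.mk' N (t * x * t⁻¹) ∈ K₀
      rw [map_mul, map_mul, map_inv]
      exact Coprime.conj_mem (hTK (hmap (mem_map_of_mem _ ht))) hx.2
  have h1 := h T K hTp inf_le_left hTK' fun t ht => ⟨pow_mem ht 2, by
    show QuotientGroup.mk' N (t ^ 2) ∈ K₀
    rw [map_pow]; exact hsq _ (hmap (mem_map_of_mem _ ht))⟩
  rw [hTcard]
  refine h1.trans (Nat.mul_le_mul_left _ ?_)
  refine Nat.card_le_card_of_injective (fun a : K => (⟨QuotientGroup.mk' N a, a.2.2⟩ : K₀))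
    fun a b e => Subtype.ext ?_
  have e' : f ⟨a, a.2.1⟩ = f ⟨b, b.2.1⟩ := Subtype.ext (congrArg Subtype.val e :)
  exact congrArg (fun z : T => (z : G)) (hf e')

/-- `Rk` passes to subgroups. -/
theorem Rk.subgroup (h : Rk G) (H : Subgroup G) : Rk H := by
  intro T K hT hKT hTK hsq
  have h1 := h (T.map H.subtype) (K.map H.subtype) (hT.map _) (map_mono hKT)
    ((map_mono hTK).trans (le_normalizer_map _)) (by
      rintro _ ⟨t, ht, rfl⟩
      exact ⟨t ^ 2, hsq t ht, rfl⟩)
  rwa [card_map_of_injective H.subtype_injective, card_map_of_injective H.subtype_injective] at h1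

/-- The product formula. -/
theorem card_sup_mul_inf [Finite G] {B D : Subgroup G} (h : D ≤ normalizer (B : Set G)) :
    Nat.card (D ⊔ B : Subgroup G) * Nat.card (D ⊓ B : Subgroup G) = Nat.card D * Nat.card B := by
  set L := D ⊔ B
  haveI : (B.subgroupOf L).Normal :=
    normal_subgroupOf_of_le_normalizer (sup_le h le_normalizer)
  have h1 := relIndex_mul_relIndex ⊥ (B.subgroupOf L) (D.subgroupOf L ⊔ B.subgroupOf L) bot_le
    le_sup_right
  have h2 := relIndex_mul_relIndex ⊥ (D.subgroupOf L ⊓ B.subgroupOf L) (D.subgroupOf L) bot_le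
    inf_le_left
  rw [relIndex_bot_left, relIndex_bot_left, relIndex_sup_right] at h1
  rw [relIndex_bot_left, relIndex_bot_left, inf_relIndex_left] at h2
  have hsup : D.subgroupOf L ⊔ B.subgroupOf L = ⊤ := by
    rw [← subgroupOf_sup le_sup_left le_sup_right, subgroupOf_self]
  have hinf : D.subgroupOf L ⊓ B.subgroupOf L = (D ⊓ B).subgroupOf L := rfl
  rw [hsup, Subgroup.card_top] at h1
  rw [hinf] at h2
  have eD := Nat.card_congr (subgroupOfEquivOfLe (le_sup_left : D ≤ L)).toEquiv
  have eB := Nat.card_congr (subgroupOfEquivOfLe (le_sup_right : B ≤ L)).toEquiv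
  have eI := Nat.card_congr
    (subgroupOfEquivOfLe (inf_le_left.trans le_sup_left : D ⊓ B ≤ L)).toEquiv
  rw [eB] at h1
  rw [eD, eI] at h2
  rw [← h1, ← h2]
  ring

/-- A 2-subgroup which is not properly normalized in a larger one is a Sylow subgroup. -/
theorem exists_sylow_eq [Finite G] {T : Subgroup G} (hT : IsPGroup 2 T)
    (h : ∀ R : Subgroup G, IsPGroup 2 R → T ≤ R → ∀ n ∈ R, n ∈ normalizer (T : Set G) → n ∈ T) :
    ∃ P : Sylow 2 G, (P : Subgroup G) = T := by
  haveI : Fact (Nat.Prime 2) := ⟨Nat.prime_two⟩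
  obtain ⟨P, hP⟩ := hT.exists_le_sylow
  refine ⟨P, (hP.eq_of_not_lt fun hlt => ?_).symm⟩
  exact not_inf_normalizer_le P.isPGroup' hlt fun n hn => h P P.isPGroup' hP n hn.1 hn.2

/-- A maximal 2-subgroup of `L` above `U`. -/
theorem exists_maximal_two [Finite G] {U L : Subgroup G} (hU : IsPGroup 2 U) (hUL : U ≤ L) :
    ∃ T, U ≤ T ∧ T ≤ L ∧ IsPGroup 2 T ∧
      ∀ R : Subgroup G, IsPGroup 2 R → R ≤ L → T ≤ R → R ≤ T := by
  obtain ⟨T, hUT, hT⟩ := Finite.exists_le_maximal
    (p := fun R : Subgroup G => IsPGroup 2 R ∧ R ≤ L) ⟨hU, hUL⟩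
  exact ⟨T, hUT, hT.1.2, hT.1.1, fun R hR hRL hTR => hT.2 ⟨hR, hRL⟩ hTR⟩

/-- An element of a 2-group normalizing a maximal 2-subgroup of `L` and lying in `L` is in it. -/
theorem mem_of_maximal_two {T L R : Subgroup G} (hR : IsPGroup 2 R) (hTR : T ≤ R) (hTL : T ≤ L)
    (hT : ∀ R' : Subgroup G, IsPGroup 2 R' → R' ≤ L → T ≤ R' → R' ≤ T) {n : G} (hn : n ∈ R)
    (hnL : n ∈ L) : n ∈ T :=
  hT (T ⊔ zpowers n) (hR.to_le (sup_le hTR (zpowers_le.2 hn))) (sup_le hTL (zpowers_le.2 hnL))
    le_sup_left (mem_sup_right (mem_zpowers n))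

end Cfsg.Agent.H63.TwoGen.NoMoved
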