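import Cfsg.Agent.H63.TwoGen.NoMoved.SpecialTwo
import Cfsg.Agent.PGroups.RankTwo
import Cfsg.Agent.H62.CoprimeFix
import Mathlib

/-!
# Piece D: a moved special group centralizes the small `r`-groups it normalizes

`Y` cannot act on an elementary group of order at most `r ^ 2` with kernel inside `Z`.
-/

set_option autoImplicit false
set_option linter.style.haveILetI false
open Cfsg

namespace Cfsg.Agent.H63.TwoGen.NoMoved

open Subgroup
open scoped commutatorElement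

universe u v

section Involution

variable {V : Type v} [Group V] [Finite V] {r : ℕ}

/-- A non-scalar involution on an elementary group of order at most `r ^ 2` has eigenvectors
spanning it. -/
theorem exists_eigen (hr : r.Prime) (hr2 : r ≠ 2) (hcomm : ∀ a b : V, Commute a b)
    (hexp : ∀ v : V, v ^ r = 1) (hcard : Nat.card V ≤ r ^ 2) {τ : MulAut V} (hτ : τ * τ = 1)
    (h1 : τ ≠ 1) (hneg : ¬ ∀ v, τ v = v⁻¹) :
    ∃ e f : V, closure ({e, f} : Set V) = ⊤ ∧
      ∀ σ : MulAut V, Commute σ τ → σ e ∈ zpowers e ∧ σ f ∈ zpowers f := by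
  haveI : Fact r.Prime := ⟨hr⟩
  obtain ⟨k, hk⟩ : ∃ k, r = 2 * k + 1 := hr.odd_of_ne_two hr2
  let P : Subgroup V :=
    { carrier := {v | τ v = v}
      one_mem' := map_one τ
      mul_mem' := fun {a b} (ha : τ a = a) (hb : τ b = b) => show τ (a * b) = _ by rw [map_mul, ha, hb]
      inv_mem' := fun {a} (ha : τ a = a) => show τ a⁻¹ = _ by rw [map_inv, ha] }
  let M : Subgroup V :=
    { carrier := {v | τ v = v⁻¹}
      one_mem' := show τ 1 = 1⁻¹ by rw [map_one, inv_one]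
      mul_mem' := fun {a b} (ha : τ a = a⁻¹) (hb : τ b = b⁻¹) => show τ (a * b) = _ by
        rw [map_mul, ha, hb, mul_inv_rev, (hcomm a b).inv_inv.eq]
      inv_mem' := fun {a} (ha : τ a = a⁻¹) => show τ a⁻¹ = _ by rw [map_inv, ha] }
  have hττ : ∀ v, τ (τ v) = v := fun v => by rw [← MulAut.mul_apply, hτ, MulAut.one_apply]
  have hpow : ∀ v : V, v ^ (2 * (k + 1)) = v := fun v => by
    rw [show 2 * (k + 1) = r + 1 by omega, pow_succ, hexp, one_mul]
  have hdec : ∀ v : V, ∃ a ∈ P, ∃ b ∈ M, a * b = v := by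
    intro v
    refine ⟨(v * τ v) ^ (k + 1), ?_, (v * (τ v)⁻¹) ^ (k + 1), ?_, ?_⟩
    · show τ _ = _
      rw [map_pow, map_mul, hττ, (hcomm _ _).eq]
    · show τ _ = _
      rw [map_pow, map_mul, map_inv, hττ, ← inv_pow, mul_inv_rev, inv_inv]
    · rw [← (hcomm _ _).mul_pow, show v * τ v * (v * (τ v)⁻¹) = v ^ 2 by
        rw [mul_assoc v, ← mul_assoc (τ v), (hcomm (τ v) v).eq, mul_assoc v, mul_inv_cancel,
          mul_one, pow_two],
        ← pow_mul, hpow]
  have hP : P ≠ ⊥ := fun hb => hneg fun v => by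
    obtain ⟨a, ha, b, hb', rfl⟩ := hdec v
    rw [hb, mem_bot] at ha
    rw [ha, one_mul]
    exact hb'
  have hM : M ≠ ⊥ := fun hb => h1 (MulEquiv.ext fun v => by
    obtain ⟨a, ha, b, hb', rfl⟩ := hdec v
    rw [hb, mem_bot] at hb'
    rw [hb', mul_one]
    exact ha)
  have hinj : Function.Injective fun p : P × M => (p.1 : V) * p.2 := by
    rintro ⟨a, b⟩ ⟨a', b'⟩ (e : (a : V) * b = a' * b')
    have e1 : (a' : V)⁻¹ * a = b' * (b : V)⁻¹ := by
      rw [eq_mul_inv_iff_mul_eq, mul_assoc, e, inv_mul_cancel_left]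
    have hP' : τ ((a' : V)⁻¹ * a) = (a' : V)⁻¹ * a := P.mul_mem (P.inv_mem a'.2) a.2
    have hM' : τ ((b' : V) * (b : V)⁻¹) = ((b' : V) * (b : V)⁻¹)⁻¹ :=
      M.mul_mem b'.2 (M.inv_mem b.2)
    rw [← e1, hP'] at hM'
    have h3 : (a' : V)⁻¹ * a = 1 := by
      set w := (a' : V)⁻¹ * a
      rw [← hpow w, pow_mul, show w ^ 2 = 1 by rw [pow_two]; nth_rw 1 [hM']; exact inv_mul_cancel w,
        one_pow]
    rw [h3] at e1
    exact Prod.ext (Subtype.ext (inv_mul_eq_one.1 h3).symm)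
      (Subtype.ext (mul_inv_eq_one.1 e1.symm).symm)
  have hge : ∀ U : Subgroup V, U ≠ ⊥ → r ≤ Nat.card U := fun U hU => by
    obtain ⟨u, hu, hu1⟩ := U.bot_or_exists_ne_one.resolve_left hU
    rw [← orderOf_eq_prime (hexp u) hu1]
    exact Nat.le_of_dvd Nat.card_pos (orderOf_dvd_natCard U hu)
  have hmul : Nat.card P * Nat.card M ≤ r * r := by
    rw [← Nat.card_prod, ← pow_two]
    exact (Nat.card_le_card_of_injective _ hinj).trans hcard
  have hcP : Nat.card P = r := le_antisymm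
    (Nat.le_of_mul_le_mul_right ((Nat.mul_le_mul_left _ (hge M hM)).trans hmul) hr.pos) (hge P hP)
  have hcM : Nat.card M = r := le_antisymm
    (Nat.le_of_mul_le_mul_left ((Nat.mul_le_mul_right _ (hge P hP)).trans hmul) hr.pos) (hge M hM)
  have hcyc : ∀ U : Subgroup V, Nat.card U = r → ∃ u ∈ U, U = zpowers u := fun U hU => by
    obtain ⟨u, hu, hu1⟩ := U.bot_or_exists_ne_one.resolve_left fun hb => by
      rw [hb, Subgroup.card_bot] at hU; exact hr.one_lt.ne hU
    refine ⟨u, hu, (eq_of_le_of_card_ge (zpowers_le.2 hu) ?_).symm⟩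
    rw [Nat.card_zpowers, orderOf_eq_prime (hexp u) hu1, hU]
  obtain ⟨e, he, hPe⟩ := hcyc P hcP
  obtain ⟨f, hf, hMf⟩ := hcyc M hcM
  refine ⟨e, f, eq_top_iff.2 fun v _ => ?_, fun σ hσ => ⟨hPe ▸ ?_, hMf ▸ ?_⟩⟩
  · obtain ⟨a, ha, b, hb, rfl⟩ := hdec v
    rw [hPe, mem_zpowers_iff] at ha
    rw [hMf, mem_zpowers_iff] at hb
    obtain ⟨i, rfl⟩ := ha
    obtain ⟨j, rfl⟩ := hb
    exact mul_mem (zpow_mem (subset_closure (Set.mem_insert e _)) i)
      (zpow_mem (subset_closure (Set.mem_insert_of_mem e (Set.mem_singleton f))) j)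
  · show τ (σ e) = σ e
    rw [← MulAut.mul_apply, ← hσ.eq, MulAut.mul_apply, show τ e = e from he]
  · show τ (σ f) = (σ f)⁻¹
    rw [← MulAut.mul_apply, ← hσ.eq, MulAut.mul_apply, show τ f = f⁻¹ from hf, map_inv]

omit [Finite V] in
/-- Automorphisms preserving two generating lines commute. -/
theorem commute_of_lines {e f : V} (hgen : closure ({e, f} : Set V) = ⊤) {σ σ' : MulAut V}
    (h : σ e ∈ zpowers e ∧ σ f ∈ zpowers f) (h' : σ' e ∈ zpowers e ∧ σ' f ∈ zpowers f) :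
    Commute σ σ' := by
  refine MulEquiv.toMonoidHom_injective (MonoidHom.eq_of_eqOn_dense hgen ?_)
  have key : ∀ u : V, σ u ∈ zpowers u → σ' u ∈ zpowers u → σ (σ' u) = σ' (σ u) := by
    intro u hu hu'
    obtain ⟨i, hi⟩ := mem_zpowers_iff.1 hu
    obtain ⟨j, hj⟩ := mem_zpowers_iff.1 hu'
    rw [← hi, ← hj, map_zpow, map_zpow, ← hi, ← hj, ← zpow_mul, ← zpow_mul, mul_comm]
  rintro u (rfl | rfl)
  · exact key _ h.1 h'.1
  · exact key _ h.2 h'.2

omit [Finite V] in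
theorem eq_or_eq_inv (hr : r.Prime) (hexp : ∀ v : V, v ^ r = 1) {σ : MulAut V} (hσ : σ * σ = 1)
    {u : V} (hu : σ u ∈ zpowers u) : σ u = u ∨ σ u = u⁻¹ := by
  rcases eq_or_ne u 1 with rfl | hu1
  · exact Or.inl (map_one σ)
  obtain ⟨i, hi⟩ := mem_zpowers_iff.1 hu
  have h2 : u ^ (i * i) = u := by
    rw [zpow_mul, hi, ← map_zpow, hi, ← MulAut.mul_apply, hσ, MulAut.one_apply]
  have hord := orderOf_eq_prime (hexp u) hu1 (hp := ⟨hr⟩)
  have hd : (r : ℤ) ∣ (i - 1) * (i + 1) := by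
    rw [← hord, orderOf_dvd_iff_zpow_eq_one, show (i - 1) * (i + 1) = i * i - 1 by ring, zpow_sub,
      h2, zpow_one, mul_inv_cancel]
  rcases (Nat.prime_iff_prime_int.1 hr).dvd_mul.1 hd with hd | hd
  · left
    rw [← hord, orderOf_dvd_iff_zpow_eq_one, zpow_sub, zpow_one, mul_inv_eq_one] at hd
    rw [← hi, hd]
  · right
    rw [← hord, orderOf_dvd_iff_zpow_eq_one, zpow_add, zpow_one, mul_eq_one_iff_eq_inv] at hd
    rw [← hi, hd]

/-- An elementary abelian 2-group of automorphisms of an elementary group of order at most `r ^ 2`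
has order at most 4. -/
theorem card_two_le_four (hr : r.Prime) (hr2 : r ≠ 2) (hcomm : ∀ a b : V, Commute a b)
    (hexp : ∀ v : V, v ^ r = 1) (hcard : Nat.card V ≤ r ^ 2) (A : Subgroup (MulAut V))
    (hAc : ∀ a ∈ A, ∀ b ∈ A, Commute a b) (hA : ∀ a ∈ A, a * a = 1) : Nat.card A ≤ 4 := by
  by_cases hex : ∃ τ ∈ A, τ ≠ 1 ∧ ¬ ∀ v, τ v = v⁻¹
  · obtain ⟨τ, hτA, hτ1, hτn⟩ := hex
    obtain ⟨e, f, hgen, hlines⟩ := exists_eigen hr hr2 hcomm hexp hcard (hA τ hτA) hτ1 hτn
    classical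
    refine (Nat.card_le_card_of_injective (fun σ : A =>
      (decide ((σ : MulAut V) e = e), decide ((σ : MulAut V) f = f))) ?_).trans (le_of_eq (by simp))
    intro σ σ' he
    obtain ⟨he1, he2⟩ := Prod.mk.inj he
    refine Subtype.ext (MulEquiv.toMonoidHom_injective (MonoidHom.eq_of_eqOn_dense hgen ?_))
    have key : ∀ u : V, (σ : MulAut V) u ∈ zpowers u → (σ' : MulAut V) u ∈ zpowers u →
        decide ((σ : MulAut V) u = u) = decide ((σ' : MulAut V) u = u) →
        (σ : MulAut V) u = (σ' : MulAut V) u := by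
      intro u h1 h2 h3
      rw [decide_eq_decide] at h3
      rcases eq_or_eq_inv hr hexp (hA _ σ.2) h1 with a | a <;>
        rcases eq_or_eq_inv hr hexp (hA _ σ'.2) h2 with b | b
      · rw [a, b]
      · rw [h3.1 a, a]
      · rw [b, h3.2 b]
      · rw [a, b]
    rintro u (rfl | rfl)
    · exact key _ (hlines _ (hAc _ σ.2 τ hτA)).1 (hlines _ (hAc _ σ'.2 τ hτA)).1 he1
    · exact key _ (hlines _ (hAc _ σ.2 τ hτA)).2 (hlines _ (hAc _ σ'.2 τ hτA)).2 he2
  · push Not at hex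
    classical
    refine (Nat.card_le_card_of_injective (fun σ : A => decide ((σ : MulAut V) = 1)) ?_).trans
      (by simp)
    intro σ σ' he
    rw [decide_eq_decide] at he
    refine Subtype.ext ?_
    by_cases h : (σ : MulAut V) = 1
    · rw [h, he.1 h]
    · exact MulEquiv.ext fun v => (hex _ σ.2 h v).trans (hex _ σ'.2 (fun e => h (he.2 e)) v).symm

end Involution

variable {G : Type u} [Group G] [Finite G] {Y Z : Subgroup G} {x : G}

/-- A subset of index at most two. -/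
theorem card_le_two_mul {Y D : Subgroup G}
    (h : ∀ a ∈ Y, a ∉ D → ∀ b ∈ Y, b ∉ D → a⁻¹ * b ∈ D) : Nat.card Y ≤ 2 * Nat.card D := by
  by_cases hle : Y ≤ D
  · have := card_le_of_le hle; omega
  obtain ⟨a, ha, haD⟩ := SetLike.not_le_iff_exists.1 hle
  have hcov : (Y : Set G) ⊆ (D : Set G) ∪ (fun d => a * d) '' (D : Set G) := fun b hb => by
    by_cases hbD : b ∈ D
    · exact Or.inl hbD
    · exact Or.inr ⟨a⁻¹ * b, h a ha haD b hb hbD, mul_inv_cancel_left a b⟩
  have h1 := Set.ncard_le_ncard hcov (Set.toFinite _)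
  have h2 := Set.ncard_union_le (D : Set G) ((fun d => a * d) '' (D : Set G))
  have h3 := Set.ncard_image_le (f := fun d => a * d) (s := (D : Set G)) (Set.toFinite _)
  rw [← Nat.card_coe_set_eq] at h1
  rw [← Nat.card_coe_set_eq (D : Set G)] at h2 h3
  simp only [SetLike.coe_sort_coe] at h1 h2 h3
  omega

/-- `Y` cannot act on an elementary group of order at most `r ^ 2` with kernel inside `Z`. -/
theorem Sp.no_action (h : Sp Y Z x) {V : Type v} [Group V] [Finite V] {r : ℕ} (hr : r.Prime)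
    (hr2 : r ≠ 2) (hcomm : ∀ a b : V, Commute a b) (hexp : ∀ v : V, v ^ r = 1)
    (hcard : Nat.card V ≤ r ^ 2) (ρ : Y →* MulAut V) (hK : ∀ y : Y, ρ y = 1 → (y : G) ∈ Z) :
    False := by
  set K := ρ.ker.map Y.subtype with hKdef
  have memK : ∀ (g : G) (hg : g ∈ Y), g ∈ K ↔ ρ ⟨g, hg⟩ = 1 := by
    intro g hg
    constructor
    · rintro ⟨y, hy, rfl⟩; exact hy
    · intro h1; exact ⟨⟨g, hg⟩, h1, rfl⟩
  have hKZ : K ≤ Z := by rintro _ ⟨y, hy, rfl⟩; exact hK y hy
  have hcm : ∀ a b (ha : a ∈ Y) (hb : b ∈ Y),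
      ⁅a, b⁆ ∈ K ↔ Commute (ρ ⟨a, ha⟩) (ρ ⟨b, hb⟩) := by
    intro a b ha hb
    rw [memK _ (h.le (h.comm_mem ha hb)), ← commutatorElement_eq_one_iff_commute,
      ← map_commutatorElement]
    rfl
  have hsq : ∀ a (ha : a ∈ Y), a ^ 2 ∈ K ↔ ρ ⟨a, ha⟩ * ρ ⟨a, ha⟩ = 1 := by
    intro a ha
    rw [memK _ (pow_mem ha 2), ← map_mul]
    refine Iff.of_eq (congrArg (fun t => ρ t = 1) ?_)
    exact Subtype.ext (pow_two a)
  by_cases hab : ∀ a ∈ Y, ∀ b ∈ Y, ⁅a, b⁆ ∈ K
  · have hZK : Z ≤ K := h.comm ▸ commutator_le.2 hab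
    have h4 := card_two_le_four hr hr2 hcomm hexp hcard ρ.range (by
      rintro _ ⟨⟨a, ha⟩, rfl⟩ _ ⟨⟨b, hb⟩, rfl⟩
      exact (hcm a b ha hb).1 (hab a ha b hb)) (by
      rintro _ ⟨⟨a, ha⟩, rfl⟩
      exact (hsq a ha).1 (hZK (h.sq a ha)))
    have h1 := ρ.ker.card_mul_index
    have hKc : Nat.card ρ.ker = Nat.card K :=
      (card_map_of_injective Y.subtype_injective).symm
    rw [index_ker, hKc, le_antisymm hKZ hZK, h.card, mul_comm 16] at h1
    rw [mul_left_cancel₀ Nat.card_pos.ne' h1] at h4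
    omega
  push Not at hab
  obtain ⟨a₀, ha₀, b₀, hb₀, hab₀⟩ := hab
  -- elements of `Z` outside the kernel invert `V`
  have hneg : ∀ z (hz : z ∈ Z), z ∉ K → ∀ v, ρ ⟨z, h.le hz⟩ v = v⁻¹ := by
    intro z hz hzK
    by_contra hn
    have h2 : ρ ⟨z, h.le hz⟩ * ρ ⟨z, h.le hz⟩ = 1 := (hsq z (h.le hz)).1 (by
      rw [h.zsq z hz]; exact one_mem K)
    obtain ⟨e, f, hgen, hl⟩ := exists_eigen hr hr2 hcomm hexp hcard h2
      (fun e1 => hzK ((memK z (h.le hz)).2 e1)) hn
    have hc : ∀ a (ha : a ∈ Y), Commute (ρ ⟨a, ha⟩) (ρ ⟨z, h.le hz⟩) := fun a ha =>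
      (hcm a z ha (h.le hz)).1 (by
        rw [commutatorElement_eq_one_iff_commute.2 (h.central z hz a ha).symm]; exact one_mem K)
    exact hab₀ ((hcm a₀ b₀ ha₀ hb₀).2
      (commute_of_lines hgen (hl _ (hc a₀ ha₀)) (hl _ (hc b₀ hb₀))))
  have hidx : ∀ z ∈ Z, z ∉ K → ∀ z' ∈ Z, z' ∉ K → z * z' ∈ K := by
    intro z hz hzK z' hz' hz'K
    refine (memK _ (mul_mem (h.le hz) (h.le hz'))).2 (MulEquiv.ext fun v => ?_)
    rw [show (⟨z * z', mul_mem (h.le hz) (h.le hz')⟩ : Y) = ⟨z, h.le hz⟩ * ⟨z', h.le hz'⟩ from rfl,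
      map_mul, MulAut.mul_apply, hneg z' hz' hz'K, hneg z hz hzK, inv_inv, MulAut.one_apply]
  -- centralizers modulo `K`
  let C : G → Subgroup G := fun g =>
    { carrier := {y | y ∈ Y ∧ (g ∈ Y → ⁅g, y⁆ ∈ K)}
      one_mem' := ⟨one_mem _, fun _ => by rw [commutatorElement_one_right]; exact one_mem K⟩
      mul_mem' := fun {a b} ha hb => ⟨mul_mem ha.1 hb.1, fun hg => by
        rw [h.comm_symm hg (mul_mem ha.1 hb.1), h.comm_mul_left ha.1 hb.1 hg, h.comm_symm hb.1 hg,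
          h.comm_symm ha.1 hg]
        exact mul_mem (hb.2 hg) (ha.2 hg)⟩
      inv_mem' := fun {a} ha => ⟨inv_mem ha.1, fun hg => by
        have e := h.comm_mul_left ha.1 (inv_mem ha.1) hg
        rw [mul_inv_cancel, commutatorElement_one_left, h.comm_symm (inv_mem ha.1) hg,
          h.comm_symm ha.1 hg, eq_comm, mul_eq_one_iff_eq_inv] at e
        rw [e]
        exact inv_mem (ha.2 hg)⟩ }
  have memC : ∀ g ∈ Y, ∀ y ∈ Y, y ∈ C g ↔ ⁅g, y⁆ ∈ K := fun g hg y hy =>
    ⟨fun hy' => hy'.2 hg, fun h' => ⟨hy, fun _ => h'⟩⟩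
  have hdiv : ∀ g ∈ Y, ∀ a ∈ Y, ∀ b ∈ Y, ⁅g, a⁆ ∉ K → ⁅g, b⁆ ∉ K → ⁅g, a⁻¹ * b⁆ ∈ K := by
    intro g hg a ha b hb h1 h2
    have e1 : ⁅g, a⁻¹⁆ = ⁅g, a⁆ := by
      have e := h.comm_mul_left ha (inv_mem ha) hg
      rw [mul_inv_cancel, commutatorElement_one_left, h.comm_symm (inv_mem ha) hg,
        h.comm_symm ha hg, eq_comm, mul_eq_one_iff_eq_inv] at e
      rw [e]
      exact inv_eq_of_mul_eq_one_right (by rw [← pow_two]; exact h.zsq _ (h.comm_mem hg ha))
    rw [h.comm_symm hg (mul_mem (inv_mem ha) hb), h.comm_mul_left (inv_mem ha) hb hg,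
      h.comm_symm hb hg, h.comm_symm (inv_mem ha) hg, e1]
    exact hidx _ (h.comm_mem hg hb) h2 _ (h.comm_mem hg ha) h1
  have hbig : ∀ g ∈ Y, Nat.card Y ≤ 2 * Nat.card (C g) := fun g hg =>
    card_le_two_mul fun a ha haC b hb hbC => (memC g hg _ (mul_mem (inv_mem ha) hb)).2
      (hdiv g hg a ha b hb (fun e => haC ((memC g hg a ha).2 e))
        (fun e => hbC ((memC g hg b hb).2 e)))
  have hZpos := Nat.card_pos (α := Z)
  -- an element outside `Z` with square in `K`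
  obtain ⟨i, hiY, hiZ, hi2⟩ : ∃ i ∈ Y, i ∉ Z ∧ i ^ 2 ∈ K := by
    obtain ⟨a, ha, haZ⟩ := SetLike.not_le_iff_exists.1 h.not_le_Z
    by_cases ha2 : a ^ 2 ∈ K
    · exact ⟨a, ha, haZ, ha2⟩
    obtain ⟨c, hcC, hcn⟩ : ∃ c ∈ C a, c ∉ Z ∧ a * c ∉ Z := by
      by_contra hc
      push Not at hc
      have hcov : (C a : Set G) ⊆ (Z : Set G) ∪ (fun z => a⁻¹ * z) '' (Z : Set G) := fun c hc' => by
        by_cases hcZ : c ∈ Z
        · exact Or.inl hcZ
        · exact Or.inr ⟨a * c, hc c hc' hcZ, inv_mul_cancel_left a c⟩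
      have h1 := Set.ncard_le_ncard hcov (Set.toFinite _)
      have h2 := Set.ncard_union_le (Z : Set G) ((fun z => a⁻¹ * z) '' (Z : Set G))
      have h3 := Set.ncard_image_le (f := fun z => a⁻¹ * z) (s := (Z : Set G)) (Set.toFinite _)
      rw [← Nat.card_coe_set_eq] at h1
      rw [← Nat.card_coe_set_eq (Z : Set G)] at h2 h3
      simp only [SetLike.coe_sort_coe] at h1 h2 h3
      have := hbig a ha
      rw [h.card] at this
      omega
    by_cases hc2 : c ^ 2 ∈ K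
    · exact ⟨c, hcC.1, hcn.1, hc2⟩
    refine ⟨a * c, mul_mem ha hcC.1, hcn.2, ?_⟩
    rw [h.sq_mul ha hcC.1]
    exact mul_mem (hidx _ (h.sq a ha) ha2 _ (h.sq c hcC.1) hc2) (hcC.2 ha)
  have hτ2 : ρ ⟨i, hiY⟩ * ρ ⟨i, hiY⟩ = 1 := (hsq i hiY).1 hi2
  obtain ⟨e, f, hgen, hl⟩ := exists_eigen hr hr2 hcomm hexp hcard hτ2 (fun e1 => hiZ (hK _ e1))
    (fun hn => by
      by_cases hZK : Z ≤ K
      · exact hab₀ (hZK (h.comm_mem ha₀ hb₀))
      obtain ⟨z, hz, hzK⟩ := SetLike.not_le_iff_exists.1 hZK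
      have e1 : ρ (⟨z, h.le hz⟩⁻¹ * ⟨i, hiY⟩) = 1 := by
        rw [map_mul, map_inv, inv_mul_eq_one]
        exact MulEquiv.ext fun v => by rw [hn v, hneg z hz hzK v]
      have h3 : z⁻¹ * i ∈ Z := hK _ e1
      have h4 := Z.mul_mem hz h3
      rw [mul_inv_cancel_left] at h4
      exact hiZ h4)
  have hCab : ∀ a ∈ C i, ∀ b ∈ C i, ⁅a, b⁆ ∈ K := fun a ha b hb =>
    (hcm a b ha.1 hb.1).2 (commute_of_lines hgen (hl _ ((hcm i a hiY ha.1).1 (ha.2 hiY)).symm)
      (hl _ ((hcm i b hiY hb.1).1 (hb.2 hiY)).symm))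
  obtain ⟨g, hg, hgC⟩ : ∃ g ∈ Y, g ∉ C i := by
    by_contra hc
    push Not at hc
    exact hab₀ (hCab a₀ (hc a₀ ha₀) b₀ (hc b₀ hb₀))
  obtain ⟨b, ⟨hbC, hbg⟩, hbZ⟩ := SetLike.not_le_iff_exists.1 (show ¬ (C i ⊓ C g ≤ Z) from fun hle => by
    have h1 := card_le_of_le hle
    have h2 : Nat.card (C i) ≤ 2 * Nat.card (C i ⊓ C g : Subgroup G) :=
      card_le_two_mul fun a ha haC b hb hbC => ⟨(C i).mul_mem ((C i).inv_mem ha) hb,
        (memC g hg _ (Y.mul_mem (Y.inv_mem ha.1) hb.1)).2 (hdiv g hg a ha.1 b hb.1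
          (fun e => haC ⟨ha, (memC g hg a ha.1).2 e⟩) (fun e => hbC ⟨hb, (memC g hg b hb.1).2 e⟩))⟩
    have h3 := hbig i hiY
    rw [h.card] at h3
    omega)
  refine hbZ (h.mem_Z_of_comm_mem (fun hle => hab₀ (hle (h.comm_mem ha₀ hb₀))) hbC.1 fun y hy => ?_)
  by_cases hyC : y ∈ C i
  · exact hCab b hbC y hyC
  · have hgy : g⁻¹ * y ∈ C i := (memC i hiY _ (mul_mem (inv_mem hg) hy)).2
      (hdiv i hiY g hg y hy (fun e => hgC ((memC i hiY g hg).2 e))
        (fun e => hyC ((memC i hiY y hy).2 e)))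
    conv => rw [← mul_inv_cancel_left g y]
    rw [h.comm_symm hbC.1 (mul_mem hg hgy.1), h.comm_mul_left hg hgy.1 hbC.1]
    exact mul_mem (hCab _ hgy b hbC) (hbg.2 hg)

/-! ### Descent from a small `r`-group -/

/-- The action on the Frattini quotient. -/
def fratHom (E : Subgroup G) : normalizer (E : Set G) →* MulAut (E ⧸ frattini E) where
  toFun n := QuotientGroup.congr (frattini E) (frattini E) (E.normalizerMonoidHom n)
    (Subgroup.characteristic_iff_map_eq.1 inferInstance _)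
  map_one' := MulEquiv.ext fun q => by
    induction q using QuotientGroup.induction_on with | _ q => simp
  map_mul' a b := MulEquiv.ext fun q => by
    induction q using QuotientGroup.induction_on with | _ q => simp [MulAut.mul_apply]; rfl

/-- `Y` centralizes every `r`-group of rank at most two on which `x` acts compatibly. -/
theorem Sp.le_centralizer_rgroup (h : Sp Y Z x) {r : ℕ} (hr : r.Prime) (hr5 : 5 ≤ r)
    (hrk : Cfsg.PRankLE r 2 G) {R : Subgroup G} (hR : IsPGroup r R)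
    (hYR : Y ≤ normalizer (R : Set G)) {x' : G} (hx'R : x' ∈ normalizer (R : Set G))
    (hact : ∀ y ∈ Y, x' * y * x'⁻¹ = x * y * x⁻¹) : R ≤ centralizer (Y : Set G) := by
  haveI : Fact r.Prime := ⟨hr⟩
  rw [le_centralizer_iff]
  rcases h.irred (U := Y ⊓ centralizer (R : Set G)) inf_le_left (by
    refine Coprime.mem_normalizer_of_map_conj (eq_of_le_of_card_ge ?_
      (Coprime.card_map_conj _ _).ge)
    rintro _ ⟨y, ⟨hy, hyR⟩, rfl⟩
    show x * y * x⁻¹ ∈ Y ⊓ centralizer (R : Set G)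
    refine ⟨(mem_normalizer_iff.1 h.xY y).1 hy, mem_centralizer_iff.2 fun w hw => ?_⟩
    rw [← hact y hy]
    have h1 := mem_centralizer_iff.1 hyR _ ((mem_normalizer_iff''.1 hx'R w).1 hw)
    calc w * (x' * y * x'⁻¹) = x' * (x'⁻¹ * w * x' * y) * x'⁻¹ := by group
      _ = x' * (y * (x'⁻¹ * w * x')) * x'⁻¹ := by rw [h1]
      _ = x' * y * x'⁻¹ * w := by group) with hle | heq
  swap
  · exact heq.ge.trans inf_le_right
  exfalso
  have hrkR : ∀ A : Subgroup R, Cfsg.IsElementaryAbelian r A → Nat.card A ≤ r ^ 2 := by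
    intro A hA
    haveI := hA.1
    rw [← card_map_of_injective R.subtype_injective]
    exact hrk _ (Subgroup.map_isMulCommutative A _) (by
      rintro _ ⟨a, ha, rfl⟩; rw [← map_pow, hA.2 a ha, map_one])
  set E := (closure {w : R | w ^ r = 1}).map R.subtype with hE
  have hER : E ≤ R := map_subtype_le _
  have hEexp : ∀ w ∈ E, w ^ r = 1 := by
    rintro _ ⟨w, hw, rfl⟩
    rw [← map_pow, PGroups.pow_eq_one_of_rank_two (by omega) hR hrkR hw, map_one]
  have hEmem : ∀ w ∈ R, w ^ r = 1 → w ∈ E := fun w hw h1 =>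
    ⟨⟨w, hw⟩, subset_closure (show (⟨w, hw⟩ : R) ^ r = 1 from Subtype.ext h1), rfl⟩
  have hNE : normalizer (R : Set G) ≤ normalizer (E : Set G) := fun g hg => by
    refine Coprime.mem_normalizer_of_map_conj (eq_of_le_of_card_ge ?_
      (Coprime.card_map_conj _ _).ge)
    rintro _ ⟨w, hw, rfl⟩
    refine hEmem _ ((mem_normalizer_iff.1 hg w).1 (hER hw)) ?_
    show (g * w * g⁻¹) ^ r = 1
    rw [conj_pow, hEexp w hw]; group
  have hEp : IsPGroup r E := hR.to_le hER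
  have hEexp' : ∀ w : E, w ^ r = 1 := fun w => Subtype.ext (hEexp w w.2)
  have hrkE : ∀ A : Subgroup E, Cfsg.IsElementaryAbelian r A → Nat.card A ≤ r ^ 2 := by
    intro A hA
    haveI := hA.1
    rw [← card_map_of_injective E.subtype_injective]
    exact hrk _ (Subgroup.map_isMulCommutative A _) (by
      rintro _ ⟨a, ha, rfl⟩; rw [← map_pow, hA.2 a ha, map_one])
  have hcomm : ∀ a b : E ⧸ frattini E, Commute a b := by
    intro a b
    induction a using QuotientGroup.induction_on with | _ a =>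
    induction b using QuotientGroup.induction_on with | _ b =>
    refine commutatorElement_eq_one_iff_commute.1 ?_
    exact (QuotientGroup.eq_one_iff ⁅a, b⁆).2 (PGroups.commutator_le_frattini hEp
      (commutator_mem_commutator (mem_top a) (mem_top b)))
  have hexp : ∀ v : E ⧸ frattini E, v ^ r = 1 := by
    intro v
    induction v using QuotientGroup.induction_on with | _ v =>
    rw [← QuotientGroup.mk_pow, hEexp', QuotientGroup.mk_one]
  have hcard : Nat.card (E ⧸ frattini E) ≤ r ^ 2 := by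
    show (frattini E).index ≤ r ^ 2
    have h3 := PGroups.card_le_of_exponent_rank_two hEp hEexp' hrkE
    have h4 := (frattini E).card_mul_index
    by_cases hc : ∀ a b : E, a * b = b * a
    · have h5 := hrkE ⊤ ⟨⟨⟨fun a b => Subtype.ext (hc a b)⟩⟩, fun a _ => hEexp' a⟩
      rw [Subgroup.card_top] at h5
      exact (Nat.le_of_dvd Nat.card_pos ⟨_, (mul_comm _ _).trans h4 |>.symm⟩).trans h5
    · push Not at hc
      obtain ⟨a, b, hab⟩ := hc
      have hne : frattini E ≠ ⊥ := fun hb => hab (commutatorElement_eq_one_iff_mul_comm.1 (by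
        have := PGroups.commutator_le_frattini hEp
          (commutator_mem_commutator (mem_top a) (mem_top b))
        rwa [hb, mem_bot] at this))
      haveI : Nontrivial (frattini E) := (nontrivial_iff_ne_bot _).2 hne
      obtain ⟨m, hm0, hm⟩ := (hEp.to_subgroup (frattini E)).nontrivial_iff_card.1 inferInstance
      have h5 : r ≤ Nat.card (frattini E) := hm ▸ Nat.le_self_pow hm0.ne' r
      refine Nat.le_of_mul_le_mul_left ?_ hr.pos
      calc r * (frattini E).index ≤ Nat.card (frattini E) * (frattini E).index :=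
            Nat.mul_le_mul_right _ h5
        _ = Nat.card E := h4
        _ ≤ r ^ 3 := h3
        _ = r * r ^ 2 := by ring
  refine h.no_action hr (by omega) hcomm hexp hcard
    ((fratHom E).comp (Subgroup.inclusion (hYR.trans hNE))) fun y hy => hle ⟨y.2, ?_⟩
  obtain ⟨k, hk⟩ := h.pY y
  have hk' : (y : G) ^ 2 ^ k = 1 := congrArg Subtype.val hk
  have hcop2 : (2 ^ k).Coprime r :=
    ((Nat.coprime_primes Nat.prime_two hr).2 (by omega)).pow_left k
  have hcopy : (Nat.card (zpowers (y : G))).Coprime (Nat.card (frattini E)) := by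
    obtain ⟨m, hm⟩ := IsPGroup.iff_card.1 (hEp.to_subgroup (frattini E))
    rw [Nat.card_zpowers, hm]
    exact (Nat.Coprime.coprime_dvd_left (orderOf_dvd_of_pow_eq_one hk') hcop2).pow_right m
  -- `y` centralizes `E`
  have hyE : zpowers (y : G) ≤ centralizer (E : Set G) := by
    refine Coprime.le_centralizer_of_frattini (zpowers_le.2 (hNE (hYR y.2))) hcopy ?_
    intro b hb w hw
    obtain ⟨j, rfl⟩ := mem_zpowers_iff.1 hb
    have hbN : (y : G) ^ j ∈ normalizer (E : Set G) := zpow_mem (hNE (hYR y.2)) j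
    have hj : fratHom E ⟨(y : G) ^ j, hbN⟩ = 1 := by
      rw [show (⟨(y : G) ^ j, hbN⟩ : normalizer (E : Set G)) = ⟨(y : G), hNE (hYR y.2)⟩ ^ j from rfl,
        map_zpow, show fratHom E ⟨(y : G), hNE (hYR y.2)⟩ = 1 from hy, one_zpow]
    have h1 : fratHom E ⟨(y : G) ^ j, hbN⟩
        (QuotientGroup.mk (⟨w, hw⟩ : E)) = QuotientGroup.mk (⟨w, hw⟩ : E) := by rw [hj]; rfl
    have h2 := (QuotientGroup.eq).1 h1.symm
    have hwN : w ∈ normalizer ((frattini E).map E.subtype : Set G) := by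
      refine (normal_subgroupOf_iff_le_normalizer (map_subtype_le _)).1 ?_ hw
      rw [subgroupOf, comap_map_eq_self_of_injective E.subtype_injective]
      infer_instance
    have h3 := Coprime.conj_mem hwN (mem_map_of_mem E.subtype h2)
    have e : (E.normalizerMonoidHom ⟨(y : G) ^ j, hbN⟩ ⟨w, hw⟩ : G) =
        (y : G) ^ j * w * ((y : G) ^ j)⁻¹ := rfl
    simp only [map_mul, map_inv, coe_subtype] at h3
    simpa [mul_assoc] using h3
  set ψ := R.normalizerMonoidHom ⟨(y : G), hYR y.2⟩ with hψ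
  have hψk : ψ ^ 2 ^ k = 1 := by
    rw [hψ, ← map_pow, show (⟨(y : G), hYR y.2⟩ : normalizer (R : Set G)) ^ 2 ^ k = 1 from
      Subtype.ext hk', map_one]
  have hψ1 : ψ = 1 := H62.fix_all hR ψ hcop2 hψk
    (fun w hw => Subtype.ext (by
      show (y : G) * w * (y : G)⁻¹ = w
      have h1 := mem_centralizer_iff.1 (hyE (mem_zpowers _)) w
        (hEmem w w.2 (congrArg Subtype.val hw))
      rw [← h1, mul_inv_cancel_right]))
    (fun h2 => absurd h2 (by omega))
  refine mem_centralizer_iff.2 fun w hw => ?_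
  have h1 : (y : G) * w * (y : G)⁻¹ = w :=
    congrArg (fun σ : MulAut R => ((σ ⟨w, hw⟩ : R) : G)) hψ1
  rw [mul_inv_eq_iff_eq_mul] at h1
  exact h1.symm

end Cfsg.Agent.H63.TwoGen.NoMoved
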