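import Cfsg.Agent.H63.TwoGen.NoMoved.Auto
import Mathlib

/-!
# Piece D: moved special 2-groups

`Sp Y Z x`: `Y` is special of order `2^{1+4}` or `2^{2+4}` with centre `Z`, and `x`, of 5-power order,
normalizes `Y`, centralizes `Z` and has no fixed point on `Y / Z`.
-/

set_option autoImplicit false
set_option linter.style.haveILetI false
open Cfsg

namespace Cfsg.Agent.H63.TwoGen.NoMoved

open Subgroup
open scoped commutatorElement
open Cfsg.Agent.Cores.NoAbelianEight (phi phi_le sq_mem_phi commutator_le_phi phi_nongenerating)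

universe u

variable {G : Type u} [Group G]

/-- `Y` is a special group moved by `x`. -/
structure Sp (Y Z : Subgroup G) (x : G) : Prop where
  pY : IsPGroup 2 Y
  le : Z ≤ Y
  central : ∀ z ∈ Z, ∀ y ∈ Y, Commute z y
  zsq : ∀ z ∈ Z, z ^ 2 = 1
  sq : ∀ y ∈ Y, y ^ 2 ∈ Z
  comm : ⁅Y, Y⁆ = Z
  xY : x ∈ normalizer (Y : Set G)
  xp : ∃ k : ℕ, x ^ 5 ^ k = 1
  xZ : ∀ z ∈ Z, Commute x z
  card : Nat.card Y = 16 * Nat.card Z
  cardZ : Nat.card Z = 2 ∨ Nat.card Z = 4
  fixed : ∀ y ∈ Y, ⁅x, y⁆ ∈ Z → y ∈ Z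

/-- The action of the normalizer on the abelianization. -/
def modHom (Y : Subgroup G) : normalizer (Y : Set G) →* MulAut (Abelianization Y) where
  toFun n := (Y.normalizerMonoidHom n).abelianizationCongr
  map_one' := by
    refine MulEquiv.toMonoidHom_injective (Abelianization.hom_ext _ _ (MonoidHom.ext fun y => ?_))
    simp
  map_mul' a b := by
    refine MulEquiv.toMonoidHom_injective (Abelianization.hom_ext _ _ (MonoidHom.ext fun y => ?_))
    simp [MulAut.mul_apply]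

theorem modHom_of {Y : Subgroup G} {n : G} (hn : n ∈ normalizer (Y : Set G)) {y : G} (hy : y ∈ Y) :
    modHom Y ⟨n, hn⟩ (Abelianization.of ⟨y, hy⟩) =
      Abelianization.of ⟨n * y * n⁻¹, (mem_normalizer_iff.1 hn y).1 hy⟩ :=
  abelianizationCongr_of _ _

theorem of_eq_one_iff {Y : Subgroup G} (y : Y) : Abelianization.of y = 1 ↔ (y : G) ∈ ⁅Y, Y⁆ := by
  rw [← MonoidHom.mem_ker, Abelianization.ker_of, ← map_subtype_commutator]
  exact ⟨fun h => mem_map_of_mem _ h, fun ⟨w, hw, e⟩ => Subtype.ext e ▸ hw⟩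

theorem of_eq_iff {Y : Subgroup G} (a b : Y) :
    Abelianization.of a = Abelianization.of b ↔ (a : G)⁻¹ * b ∈ ⁅Y, Y⁆ := by
  rw [← inv_mul_eq_one, ← map_inv, ← map_mul, of_eq_one_iff]
  rfl

theorem of_surjective {Y : Subgroup G} :
    Function.Surjective (Abelianization.of : Y →* Abelianization Y) :=
  QuotientGroup.mk'_surjective _

variable {Y Z : Subgroup G} {x : G}

theorem Sp.le_normalizer_Z (h : Sp Y Z x) : Y ≤ normalizer (Z : Set G) := fun y hy =>
  centralizer_le_normalizer _ (mem_centralizer_iff.2 fun z hz => (h.central z hz y hy).eq)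

theorem Sp.normalizer_le (h : Sp Y Z x) : normalizer (Y : Set G) ≤ normalizer (Z : Set G) :=
  fun _ hg => h.comm ▸ Coprime.mem_normalizer_commutator hg hg

theorem Sp.x_mem_normalizer_Z (h : Sp Y Z x) : x ∈ normalizer (Z : Set G) := h.normalizer_le h.xY

theorem Sp.comm_mem (h : Sp Y Z x) {a b : G} (ha : a ∈ Y) (hb : b ∈ Y) : ⁅a, b⁆ ∈ Z :=
  h.comm ▸ commutator_mem_commutator ha hb

theorem Sp.V_sq (h : Sp Y Z x) (v : Abelianization Y) : v ^ 2 = 1 := by
  obtain ⟨y, rfl⟩ := of_surjective v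
  rw [← map_pow, of_eq_one_iff, h.comm]
  exact h.sq y y.2

theorem Sp.card_V [Finite G] (h : Sp Y Z x) : Nat.card (Abelianization Y) = 16 := by
  have h1 := (commutator Y).card_mul_index
  have h2 : Nat.card (commutator Y) = Nat.card Z := by
    rw [← h.comm, ← map_subtype_commutator, card_map_of_injective Y.subtype_injective]
  rw [h2, h.card, mul_comm 16] at h1
  exact mul_left_cancel₀ Nat.card_pos.ne' h1

theorem Sp.nontrivial_V [Finite G] (h : Sp Y Z x) : Nontrivial (Abelianization Y) :=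
  Finite.one_lt_card_iff_nontrivial.1 (by rw [h.card_V]; norm_num)

/-- The action of `x` on `Y / Z`. -/
noncomputable def Sp.phiV (h : Sp Y Z x) : MulAut (Abelianization Y) := modHom Y ⟨x, h.xY⟩

theorem Sp.phiV_fixed (h : Sp Y Z x) (v : Abelianization Y) (hv : h.phiV v = v) : v = 1 := by
  obtain ⟨⟨y, hy⟩, rfl⟩ := of_surjective v
  rw [Sp.phiV, modHom_of h.xY hy, eq_comm, of_eq_iff, h.comm] at hv
  rw [of_eq_one_iff, h.comm]
  refine h.fixed y hy ?_
  have e : ⁅x, y⁆ = y * (y⁻¹ * (x * y * x⁻¹)) * y⁻¹ := by rw [commutatorElement_def]; group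
  rw [e]
  exact Coprime.conj_mem (h.le_normalizer_Z hy) hv

theorem Sp.phiV_pow (h : Sp Y Z x) : ∃ k : ℕ, h.phiV ^ 5 ^ k = 1 := by
  obtain ⟨k, hk⟩ := h.xp
  exact ⟨k, by
    rw [Sp.phiV, ← map_pow,
      show (⟨x, h.xY⟩ : normalizer (Y : Set G)) ^ 5 ^ k = 1 from Subtype.ext hk, map_one]⟩

theorem Sp.orderOf_phiV [Finite G] (h : Sp Y Z x) : orderOf h.phiV = 5 := by
  obtain ⟨k, hk⟩ := h.phiV_pow
  haveI := h.nontrivial_V
  refine orderOf_eq_five_or_seven h.V_sq (by rw [h.card_V]) (Or.inl rfl) hk fun h1 => ?_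
  obtain ⟨v, hv⟩ := exists_ne (1 : Abelianization Y)
  exact hv (h.phiV_fixed v (by rw [h1]; rfl))

theorem Sp.irred_phiV [Finite G] (h : Sp Y Z x) : Irred h.phiV := by
  haveI : Fact (Nat.Prime 5) := ⟨by norm_num⟩
  obtain ⟨k, hk⟩ := h.phiV_pow
  refine irred_of_fpf hk h.phiV_fixed fun d hd hm => ?_
  rw [h.card_V] at hd ⊢
  have hd16 : d ≤ 16 := Nat.le_of_dvd (by norm_num) hd
  rw [Nat.ModEq] at hm
  interval_cases d <;> omega

/-- An `x`-invariant subgroup of `Y` is `Y` or lies in `Z`. -/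
theorem Sp.irred [Finite G] (h : Sp Y Z x) {U : Subgroup G} (hU : U ≤ Y)
    (hx : x ∈ normalizer (U : Set G)) : U ≤ Z ∨ U = Y := by
  rcases h.irred_phiV ((U.subgroupOf Y).map Abelianization.of) (by
    rintro _ ⟨⟨y, hy⟩, hyU, rfl⟩
    rw [Sp.phiV, modHom_of h.xY hy]
    exact ⟨_, (mem_normalizer_iff.1 hx y).1 hyU, rfl⟩) with hb | ht
  · left
    intro y hy
    have h1 : Abelianization.of (⟨y, hU hy⟩ : Y) ∈ (U.subgroupOf Y).map Abelianization.of :=
      ⟨_, hy, rfl⟩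
    rw [hb, mem_bot, of_eq_one_iff, h.comm] at h1
    exact h1
  · right
    refine phi_nongenerating hU (le_antisymm (sup_le hU (phi_le Y)) fun y hy => ?_)
    obtain ⟨w, hw, e⟩ :=
      (ht ▸ mem_top (Abelianization.of (⟨y, hy⟩ : Y)) :
        Abelianization.of (⟨y, hy⟩ : Y) ∈ (U.subgroupOf Y).map Abelianization.of)
    rw [of_eq_iff] at e
    have h1 := mul_mem (mem_sup_left (T := phi Y) (show (w : G) ∈ U from hw))
      (mem_sup_right (S := U) (commutator_le_phi h.pY e))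
    rwa [mul_inv_cancel_left] at h1

theorem Sp.exists_noncomm [Finite G] (h : Sp Y Z x) : ∃ a ∈ Y, ∃ b ∈ Y, ⁅a, b⁆ ≠ 1 := by
  by_contra hc
  push Not at hc
  have h1 : Z ≤ ⊥ := h.comm ▸ commutator_le.2 fun a ha b hb => mem_bot.2 (hc a ha b hb)
  have h2 := card_le_of_le h1
  rw [Subgroup.card_bot] at h2
  rcases h.cardZ with h3 | h3 <;> omega

theorem Sp.not_le_Z [Finite G] (h : Sp Y Z x) : ¬ Y ≤ Z := fun hle => by
  have := card_le_of_le hle
  rw [h.card] at this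
  have := Nat.card_pos (α := Z)
  omega

/-- Modulo a subgroup of `Z` only `Z` is central. -/
theorem Sp.mem_Z_of_comm_mem [Finite G] (h : Sp Y Z x) {K : Subgroup G}
    (hne : ¬ Z ≤ K) {b : G} (hb : b ∈ Y) (hbK : ∀ y ∈ Y, ⁅b, y⁆ ∈ K) : b ∈ Z := by
  let D : Subgroup G :=
    { carrier := {d | d ∈ Y ∧ ∀ y ∈ Y, ⁅d, y⁆ ∈ K}
      one_mem' := ⟨one_mem _, fun y _ => by rw [commutatorElement_one_left]; exact one_mem K⟩
      mul_mem' := fun {a c} ha hc => ⟨mul_mem ha.1 hc.1, fun y hy => by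
        rw [show ⁅a * c, y⁆ = a * ⁅c, y⁆ * a⁻¹ * ⁅a, y⁆ by simp only [commutatorElement_def]; group,
          ← (h.central _ (h.comm_mem hc.1 hy) a ha.1).eq, mul_inv_cancel_right]
        exact mul_mem (hc.2 y hy) (ha.2 y hy)⟩
      inv_mem' := fun {a} ha => ⟨inv_mem ha.1, fun y hy => by
        rw [show ⁅a⁻¹, y⁆ = a⁻¹ * ⁅a, y⁆⁻¹ * a by simp only [commutatorElement_def]; group,
          ← (h.central _ (inv_mem (h.comm_mem ha.1 hy)) _ (inv_mem ha.1)).eq, inv_mul_cancel_right]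
        exact inv_mem (ha.2 y hy)⟩ }
  have hDx : x ∈ normalizer (D : Set G) := by
    refine Coprime.mem_normalizer_of_map_conj (eq_of_le_of_card_ge ?_
      (Coprime.card_map_conj _ _).ge)
    rintro _ ⟨d, hd, rfl⟩
    show x * d * x⁻¹ ∈ Y ∧ ∀ y ∈ Y, ⁅x * d * x⁻¹, y⁆ ∈ K
    refine ⟨(mem_normalizer_iff.1 h.xY d).1 hd.1, fun y hy => ?_⟩
    have hy' : x⁻¹ * y * x ∈ Y := (mem_normalizer_iff''.1 h.xY y).1 hy
    have e : ⁅x * d * x⁻¹, y⁆ = x * ⁅d, x⁻¹ * y * x⁆ * x⁻¹ := by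
      simp only [commutatorElement_def]; group
    rw [e, (h.xZ _ (h.comm_mem hd.1 hy')).eq, mul_inv_cancel_right]
    exact hd.2 _ hy'
  rcases h.irred (show D ≤ Y from fun d hd => hd.1) hDx with h1 | h1
  · exact h1 ⟨hb, hbK⟩
  · refine absurd ?_ hne
    rw [← h.comm]
    exact commutator_le.2 fun a ha c hc => (h1.symm ▸ ha : a ∈ D).2 c hc

/-- Only `Z` is central. -/
theorem Sp.mem_Z_of_central [Finite G] (h : Sp Y Z x) {b : G} (hb : b ∈ Y)
    (hc : ∀ y ∈ Y, Commute b y) : b ∈ Z := by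
  refine h.mem_Z_of_comm_mem (K := ⊥) (fun hle => ?_) hb fun y hy => ?_
  · have := card_le_of_le hle
    rw [Subgroup.card_bot] at this
    rcases h.cardZ with h3 | h3 <;> omega
  · rw [commutatorElement_eq_one_iff_commute.2 (hc y hy)]
    exact one_mem _

/-- The maximality: no larger 2-group is normalized by `x`. -/
theorem Sp.eq_of_invariant [Finite G] (h : Sp Y Z x) (hrk : Rk G) {R : Subgroup G}
    (hR : IsPGroup 2 R) (hYR : Y ≤ R) (hxR : x ∈ normalizer (R : Set G)) : R = Y := by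
  haveI : Fact (Nat.Prime 2) := ⟨Nat.prime_two⟩
  rcases hYR.eq_or_lt with he | hlt
  · exact he.symm
  exfalso
  set R₁ := R ⊓ normalizer (Y : Set G) with hR₁
  have hR₁p : IsPGroup 2 R₁ := hR.to_le inf_le_left
  have hxR₁ : x ∈ normalizer (R₁ : Set G) := le_normalizer_inter
    (S := zpowers x) (zpowers_le.2 hxR) ((zpowers_le.2 h.xY).trans le_normalizer) (mem_zpowers x)
  refine not_inf_normalizer_le hR hlt ?_
  show R₁ ≤ Y
  have hYR₁ : Y ≤ R₁ := le_inf hYR le_normalizer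
  have hYne : Y ≠ ⊥ := fun e => h.not_le_Z (e ▸ bot_le)
  -- `R₁` is trivial on `Y / Z`
  have htriv : ∀ r ∈ R₁, ∀ y ∈ Y, ⁅r, y⁆ ∈ Z := by
    have hlt' := Coprime.commutator_lt_of_isPGroup h.pY hR₁p
      (fun r hr => hr.2 : R₁ ≤ normalizer (Y : Set G)) hYne
    have hle : ⁅Y, R₁⁆ ≤ Z := by
      rcases h.irred hlt'.le (Coprime.mem_normalizer_commutator h.xY hxR₁) with h1 | h1
      · exact h1
      · exact absurd h1 hlt'.ne
    intro r hr y hy
    rw [← commutatorElement_inv]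
    exact inv_mem (hle (commutator_mem_commutator hy hr))
  -- the centralizer of `Y`
  set C := R₁ ⊓ centralizer (Y : Set G) with hC
  have hCY : C ⊓ Y = Z := by
    refine le_antisymm (fun b hb => h.mem_Z_of_central hb.2 fun y hy => ?_) fun z hz => ?_
    · exact (mem_centralizer_iff.1 hb.1.2 y hy).symm
    · exact ⟨⟨hYR₁ (h.le hz), mem_centralizer_iff.2 fun y hy => (h.central z hz y hy).eq.symm⟩,
        h.le hz⟩
  have hCn : C ≤ normalizer (Y : Set G) := fun c hc => hc.1.2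
  have hCZ : C ≤ Z := by
    have hC2 : IsPGroup 2 C := hR₁p.to_le inf_le_left
    have hZC : Z ≤ C := hCY ▸ inf_le_left
    set K := Z ⊔ phi C with hK
    have hKC : K ≤ C := sup_le hZC (phi_le C)
    have hcen : ∀ y ∈ Y, ∀ c ∈ C, Commute y c := fun y hy c hc => mem_centralizer_iff.1 hc.2 y hy
    have hnorm : C ⊔ Y ≤ normalizer (K : Set G) := by
      have hY : Y ≤ centralizer (C : Set G) := fun y hy =>
        mem_centralizer_iff.2 fun c hc => (hcen y hy c hc).eq.symm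
      refine sup_le ?_ (hY.trans ((centralizer_le hKC).trans (centralizer_le_normalizer _)))
      refine le_normalizer_iff.2 fun c hc k hk => ?_
      have h1 := commutator_le_phi hC2 (commutator_mem_commutator hc (hKC hk))
      have e : c * k * c⁻¹ = ⁅c, k⁆ * k := by rw [commutatorElement_def]; group
      exact e ▸ mul_mem (mem_sup_right h1) hk
    have hT : IsPGroup 2 (C ⊔ Y : Subgroup G) := hC2.to_sup_of_normal_right' h.pY hCn
    have hsq : ∀ t ∈ C ⊔ Y, t ^ 2 ∈ K := by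
      intro t ht
      obtain ⟨y, hy, c, hc, rfl⟩ := (Coprime.mem_sup_iff hCn).1 (sup_comm C Y ▸ ht)
      rw [(hcen y hy c hc).mul_pow]
      exact mul_mem (mem_sup_left (h.sq y hy)) (mem_sup_right (sq_mem_phi hC2 hc))
    have h1 := hrk _ K hT (hKC.trans le_sup_left) hnorm hsq
    have h2 := card_sup_mul_inf hCn
    rw [hCY, h.card] at h2
    have h3 : Nat.card (C ⊔ Y : Subgroup G) = 16 * Nat.card C := by
      refine mul_right_cancel₀ (b := Nat.card Z) Nat.card_pos.ne' ?_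
      rw [h2]; ring
    rw [h3] at h1
    have h4 : K = C := eq_of_le_of_card_ge hKC (Nat.le_of_mul_le_mul_left h1 (by norm_num))
    exact (phi_nongenerating hZC h4).ge
  -- the centralizer of `Z`
  set R₀ := R₁ ⊓ centralizer (Z : Set G) with hR₀
  have hR₀Y : R₀ ≤ Y := by
    have hYR₀ : Y ≤ R₀ := le_inf hYR₁ fun y hy =>
      mem_centralizer_iff.2 fun z hz => (h.central z hz y hy).eq
    have hsq : ∀ r ∈ R₀, r ^ 2 ∈ Z := by
      intro r hr
      refine hCZ ⟨pow_mem hr.1 2, mem_centralizer_iff.2 fun y hy => ?_⟩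
      have hl := htriv r hr.1 y hy
      have hfix : r * ⁅r, y⁆ = ⁅r, y⁆ * r := (mem_centralizer_iff.1 hr.2 _ hl).symm
      have e : r ^ 2 * y * (r ^ 2)⁻¹ = r * ⁅r, y⁆ * r⁻¹ * ⁅r, y⁆ * y := by
        simp only [pow_two, commutatorElement_def]; group
      rw [hfix, mul_inv_cancel_right, ← pow_two, h.zsq _ hl, one_mul, mul_inv_eq_iff_eq_mul] at e
      exact e.symm
    have h1 := hrk R₀ Z (hR₁p.to_le inf_le_left) (h.le.trans hYR₀)
      (inf_le_right.trans (centralizer_le_normalizer _)) hsq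
    rw [← h.card] at h1
    exact (eq_of_le_of_card_ge hYR₀ h1).ge
  -- `R₁ = Y C_{R₁}(x)`
  intro r hr
  obtain ⟨k, hk⟩ := h.xp
  have hxc : (Nat.card (zpowers x)).Coprime (Nat.card R₁) := by
    obtain ⟨m, hm⟩ := IsPGroup.iff_card.1 hR₁p
    rw [Nat.card_zpowers, hm]
    exact (Nat.Coprime.coprime_dvd_left (orderOf_dvd_of_pow_eq_one hk)
      ((by norm_num : Nat.Coprime 5 2).pow_left k)).pow_right m
  have hfix : ∀ a ∈ zpowers x, a * r * a⁻¹ * r⁻¹ ∈ Y := by
    intro a ha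
    refine hR₀Y ⟨R₁.mul_mem ((mem_normalizer_iff.1 ((zpowers_le.2 hxR₁) ha) r).1 hr) (R₁.inv_mem hr),
      mem_centralizer_iff.2 fun z hz => ?_⟩
    have hrZ : r⁻¹ * z * r ∈ Z := (mem_normalizer_iff''.1 (h.normalizer_le hr.2) z).1 hz
    have haZ : a ∈ centralizer (Z : Set G) :=
      zpowers_le.2 (show x ∈ centralizer (Z : Set G) from
        mem_centralizer_iff.2 fun w hw => (h.xZ w hw).eq.symm) ha
    have e1 := mem_centralizer_iff.1 haZ z hz
    have e2 := mem_centralizer_iff.1 haZ _ hrZ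
    calc z * (a * r * a⁻¹ * r⁻¹) = a * r * (r⁻¹ * z * r) * a⁻¹ * r⁻¹ := by
          rw [← mul_assoc, ← mul_assoc, ← mul_assoc, e1]; group
      _ = a * r * (a⁻¹ * (r⁻¹ * z * r)) * r⁻¹ := by
          rw [show a⁻¹ * (r⁻¹ * z * r) = r⁻¹ * z * r * a⁻¹ by
            rw [eq_mul_inv_iff_mul_eq, mul_assoc, e2, inv_mul_cancel_left]]
          group
      _ = a * r * a⁻¹ * r⁻¹ * z := by group
  obtain ⟨c, hc, hcY⟩ := Coprime.exists_centralizer_mem_of_comm_mem (zpowers_le.2 hxR₁) hxc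
    (Or.inl inferInstance) hYR₁ (fun a ha => ha.2) (zpowers_le.2 h.xY) hr hfix
  have hcx : x * c = c * x := mem_centralizer_iff.1 hc.2 x (mem_zpowers x)
  -- `c` centralizes `Y`
  have hcC : c ∈ C := by
    refine ⟨hc.1, ?_⟩
    have hx' : x ∈ normalizer ((Y ⊓ centralizer ({c} : Set G) : Subgroup G) : Set G) :=
      le_normalizer_inter (S := zpowers x) (zpowers_le.2 h.xY) ((zpowers_le.2
        (mem_centralizer_singleton_iff.2 hcx)).trans le_normalizer) (mem_zpowers x)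
    rcases h.irred inf_le_left hx' with h1 | h1
    · exfalso
      obtain ⟨y, hy, hyZ⟩ := SetLike.not_le_iff_exists.1 h.not_le_Z
      have hxy : x * y * x⁻¹ ∈ Y := (mem_normalizer_iff.1 h.xY y).1 hy
      refine hyZ (h.fixed y hy (h1 ⟨Y.mul_mem hxy (Y.inv_mem hy),
        mem_centralizer_singleton_iff.2 ?_⟩))
      have hl := htriv c hc.1 y hy
      have hl' : ⁅c, x * y * x⁻¹⁆ = ⁅c, y⁆ := by
        have e : ⁅c, x * y * x⁻¹⁆ = x * ⁅x⁻¹ * c * x, y⁆ * x⁻¹ := by
          simp only [commutatorElement_def]; group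
        rw [e, mul_assoc x⁻¹, ← hcx, inv_mul_cancel_left, (h.xZ _ hl).eq, mul_inv_cancel_right]
      have e1 : c * (x * y * x⁻¹) * c⁻¹ = ⁅c, y⁆ * (x * y * x⁻¹) := by
        rw [← hl', commutatorElement_def]; group
      have e2 : c * y * c⁻¹ = ⁅c, y⁆ * y := by rw [commutatorElement_def]; group
      refine (eq_comm.1 (mul_inv_eq_iff_eq_mul.1 ?_))
      calc c * (x * y * x⁻¹ * y⁻¹) * c⁻¹ = c * (x * y * x⁻¹) * c⁻¹ * (c * y * c⁻¹)⁻¹ := by group
        _ = ⁅c, y⁆ * (x * y * x⁻¹ * y⁻¹) * ⁅c, y⁆⁻¹ := by rw [e1, e2]; group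
        _ = x * y * x⁻¹ * y⁻¹ := by
          rw [(h.central _ hl _ (Y.mul_mem hxy (Y.inv_mem hy))).eq, mul_inv_cancel_right]
    · exact mem_centralizer_iff.2 fun y hy =>
        mem_centralizer_singleton_iff.1 (h1.symm ▸ hy : y ∈ Y ⊓ centralizer ({c} : Set G)).2
  have : r = c * (r⁻¹ * c)⁻¹ := by group
  rw [this]
  exact mul_mem (h.le (hCZ hcC)) (inv_mem hcY)

end Cfsg.Agent.H63.TwoGen.NoMoved
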