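import Cfsg.Agent.H63.TwoGen.NoMoved.Special
import Mathlib

/-!
# Piece D: the Sylow subgroup of `N(Y)` and the classes of `Y / Z`
-/

set_option autoImplicit false
set_option linter.style.haveILetI false
open Cfsg

namespace Cfsg.Agent.H63.TwoGen.NoMoved

open Subgroup
open scoped commutatorElement

universe u

variable {G : Type u} [Group G] [Finite G] {Y Z : Subgroup G} {x : G}

omit [Finite G] in
theorem Sp.act_eq_one_iff (h : Sp Y Z x) {n : G} (hn : n ∈ normalizer (Y : Set G)) :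
    modHom Y ⟨n, hn⟩ = 1 ↔ ∀ y ∈ Y, ⁅n, y⁆ ∈ Z := by
  have key : ∀ y (hy : y ∈ Y), modHom Y ⟨n, hn⟩ (Abelianization.of ⟨y, hy⟩) =
      Abelianization.of ⟨y, hy⟩ ↔ ⁅n, y⁆ ∈ Z := by
    intro y hy
    rw [modHom_of hn hy, eq_comm, of_eq_iff, h.comm]
    have e : ⁅n, y⁆ = y * (y⁻¹ * (n * y * n⁻¹)) * y⁻¹ := by rw [commutatorElement_def]; group
    constructor
    · intro h1
      exact e ▸ Coprime.conj_mem (h.le_normalizer_Z hy) h1
    · intro h1
      have h2 := Coprime.conj_mem (h.le_normalizer_Z (inv_mem hy)) h1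
      rw [e] at h2
      simpa [mul_assoc] using h2
  constructor
  · intro h1 y hy
    exact (key y hy).1 (by rw [h1]; rfl)
  · intro h1
    refine MulEquiv.ext fun w => ?_
    obtain ⟨⟨y, hy⟩, rfl⟩ := of_surjective w
    exact (key y hy).2 (h1 y hy)

omit [Finite G] in
theorem Sp.act_eq_one (h : Sp Y Z x) {y : G} (hy : y ∈ Y) :
    modHom Y ⟨y, le_normalizer hy⟩ = 1 :=
  (h.act_eq_one_iff _).2 fun _ hw => h.comm_mem hy hw

/-- `x` spans a normal subgroup of the automorphisms induced on `Y / Z`. -/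
theorem Sp.conj_phiV (h : Sp Y Z x) (hs : Group.IsSolvable (normalizer (Y : Set G)))
    (n : normalizer (Y : Set G)) : modHom Y n * h.phiV * (modHom Y n)⁻¹ ∈ zpowers h.phiV := by
  haveI := h.nontrivial_V
  haveI := hs
  exact conj_mem_zpowers h.V_sq (by rw [h.card_V]) (F := (modHom Y).range)
    (Group.isSolvable_of_surjective (modHom Y).rangeRestrict_surjective) (Or.inl rfl)
    ⟨_, rfl⟩ h.orderOf_phiV h.irred_phiV ⟨n, rfl⟩

/-- A 2-element of `N(Y)` commuting with `x` on `Y / Z` acts trivially there. -/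
theorem Sp.act_two (h : Sp Y Z x) {T : Subgroup G} (hT : IsPGroup 2 T)
    (hTN : T ≤ normalizer (Y : Set G)) {t : G} (ht : t ∈ T)
    (hc : Commute (modHom Y ⟨t, hTN ht⟩) h.phiV) : modHom Y ⟨t, hTN ht⟩ = 1 := by
  haveI := h.nontrivial_V
  refine eq_one_of_commute h.V_sq h.irred_phiV hc.symm ?_
  obtain ⟨k, hk⟩ := hT ⟨t, ht⟩
  refine IsPGroup.of_card_dvd_pow (n := k) ?_
  rw [Nat.card_zpowers]
  refine orderOf_dvd_of_pow_eq_one ?_
  rw [← map_pow, show (⟨t, hTN ht⟩ : normalizer (Y : Set G)) ^ 2 ^ k = 1 from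
    Subtype.ext (congrArg Subtype.val hk :), map_one]

omit [Finite G] in
/-- `Sp` with another element inducing a fixed-point-free action. -/
theorem Sp.change (h : Sp Y Z x) [Finite G] {x' : G} (hx' : x' ∈ normalizer (Y : Set G))
    (hp : ∃ k : ℕ, x' ^ 5 ^ k = 1)
    (hfix : ∀ v, modHom Y ⟨x', hx'⟩ v = v → v = 1) : Sp Y Z x' := by
  haveI : Fact (Nat.Prime 5) := ⟨by norm_num⟩
  refine { h with xY := hx', xp := hp, xZ := ?_, fixed := ?_ }
  · obtain ⟨k, hk⟩ := hp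
    refine commute_of_small (p := 5) (h.normalizer_le hx') hk ?_
    rcases h.cardZ with h1 | h1 <;> rw [h1] <;> norm_num
  · intro y hy hxy
    have h1 := hfix (Abelianization.of ⟨y, hy⟩) (by
      rw [modHom_of hx' hy, eq_comm, of_eq_iff, h.comm]
      have e : y⁻¹ * (x' * y * x'⁻¹) = y⁻¹ * ⁅x', y⁆ * y⁻¹⁻¹ := by
        rw [commutatorElement_def]; group
      exact e ▸ Coprime.conj_mem (h.le_normalizer_Z (inv_mem hy)) hxy)
    rwa [of_eq_one_iff, h.comm] at h1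

/-- `Y` is the kernel of a 2-subgroup of `N(Y)` on `Y / Z`. -/
theorem Sp.mem_of_act_eq_one (h : Sp Y Z x) (hrk : Rk G) {T : Subgroup G} (hT : IsPGroup 2 T)
    (hYT : Y ≤ T) (hTN : T ≤ normalizer (Y : Set G)) {t : G} (ht : t ∈ T)
    (h1 : modHom Y ⟨t, hTN ht⟩ = 1) : t ∈ Y := by
  haveI : Fact (Nat.Prime 2) := ⟨Nat.prime_two⟩
  set Kr := (modHom Y).ker.map (normalizer (Y : Set G)).subtype with hKr
  have hYKr : Y ≤ Kr := fun y hy => ⟨⟨y, le_normalizer hy⟩, h.act_eq_one hy, rfl⟩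
  have hU : IsPGroup 2 (Y ⊔ zpowers t : Subgroup G) := hT.to_le (sup_le hYT (zpowers_le.2 ht))
  have hUK : Y ⊔ zpowers t ≤ Kr := sup_le hYKr (zpowers_le.2 ⟨⟨t, hTN ht⟩, h1, rfl⟩)
  obtain ⟨P, hUP, hPK, hP, hmax⟩ := exists_maximal_two hU hUK
  have hsyl : ∀ R : Subgroup G, IsPGroup 2 R → R ≤ Kr →
      (∀ R' : Subgroup G, IsPGroup 2 R' → R' ≤ Kr → R ≤ R' → R' ≤ R) →
        ∃ Q : Sylow 2 Kr, (Q : Subgroup Kr).map Kr.subtype = R := by
    intro R hR hRK hm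
    obtain ⟨Q, hQ⟩ := (hR.comap_subtype (K := Kr)).exists_le_sylow
    have h2 : R ≤ (Q : Subgroup Kr).map Kr.subtype := by
      rw [← map_subgroupOf_eq_of_le hRK]
      exact map_mono hQ
    exact ⟨Q, le_antisymm (hm _ (Q.isPGroup'.map _) (map_subtype_le _) h2) h2⟩
  have hxKr : x ∈ normalizer (Kr : Set G) := by
    refine Coprime.mem_normalizer_of_map_conj (eq_of_le_of_card_ge ?_
      (Coprime.card_map_conj _ _).ge)
    rintro _ ⟨_, ⟨⟨k, hk⟩, hk1, rfl⟩, rfl⟩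
    exact mem_map_of_mem (normalizer (Y : Set G)).subtype
      ((MonoidHom.normal_ker (modHom Y)).conj_mem ⟨k, hk⟩ hk1 ⟨x, h.xY⟩)
  obtain ⟨Q₁, hQ₁⟩ := hsyl P hP hPK hmax
  set P' := P.map (MulAut.conj x).toMonoidHom with hP'
  have hP'K : P' ≤ Kr := (map_mono hPK).trans_eq (Coprime.map_conj_eq hxKr)
  obtain ⟨Q₂, hQ₂⟩ := hsyl P' (hP.map _) hP'K fun R' hR' hR'K hle => by
    have h2 : P ≤ R'.map (MulAut.conj x⁻¹).toMonoidHom := by
      have := map_mono (f := (MulAut.conj x⁻¹).toMonoidHom) hle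
      rwa [hP', Coprime.map_conj_map_conj, inv_mul_cancel, Coprime.map_conj_one] at this
    have h3 := hmax _ (hR'.map _)
      ((map_mono hR'K).trans_eq (Coprime.map_conj_eq (inv_mem hxKr))) h2
    have := map_mono (f := (MulAut.conj x).toMonoidHom) h3
    rwa [Coprime.map_conj_map_conj, mul_inv_cancel, Coprime.map_conj_one] at this
  obtain ⟨k, hk⟩ := MulAction.exists_smul_eq Kr Q₁ Q₂
  have hkP : P.map (MulAut.conj (k : G)).toMonoidHom = P' := by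
    rw [← hQ₁, ← hQ₂, ← hk, Subgroup.map_map]
    show _ = ((Q₁ : Subgroup Kr).map (MulAut.conj k).toMonoidHom).map Kr.subtype
    rw [Subgroup.map_map]
    rfl
  set n := (k : G)⁻¹ * x with hn
  have hnP : n ∈ normalizer (P : Set G) := by
    refine Coprime.mem_normalizer_of_map_conj ?_
    rw [hn, ← Coprime.map_conj_map_conj, ← hP', ← hkP, Coprime.map_conj_map_conj, inv_mul_cancel,
      Coprime.map_conj_one]
  obtain ⟨k₀, hk₀, hk₀e⟩ : ∃ k₀ ∈ (modHom Y).ker, (k₀ : G) = k := k.2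
  have hnN : n ∈ normalizer (Y : Set G) := by
    rw [hn, ← hk₀e]
    exact mul_mem (inv_mem k₀.2) h.xY
  have hφn : modHom Y ⟨n, hnN⟩ = h.phiV := by
    rw [show (⟨n, hnN⟩ : normalizer (Y : Set G)) = k₀⁻¹ * ⟨x, h.xY⟩ from
      Subtype.ext (show n = (k₀ : G)⁻¹ * x by rw [hk₀e]), map_mul, map_inv, MonoidHom.mem_ker.1 hk₀, inv_one,
      one_mul]
    rfl
  -- the 5-part of `n`
  obtain ⟨a, m, hm, hord⟩ :=
    Nat.exists_eq_pow_mul_and_not_dvd (orderOf_pos n).ne' 5 (by norm_num)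
  have hsp : Sp Y Z (n ^ m) := by
    refine h.change (pow_mem hnN m) ⟨a, by rw [← pow_mul, mul_comm, ← hord, pow_orderOf_eq_one]⟩
      fun v hv => h.phiV_fixed v ?_
    rw [show (⟨n ^ m, pow_mem hnN m⟩ : normalizer (Y : Set G)) = ⟨n, hnN⟩ ^ m from rfl, map_pow,
      hφn] at hv
    obtain ⟨j, hj⟩ := exists_pow_eq_self_of_coprime (x := h.phiV) (n := m) (by
      rw [h.orderOf_phiV]
      exact ((Nat.Prime.coprime_iff_not_dvd (by norm_num)).2 hm).symm)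
    conv_lhs => rw [← hj]
    exact MulAction.mem_stabilizer_iff.1
      (pow_mem (show h.phiV ^ m ∈ MulAction.stabilizer (MulAut _) v from hv) j)
  exact hsp.eq_of_invariant hrk hP (le_sup_left.trans hUP) (pow_mem hnP m) ▸
    hUP (mem_sup_right (mem_zpowers t))

variable {T : Subgroup G}

/-- A 2-subgroup of `N(Y)` is abelian modulo `Y`. -/
theorem Sp.comm_mem_Y (h : Sp Y Z x) (hrk : Rk G) (hs : Group.IsSolvable (normalizer (Y : Set G)))
    (hT : IsPGroup 2 T) (hYT : Y ≤ T) (hTN : T ≤ normalizer (Y : Set G)) {a b : G} (ha : a ∈ T)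
    (hb : b ∈ T) : ⁅a, b⁆ ∈ Y := by
  have hab : ⁅a, b⁆ ∈ T := commutator_le_self T (commutator_mem_commutator ha hb)
  refine h.mem_of_act_eq_one hrk hT hYT hTN hab (h.act_two hT hTN hab ?_)
  rw [show (⟨⁅a, b⁆, hTN hab⟩ : normalizer (Y : Set G)) =
      ⁅(⟨a, hTN ha⟩ : normalizer (Y : Set G)), ⟨b, hTN hb⟩⁆ from rfl,
    map_commutatorElement]
  exact commute_commutator (mem_normalizer_zpowers (h.conj_phiV hs _))
    (mem_normalizer_zpowers (h.conj_phiV hs _))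

/-- An involution of `T / Y` inverts `x` on `Y / Z`. -/
theorem Sp.inverts (h : Sp Y Z x) (hrk : Rk G) (hs : Group.IsSolvable (normalizer (Y : Set G)))
    (hT : IsPGroup 2 T) (hYT : Y ≤ T) (hTN : T ≤ normalizer (Y : Set G)) {t : G} (ht : t ∈ T)
    (htY : t ∉ Y) (ht2 : t ^ 2 ∈ Y) :
    modHom Y ⟨t, hTN ht⟩ * h.phiV * (modHom Y ⟨t, hTN ht⟩)⁻¹ = h.phiV⁻¹ := by
  have h2 : modHom Y ⟨t, hTN ht⟩ * modHom Y ⟨t, hTN ht⟩ = 1 := by
    rw [← map_mul, show (⟨t, hTN ht⟩ : normalizer (Y : Set G)) * ⟨t, hTN ht⟩ =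
      ⟨t ^ 2, le_normalizer ht2⟩ from Subtype.ext (pow_two t).symm]
    exact h.act_eq_one ht2
  rcases commute_or_inverts (by norm_num : Nat.Prime 5) h.orderOf_phiV h2 (h.conj_phiV hs _) with
    h3 | h3
  · exact absurd (h.mem_of_act_eq_one hrk hT hYT hTN ht (h.act_two hT hTN ht h3)) htY
  · exact h3

theorem Sp.mul_mem_Y (h : Sp Y Z x) (hrk : Rk G) (hs : Group.IsSolvable (normalizer (Y : Set G)))
    (hT : IsPGroup 2 T) (hYT : Y ≤ T) (hTN : T ≤ normalizer (Y : Set G)) {a b : G} (ha : a ∈ T)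
    (hb : b ∈ T) (haY : a ∉ Y) (hbY : b ∉ Y) (ha2 : a ^ 2 ∈ Y) (hb2 : b ^ 2 ∈ Y) :
    a * b ∈ Y := by
  refine h.mem_of_act_eq_one hrk hT hYT hTN (mul_mem ha hb) (h.act_two hT hTN (mul_mem ha hb) ?_)
  have ea := h.inverts hrk hs hT hYT hTN ha haY ha2
  have eb := h.inverts hrk hs hT hYT hTN hb hbY hb2
  rw [show (⟨a * b, hTN (mul_mem ha hb)⟩ : normalizer (Y : Set G)) = ⟨a, hTN ha⟩ * ⟨b, hTN hb⟩
    from rfl, map_mul]
  refine (mul_inv_eq_iff_eq_mul (a := modHom Y _ * modHom Y _ * h.phiV)).1 ?_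
  rw [mul_inv_rev, show ∀ A B F : MulAut (Abelianization Y),
    A * B * F * (B⁻¹ * A⁻¹) = A * (B * F * B⁻¹) * A⁻¹ from fun A B F => by group, eb, ← conj_inv,
    ea, inv_inv]

/-! ### Classes of `Y / Z` -/

/-- The orbit of `v`. -/
def vi (x v : G) (i : ℕ) : G := x ^ i * v * (x ^ i)⁻¹

omit [Finite G] in
theorem vi_zero (x v : G) : vi x v 0 = v := by rw [vi, pow_zero]; group

omit [Finite G] in
theorem Sp.vi_mem (h : Sp Y Z x) {v : G} (hv : v ∈ Y) (i : ℕ) : vi x v i ∈ Y :=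
  (mem_normalizer_iff.1 (pow_mem h.xY i) v).1 hv

omit [Finite G] in
theorem Sp.of_vi (h : Sp Y Z x) {v : G} (hv : v ∈ Y) (i : ℕ) :
    Abelianization.of (⟨vi x v i, h.vi_mem hv i⟩ : Y) =
      (h.phiV ^ i) (Abelianization.of ⟨v, hv⟩) := by
  rw [Sp.phiV, ← map_pow,
    show (⟨x, h.xY⟩ : normalizer (Y : Set G)) ^ i = ⟨x ^ i, pow_mem h.xY i⟩ from rfl, modHom_of]
  rfl

omit [Finite G] in
theorem Sp.comm_mul_left (h : Sp Y Z x) {a b c : G} (ha : a ∈ Y) (hb : b ∈ Y) (hc : c ∈ Y) :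
    ⁅a * b, c⁆ = ⁅b, c⁆ * ⁅a, c⁆ := by
  rw [show ⁅a * b, c⁆ = a * ⁅b, c⁆ * a⁻¹ * ⁅a, c⁆ by simp only [commutatorElement_def]; group,
    ← (h.central _ (h.comm_mem hb hc) a ha).eq, mul_inv_cancel_right]

omit [Finite G] in
theorem Sp.comm_symm (h : Sp Y Z x) {a b : G} (ha : a ∈ Y) (hb : b ∈ Y) : ⁅a, b⁆ = ⁅b, a⁆ := by
  rw [← commutatorElement_inv]
  exact inv_eq_of_mul_eq_one_right (by rw [← pow_two]; exact h.zsq _ (h.comm_mem hb ha))

omit [Finite G] in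
theorem Sp.sq_mul (h : Sp Y Z x) {a b : G} (ha : a ∈ Y) (hb : b ∈ Y) :
    (a * b) ^ 2 = a ^ 2 * b ^ 2 * ⁅a, b⁆ := by
  have hz := h.comm_mem hb ha
  rw [h.comm_symm ha hb, (h.central _ hz _ (mul_mem (pow_mem ha 2) (pow_mem hb 2))).symm.eq,
    pow_two (a * b), show a * b * (a * b) = a * (⁅b, a⁆ * a * b) * b by
      rw [commutatorElement_def]; group,
    show a * (⁅b, a⁆ * a * b) * b = a * ⁅b, a⁆ * a * b * b by group,
    ← (h.central _ hz a ha).eq, pow_two, pow_two]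
  group

omit [Finite G] in
theorem Sp.comm_congr (h : Sp Y Z x) {a a' b : G} (ha : a ∈ Y) (ha' : a' ∈ Y) (hb : b ∈ Y)
    (e : Abelianization.of (⟨a, ha⟩ : Y) = Abelianization.of ⟨a', ha'⟩) : ⁅a, b⁆ = ⁅a', b⁆ := by
  rw [of_eq_iff, h.comm] at e
  have h1 : ⁅a⁻¹ * a', b⁆ = 1 := commutatorElement_eq_one_iff_commute.2 (h.central _ e b hb)
  calc ⁅a, b⁆ = ⁅a⁻¹ * a', b⁆ * ⁅a, b⁆ := by rw [h1, one_mul]
    _ = ⁅a', b⁆ := by rw [← h.comm_mul_left ha (h.le e) hb, mul_inv_cancel_left]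

omit [Finite G] in
theorem Sp.sq_congr (h : Sp Y Z x) {a a' : G} (ha : a ∈ Y) (ha' : a' ∈ Y)
    (e : Abelianization.of (⟨a, ha⟩ : Y) = Abelianization.of ⟨a', ha'⟩) : a ^ 2 = a' ^ 2 := by
  rw [of_eq_iff, h.comm] at e
  conv_rhs => rw [← mul_inv_cancel_left a a']
  rw [(h.central _ e a ha).symm.mul_pow, h.zsq _ e, mul_one]

omit [Finite G] in
theorem Sp.conj_fix (h : Sp Y Z x) {z : G} (hz : z ∈ Z) (i : ℕ) : x ^ i * z * (x ^ i)⁻¹ = z := by
  rw [((h.xZ z hz).pow_left i).eq, mul_inv_cancel_right]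

omit [Finite G] in
theorem Sp.vi_sq (h : Sp Y Z x) {v : G} (hv : v ∈ Y) (i : ℕ) : vi x v i ^ 2 = v ^ 2 := by
  rw [vi, conj_pow]
  exact h.conj_fix (h.sq v hv) i

omit [Finite G] in
theorem Sp.comm_vi (h : Sp Y Z x) {v : G} (hv : v ∈ Y) (i j : ℕ) :
    ⁅vi x v i, vi x v (i + j)⁆ = ⁅v, vi x v j⁆ := by
  have e : ⁅vi x v i, vi x v (i + j)⁆ = x ^ i * ⁅v, vi x v j⁆ * (x ^ i)⁻¹ := by
    simp only [vi, commutatorElement_def, pow_add]; group
  rw [e]
  exact h.conj_fix (h.comm_mem hv (h.vi_mem hv j)) i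

theorem Sp.of_vi_mod (h : Sp Y Z x) {v : G} (hv : v ∈ Y) (i : ℕ) :
    Abelianization.of (⟨vi x v i, h.vi_mem hv i⟩ : Y) =
      Abelianization.of ⟨vi x v (i % 5), h.vi_mem hv _⟩ := by
  have h5 := pow_mod_orderOf h.phiV i
  rw [h.orderOf_phiV] at h5
  rw [h.of_vi hv, h.of_vi hv, h5]

theorem Sp.comm_vi_mod (h : Sp Y Z x) {v : G} (hv : v ∈ Y) (i : ℕ) :
    ⁅v, vi x v i⁆ = ⁅v, vi x v (i % 5)⁆ := by
  rw [h.comm_symm hv (h.vi_mem hv _), h.comm_symm hv (h.vi_mem hv (i % 5))]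
  exact h.comm_congr (h.vi_mem hv _) (h.vi_mem hv _) hv (h.of_vi_mod hv i)

theorem Sp.comm_three_four (h : Sp Y Z x) {v : G} (hv : v ∈ Y) :
    ⁅v, vi x v 3⁆ = ⁅v, vi x v 2⁆ ∧ ⁅v, vi x v 4⁆ = ⁅v, vi x v 1⁆ := by
  have key : ∀ i j : ℕ, i + j = 5 → ⁅v, vi x v i⁆ = ⁅v, vi x v j⁆ := by
    intro i j hij
    rw [← h.comm_vi hv i j, hij, h.comm_symm (h.vi_mem hv i) (h.vi_mem hv 5),
      h.comm_congr (h.vi_mem hv 5) (h.vi_mem hv 0) (h.vi_mem hv i) (h.of_vi_mod hv 5)]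
    simp only [vi_zero]
  exact ⟨key 3 2 rfl, key 4 1 rfl⟩

/-- The orbit relation. -/
theorem Sp.phi_four (h : Sp Y Z x) (w : Abelianization Y) :
    (h.phiV ^ 4) w = w * h.phiV w * (h.phiV ^ 2) w * (h.phiV ^ 3) w := by
  have h5 : (h.phiV ^ 5) w = w := by
    rw [← h.orderOf_phiV, pow_orderOf_eq_one]; rfl
  have hinv : ∀ u : Abelianization Y, u⁻¹ = u := fun u =>
    inv_eq_of_mul_eq_one_right (by rw [← pow_two]; exact h.V_sq u)
  have h1 := h.phiV_fixed (w * h.phiV w * (h.phiV ^ 2) w * (h.phiV ^ 3) w * (h.phiV ^ 4) w) (by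
    simp only [map_mul, ← MulAut.mul_apply, ← pow_succ', ← pow_two, h5]
    ac_rfl)
  rw [eq_inv_of_mul_eq_one_left h1, hinv]

/-- The square of an element outside `Z`. -/
theorem Sp.sq_eq (h : Sp Y Z x) {v : G} (hv : v ∈ Y) :
    v ^ 2 = ⁅v, vi x v 1⁆ * ⁅v, vi x v 2⁆ := by
  obtain ⟨h3, -⟩ := h.comm_three_four hv
  set q := v ^ 2 with hq
  set f1 := ⁅v, vi x v 1⁆ with hf1
  set f2 := ⁅v, vi x v 2⁆ with hf2
  have hm := h.vi_mem hv
  have m01 := mul_mem hv (hm 1)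
  have m012 := mul_mem m01 (hm 2)
  have e4 : Abelianization.of (⟨vi x v 4, hm 4⟩ : Y) =
      Abelianization.of ⟨v * vi x v 1 * vi x v 2 * vi x v 3, mul_mem m012 (hm 3)⟩ := by
    rw [show (⟨v * vi x v 1 * vi x v 2 * vi x v 3, mul_mem m012 (hm 3)⟩ : Y) =
      ⟨v, hv⟩ * ⟨_, hm 1⟩ * ⟨_, hm 2⟩ * ⟨_, hm 3⟩ from rfl, map_mul, map_mul, map_mul,
      h.of_vi hv 1, h.of_vi hv 2, h.of_vi hv 3, h.of_vi hv 4, pow_one, h.phi_four]
  have hqZ : q ∈ Z := h.sq v hv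
  have c1 : ⁅vi x v 1, vi x v 2⁆ = f1 := h.comm_vi hv 1 1
  have c2 : ⁅vi x v 1, vi x v 3⁆ = f2 := h.comm_vi hv 1 2
  have c3 : ⁅vi x v 2, vi x v 3⁆ = f1 := h.comm_vi hv 2 1
  have h1Z : f1 ∈ Z := h.comm_mem hv (hm 1)
  have h2Z : f2 ∈ Z := h.comm_mem hv (hm 2)
  have hsqf : ∀ z ∈ Z, z * z = 1 := fun z hz => (pow_two z).symm.trans (h.zsq z hz)
  have hc : Commute f1 f2 := h.central _ h1Z _ (h.le h2Z)
  have hcq : Commute q f1 ∧ Commute q f2 :=
    ⟨h.central _ hqZ _ (h.le h1Z), h.central _ hqZ _ (h.le h2Z)⟩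
  have es := h.sq_congr (hm 4) (mul_mem m012 (hm 3)) e4
  rw [h.vi_sq hv, h.sq_mul m012 (hm 3), h.sq_mul m01 (hm 2), h.sq_mul hv (hm 1), h.vi_sq hv,
    h.vi_sq hv, h.vi_sq hv, h.comm_mul_left m01 (hm 2) (hm 3), h.comm_mul_left hv (hm 1) (hm 3),
    h.comm_mul_left hv (hm 1) (hm 2), c1, c2, c3, h3, ← hq, ← hf1, ← hf2] at es
  simp only [hsqf _ hqZ, one_mul, mul_one, hsqf _ h2Z, mul_assoc] at es
  rw [es]
  have e1 : f1 * (q * (f1 * (f2 * (q * f1)))) = q * q * (f1 * f1) * (f1 * f2) := by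
    simp only [mul_assoc, hc.left_comm, hcq.1.left_comm, hcq.2.left_comm, hc.eq, hcq.1.eq]
  rw [e1, hsqf _ hqZ, hsqf _ h1Z, one_mul, one_mul]

/-- The subgroup generated by the commutators of one orbit. -/
theorem Sp.Z_le (h : Sp Y Z x) {v : G} (hv : v ∈ Y) (hvZ : v ∉ Z) {K : Subgroup G}
    (h1 : ⁅v, vi x v 1⁆ ∈ K) (h2 : ⁅v, vi x v 2⁆ ∈ K) : Z ≤ K := by
  by_contra hne
  refine hvZ (h.mem_Z_of_comm_mem hne hv fun y hy => ?_)
  obtain ⟨h3, h4⟩ := h.comm_three_four hv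
  let D : Subgroup G :=
    { carrier := {w | w ∈ Y ∧ ⁅w, v⁆ ∈ K}
      one_mem' := ⟨one_mem _, by rw [commutatorElement_one_left]; exact one_mem K⟩
      mul_mem' := fun {a c} ha hc => ⟨mul_mem ha.1 hc.1, by
        rw [h.comm_mul_left ha.1 hc.1 hv]; exact mul_mem hc.2 ha.2⟩
      inv_mem' := fun {a} ha => ⟨inv_mem ha.1, by
        have e := h.comm_mul_left (inv_mem ha.1) ha.1 hv
        rw [inv_mul_cancel, commutatorElement_one_left] at e
        rw [inv_eq_of_mul_eq_one_right e.symm |>.symm]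
        exact inv_mem ha.2⟩ }
  have hD : ∀ i, vi x v i ∈ D := by
    intro i
    refine ⟨h.vi_mem hv i, ?_⟩
    rw [h.comm_symm (h.vi_mem hv i) hv, h.comm_vi_mod hv]
    have : i % 5 < 5 := Nat.mod_lt _ (by norm_num)
    interval_cases i % 5
    · rw [vi_zero, commutatorElement_self]; exact one_mem K
    · exact h1
    · exact h2
    · rw [h3]; exact h2
    · rw [h4]; exact h1
  let D' : Subgroup G := closure (Set.range (vi x v))
  have hD'Y : D' ≤ Y := (closure_le _).2 (by rintro _ ⟨i, rfl⟩; exact h.vi_mem hv i)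
  have hD'x : x ∈ normalizer (D' : Set G) := by
    refine Coprime.mem_normalizer_of_map_conj (eq_of_le_of_card_ge ?_
      (Coprime.card_map_conj _ _).ge)
    rw [MonoidHom.map_closure, closure_le]
    rintro _ ⟨_, ⟨i, rfl⟩, rfl⟩
    refine subset_closure ⟨i + 1, ?_⟩
    simp only [vi, pow_succ', MulEquiv.coe_toMonoidHom, MulAut.conj_apply]
    group
  rcases h.irred hD'Y hD'x with hle | heq
  · exact absurd (hle (subset_closure ⟨0, vi_zero x v⟩)) hvZ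
  · have hyD : y ∈ D := (closure_le D).2 (by rintro _ ⟨i, rfl⟩; exact hD i) (heq.symm ▸ hy)
    rw [h.comm_symm hv hy]
    exact hyD.2

theorem Sp.comm_ne (h : Sp Y Z x) (h4 : Nat.card Z = 4) {v : G} (hv : v ∈ Y) (hvZ : v ∉ Z) :
    ⁅v, vi x v 1⁆ ≠ 1 ∧ ⁅v, vi x v 2⁆ ≠ 1 ∧ ⁅v, vi x v 1⁆ ≠ ⁅v, vi x v 2⁆ := by
  have key : ∀ g : G, g ∈ Z → ⁅v, vi x v 1⁆ ∈ zpowers g → ⁅v, vi x v 2⁆ ∈ zpowers g → False := by
    intro g hg h1 h2
    have hle := card_le_of_le (h.Z_le hv hvZ h1 h2)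
    rw [h4, Nat.card_zpowers] at hle
    have := Nat.le_of_dvd (by norm_num) (orderOf_dvd_of_pow_eq_one (h.zsq g hg))
    omega
  refine ⟨fun e => ?_, fun e => ?_, fun e => ?_⟩
  · exact key _ (h.comm_mem hv (h.vi_mem hv 2)) (e ▸ one_mem _) (mem_zpowers _)
  · exact key _ (h.comm_mem hv (h.vi_mem hv 1)) (mem_zpowers _) (e ▸ one_mem _)
  · exact key _ (h.comm_mem hv (h.vi_mem hv 1)) (mem_zpowers _) (e ▸ mem_zpowers _)

/-- For `|Z| = 4` all involutions of `Y` lie in `Z`. -/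
theorem Sp.mem_Z_of_sq (h : Sp Y Z x) (h4 : Nat.card Z = 4) {v : G} (hv : v ∈ Y) (h2 : v ^ 2 = 1) :
    v ∈ Z := by
  by_contra hvZ
  rw [h.sq_eq hv, mul_eq_one_iff_eq_inv, inv_eq_of_mul_eq_one_right (by
    rw [← pow_two]; exact h.zsq _ (h.comm_mem hv (h.vi_mem hv 2)))] at h2
  exact (h.comm_ne h4 hv hvZ).2.2 h2

/-- Every class of `Y / Z` comes from one orbit. -/
theorem Sp.classes (h : Sp Y Z x) {v : G} (hv : v ∈ Y) (hvZ : v ∉ Z) {w : G} (hw : w ∈ Y)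
    (hwZ : w ∉ Z) : ∃ i : ℕ,
      Abelianization.of (⟨w, hw⟩ : Y) = Abelianization.of ⟨vi x v i, h.vi_mem hv i⟩ ∨
      (Abelianization.of (⟨w, hw⟩ : Y) = Abelianization.of
        ⟨vi x v i * vi x v (i + 1), mul_mem (h.vi_mem hv i) (h.vi_mem hv (i + 1))⟩) ∨
      Abelianization.of (⟨w, hw⟩ : Y) = Abelianization.of
        ⟨vi x v i * vi x v (i + 2), mul_mem (h.vi_mem hv i) (h.vi_mem hv (i + 2))⟩ := by
  set a := Abelianization.of (⟨v, hv⟩ : Y) with ha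
  have hpow : ∀ i, Abelianization.of (⟨vi x v i, h.vi_mem hv i⟩ : Y) = (h.phiV ^ i) a :=
    fun i => h.of_vi hv i
  have hmul : ∀ i j, Abelianization.of
      (⟨vi x v i * vi x v j, mul_mem (h.vi_mem hv i) (h.vi_mem hv j)⟩ : Y) =
      (h.phiV ^ i) a * (h.phiV ^ j) a := fun i j => by
    rw [← hpow, ← hpow, ← map_mul]; rfl
  have hne1 : Abelianization.of (⟨w, hw⟩ : Y) ≠ 1 := fun e =>
    hwZ (by rwa [of_eq_one_iff, h.comm] at e)
  have hane : a ≠ 1 := fun e => hvZ (by rwa [ha, of_eq_one_iff, h.comm] at e)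
  let A : ℕ → Abelianization Y := fun i => (h.phiV ^ i) a
  let W : Subgroup (Abelianization Y) :=
    { carrier := {u | ∃ i j k l : ℕ, u = A 0 ^ i * A 1 ^ j * A 2 ^ k * A 3 ^ l}
      one_mem' := ⟨0, 0, 0, 0, by simp⟩
      mul_mem' := by
        rintro _ _ ⟨i, j, k, l, rfl⟩ ⟨i', j', k', l', rfl⟩
        exact ⟨i + i', j + j', k + k', l + l', by simp only [pow_add]; ac_rfl⟩
      inv_mem' := by
        rintro u hu
        rwa [inv_eq_of_mul_eq_one_right (by rw [← pow_two]; exact h.V_sq u)] }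
  have h4 : h.phiV (A 3) = A 0 * A 1 * A 2 * A 3 := by
    show h.phiV ((h.phiV ^ 3) a) = _
    rw [← MulAut.mul_apply, ← pow_succ', h.phi_four]
    simp [A]
  have hW : ∀ u ∈ W, h.phiV u ∈ W := by
    rintro _ ⟨i, j, k, l, rfl⟩
    have e : ∀ n, h.phiV (A n) = A (n + 1) := fun n => by
      show h.phiV ((h.phiV ^ n) a) = _
      rw [← MulAut.mul_apply, ← pow_succ']
    have m0 : A 0 ∈ W := ⟨1, 0, 0, 0, by simp⟩
    have m1 : A 1 ∈ W := ⟨0, 1, 0, 0, by simp⟩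
    have m2 : A 2 ∈ W := ⟨0, 0, 1, 0, by simp⟩
    have m3 : A 3 ∈ W := ⟨0, 0, 0, 1, by simp⟩
    rw [map_mul, map_mul, map_mul, map_pow, map_pow, map_pow, map_pow, e 0, e 1, e 2, h4]
    exact mul_mem (mul_mem (mul_mem (pow_mem m1 _) (pow_mem m2 _)) (pow_mem m3 _))
      (pow_mem (mul_mem (mul_mem (mul_mem m0 m1) m2) m3) _)
  have hWtop : W = ⊤ := (h.irred_phiV W hW).resolve_left fun hb => hane (by
    have : A 0 ∈ W := ⟨1, 0, 0, 0, by simp⟩
    rw [hb, mem_bot] at this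
    simpa [A] using this)
  obtain ⟨i, j, k, l, e⟩ := (hWtop ▸ mem_top (Abelianization.of (⟨w, hw⟩ : Y)) :
    Abelianization.of (⟨w, hw⟩ : Y) ∈ W)
  have hmod : ∀ (u : Abelianization Y) (n : ℕ), u ^ n = u ^ (n % 2) := fun u n => by
    conv_lhs => rw [← Nat.mod_add_div n 2, pow_add, pow_mul, h.V_sq, one_pow, mul_one]
  rw [hmod _ i, hmod _ j, hmod _ k, hmod _ l] at e
  have hsq : ∀ u : Abelianization Y, u * u = 1 := fun u => (pow_two u).symm.trans (h.V_sq u)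
  have hcan : ∀ u w : Abelianization Y, u * (u * w) = w := fun u w => by
    rw [← mul_assoc, hsq, one_mul]
  have e4 : A 4 = A 0 * A 1 * A 2 * A 3 := by
    show (h.phiV ^ 4) a = _
    rw [h.phi_four]; simp [A]
  have h5 : ∀ n, A (n + 5) = A n := fun n => by
    show (h.phiV ^ (n + 5)) a = _
    rw [pow_add, ← h.orderOf_phiV, pow_orderOf_eq_one, mul_one]
  simp only [hpow, hmul]
  show ∃ n, _ = A n ∨ _ = A n * A (n + 1) ∨ _ = A n * A (n + 2)
  rcases Nat.mod_two_eq_zero_or_one i with hi | hi <;>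
  rcases Nat.mod_two_eq_zero_or_one j with hj | hj <;>
  rcases Nat.mod_two_eq_zero_or_one k with hk | hk <;>
  rcases Nat.mod_two_eq_zero_or_one l with hl | hl <;>
  rw [hi, hj, hk, hl] at e <;>
  simp only [pow_zero, pow_one, one_mul, mul_one] at e <;> rw [e]
  · exact absurd e hne1
  · exact ⟨3, .inl rfl⟩
  · exact ⟨2, .inl rfl⟩
  · exact ⟨2, .inr (.inl rfl)⟩
  · exact ⟨1, .inl rfl⟩
  · exact ⟨1, .inr (.inr rfl)⟩
  · exact ⟨1, .inr (.inl rfl)⟩
  · refine ⟨4, .inr (.inl ?_)⟩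
    rw [e4, h5 0, mul_comm' _ (A 0)]
    simp only [mul_assoc, hcan]
  · exact ⟨0, .inl rfl⟩
  · refine ⟨3, .inr (.inr ?_)⟩
    rw [h5 0, mul_comm']
  · exact ⟨0, .inr (.inr rfl)⟩
  · refine ⟨4, .inr (.inr ?_)⟩
    rw [e4, h5 1, mul_comm' _ (A 1)]
    simp only [mul_assoc, mul_left_comm (A 1) (A 0), hcan]
  · exact ⟨0, .inr (.inl rfl)⟩
  · refine ⟨2, .inr (.inr ?_)⟩
    rw [e4]
    calc A 0 * A 1 * A 3 = A 2 * A 2 * (A 0 * A 1 * A 3) := by rw [hsq, one_mul]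
      _ = A 2 * (A 0 * A 1 * A 2 * A 3) := by ac_rfl
  · refine ⟨3, .inr (.inl ?_)⟩
    rw [e4, mul_comm' (A 3)]
    simp only [mul_assoc, hsq, mul_one]
  · exact ⟨4, .inl e4.symm⟩

/-- For `|Z| = 2` there is no elementary subgroup of order 8 in `Y`. -/
theorem Sp.no_eight (h : Sp Y Z x) (h2 : Nat.card Z = 2) {E : Subgroup G} (hE : E ≤ Y)
    (hsq : ∀ e ∈ E, e ^ 2 = 1) : Nat.card E < 8 := by
  by_contra h8
  push Not at h8
  obtain ⟨e, he, heZ⟩ := SetLike.not_le_iff_exists.1 (fun hle : E ≤ Z => by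
    have := card_le_of_le hle; omega)
  have hf : ⁅e, vi x e 1⁆ = ⁅e, vi x e 2⁆ := by
    have h1 := hsq e he
    rw [h.sq_eq (hE he), mul_eq_one_iff_eq_inv] at h1
    rw [h1]
    exact inv_eq_of_mul_eq_one_right (by
      rw [← pow_two]; exact h.zsq _ (h.comm_mem (hE he) (h.vi_mem (hE he) 2)))
  have hne : ⁅e, vi x e 1⁆ ≠ 1 := fun e1 => by
    have := card_le_of_le (h.Z_le (hE he) heZ (K := ⊥) (e1 ▸ one_mem _)
      ((hf ▸ e1) ▸ one_mem _))
    rw [Subgroup.card_bot] at this; omega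
  obtain ⟨h3, h4⟩ := h.comm_three_four (hE he)
  have hsqe : ∀ i j, (vi x e i * vi x e (i + j)) ^ 2 = ⁅e, vi x e j⁆ := fun i j => by
    rw [h.sq_mul (h.vi_mem (hE he) _) (h.vi_mem (hE he) _), h.vi_sq (hE he), h.vi_sq (hE he),
      h.comm_vi (hE he), hsq e he, one_mul, one_mul]
  have hcov : (E : Set G) ⊆ (Z : Set G) ∪ (fun z => e * z) '' (Z : Set G) := by
    intro f hfE
    by_cases hfZ : f ∈ Z
    · exact Or.inl hfZ
    right
    obtain ⟨i, hi | hi | hi⟩ := h.classes (hE he) heZ (hE hfE) hfZ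
    · have hi5 : i % 5 < 5 := Nat.mod_lt _ (by norm_num)
      have hc0 : ⁅e, vi x e (i % 5)⁆ = 1 := by
        rw [← h.comm_vi_mod (hE he), h.comm_symm (hE he) (h.vi_mem (hE he) i),
          ← h.comm_congr (hE hfE) (h.vi_mem (hE he) i) (hE he) hi, commutatorElement_eq_one_iff_commute]
        have h1 := hsq _ (mul_mem hfE he)
        show f * e = e * f
        have hinv : ∀ g ∈ E, g⁻¹ = g := fun g hg =>
          inv_eq_of_mul_eq_one_right (by rw [← pow_two]; exact hsq g hg)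
        rw [← hinv _ (mul_mem hfE he), mul_inv_rev, hinv f hfE, hinv e he]
      have h0 : i % 5 = 0 := by
        interval_cases hr : i % 5
        · rfl
        · exact absurd hc0 hne
        · exact absurd (hf ▸ hc0) hne
        · exact absurd (hf ▸ h3 ▸ hc0) hne
        · exact absurd (h4 ▸ hc0) hne
      refine ⟨e⁻¹ * f, ?_, mul_inv_cancel_left e f⟩
      rw [h.of_vi_mod (hE he) i] at hi
      simp only [h0, vi_zero] at hi
      rw [eq_comm, of_eq_iff, h.comm] at hi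
      exact hi
    · refine absurd ?_ hne
      rw [← hsqe i 1, ← h.sq_congr (hE hfE) _ hi]
      exact hsq f hfE
    · refine absurd ?_ hne
      rw [hf, ← hsqe i 2, ← h.sq_congr (hE hfE) _ hi]
      exact hsq f hfE
  have h1 := Set.ncard_le_ncard hcov (Set.toFinite _)
  have h5 := Set.ncard_union_le (Z : Set G) ((fun z => e * z) '' (Z : Set G))
  have h6 := Set.ncard_image_le (f := fun z => e * z) (s := (Z : Set G)) (Set.toFinite _)
  rw [← Nat.card_coe_set_eq] at h1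
  rw [← Nat.card_coe_set_eq (Z : Set G)] at h5 h6
  simp only [SetLike.coe_sort_coe] at h1 h5 h6
  omega

/-- For `|Z| = 4` an element of 3-power order centralizing `Z` and commuting with `x` on `Y / Z`
acts trivially there. -/
theorem Sp.act_three (h : Sp Y Z x) (h4 : Nat.card Z = 4)
    (hs : Group.IsSolvable (normalizer (Y : Set G))) {n : G} (hn : n ∈ normalizer (Y : Set G))
    {m : ℕ} (hnm : n ^ 3 ^ m = 1) (hnZ : ∀ z ∈ Z, Commute n z) : modHom Y ⟨n, hn⟩ = 1 := by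
  haveI := h.nontrivial_V
  set ψ := modHom Y ⟨n, hn⟩ with hψdef
  have hψ3 : ψ ^ 3 ^ m = 1 := by
    rw [hψdef, ← map_pow, show (⟨n, hn⟩ : normalizer (Y : Set G)) ^ 3 ^ m = 1 from Subtype.ext hnm,
      map_one]
  have hc : Commute ψ h.phiV := commute_of_pow_eq_one (p := 5) (by norm_num) h.orderOf_phiV
    (pow_ne_zero m (by norm_num)) hψ3
    ((by norm_num : Nat.Coprime 3 4).pow_left m) (h.conj_phiV hs _)
  obtain ⟨v, hv, hvZ⟩ := SetLike.not_le_iff_exists.1 h.not_le_Z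
  set w := n * v * n⁻¹ with hw
  have hwY : w ∈ Y := (mem_normalizer_iff.1 hn v).1 hv
  have hwsq : w ^ 2 = v ^ 2 := by
    rw [hw, conj_pow, (hnZ _ (h.sq v hv)).eq, mul_inv_cancel_right]
  have hwZ : w ∉ Z := fun hwZ => hvZ (h.mem_Z_of_sq h4 hv (hwsq ▸ h.zsq w hwZ))
  obtain ⟨n1, n2, n12⟩ := h.comm_ne h4 hv hvZ
  have hsqv : ∀ i j, (vi x v i * vi x v (i + j)) ^ 2 = ⁅v, vi x v j⁆ := fun i j => by
    rw [h.sq_mul (h.vi_mem hv _) (h.vi_mem hv _), h.vi_sq hv, h.vi_sq hv, h.comm_vi hv, ← pow_two,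
      h.zsq _ (h.sq v hv), one_mul]
  obtain ⟨i, hi | hi | hi⟩ := h.classes hv hvZ hwY hwZ
  · set a := Abelianization.of (⟨v, hv⟩ : Y)
    have hψa : ψ a = (h.phiV ^ i) a := by
      rw [← h.of_vi hv i, ← hi, hψdef, modHom_of hn hv]
    set χ := (h.phiV ^ i)⁻¹ * ψ
    have hχc : Commute χ h.phiV := ((Commute.refl h.phiV).pow_left i).inv_left.mul_left hc
    have hχa : χ a = a := by
      rw [MulAut.mul_apply, hψa, MulAut.inv_apply_self]
    have htop : fixSub (zpowers χ) = ⊤ := (h.irred_phiV _ fun u hu => by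
      refine mem_fixSub_zpowers ?_
      rw [← MulAut.mul_apply, hχc.eq, MulAut.mul_apply, hu χ (mem_zpowers χ)]).resolve_left
        fun hb => by
          have := mem_fixSub_zpowers hχa
          rw [hb, mem_bot, of_eq_one_iff, h.comm] at this
          exact hvZ this
    have hχ1 : χ = 1 := MulEquiv.ext fun u =>
      (htop ▸ mem_top u : u ∈ fixSub (zpowers χ)) χ (mem_zpowers χ)
    have hψi : ψ = h.phiV ^ i := by
      have := inv_mul_eq_one.1 (show (h.phiV ^ i)⁻¹ * ψ = 1 from hχ1)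
      exact this.symm
    have h5 : ψ ^ 5 = 1 := by
      rw [hψi, ← pow_mul, mul_comm, pow_mul, ← h.orderOf_phiV, pow_orderOf_eq_one, one_pow]
    have h6 := Nat.dvd_gcd (orderOf_dvd_of_pow_eq_one h5) (orderOf_dvd_of_pow_eq_one hψ3)
    rw [((by norm_num : Nat.Coprime 5 3).pow_right m).gcd_eq_one, Nat.dvd_one] at h6
    exact orderOf_eq_one_iff.1 h6
  · exfalso
    have e := h.sq_congr hwY _ hi
    rw [hsqv i 1, hwsq, h.sq_eq hv, mul_eq_left] at e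
    exact n2 e
  · exfalso
    have e := h.sq_congr hwY _ hi
    rw [hsqv i 2, hwsq, h.sq_eq hv, mul_eq_right] at e
    exact n1 e

end Cfsg.Agent.H63.TwoGen.NoMoved
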