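import Cfsg.Agent.H63.TwoGen.NoMoved.Local
import Cfsg.Agent.S0215
import Mathlib

/-!
# Piece D: no moved extraspecial group of order 32

`c ∈ Z` is isolated in a Sylow 2-subgroup, against Glauberman's `Z*`-theorem.
-/

set_option autoImplicit false
set_option linter.style.haveILetI false
open Cfsg

namespace Cfsg.Agent.H63.TwoGen.NoMoved

open Subgroup
open scoped commutatorElement
open Cfsg.Agent.H47 (coreOf coreOf_le le_normalizer_coreOf coprime_coreOf le_coreOf)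

universe u

variable {G : Type u} [Group G] [Finite G] {Y Z : Subgroup G} {x : G}

theorem Sp.normalizer_solvable (h : Sp Y Z x) (hG : Hyp G) :
    Group.IsSolvable (normalizer (Y : Set G)) := by
  haveI : Fact (Nat.Prime 2) := ⟨Nat.prime_two⟩
  exact hG.proper_solvable _
    (hG.normalizer_ne_top (fun e => h.not_le_Z (e ▸ bot_le)) (hG.ne_top_of_isPGroup h.pY))

/-- Conjugates of involutions of `Z` in a 2-subgroup of `N(Y)` lie in `Y`. -/
theorem Sp.mem_Y_of_conj (h : Sp Y Z x) (hG : Hyp G) (hrk : Rk G)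
    (hrkr : ∀ r : ℕ, r.Prime → 5 ≤ r → Cfsg.PRankLE r 2 G) {T : Subgroup G} (hT : IsPGroup 2 T)
    (hYT : Y ≤ T) (hTN : T ≤ normalizer (Y : Set G)) {c g : G} (hc : c ∈ Z) (hc1 : c ≠ 1)
    (hd : g * c * g⁻¹ ∈ T) : g * c * g⁻¹ ∈ Y := by
  by_contra hdY
  set d := g * c * g⁻¹ with hddef
  have hdd : d * d = 1 := by
    rw [hddef, show g * c * g⁻¹ * (g * c * g⁻¹) = g * c ^ 2 * g⁻¹ by rw [pow_two]; group, h.zsq c hc]
    group
  have hd' : d⁻¹ = d := inv_eq_of_mul_eq_one_right hdd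
  have hs := h.normalizer_solvable hG
  have hA := h.inverts hrk hs hT hYT hTN hd hdY (by rw [pow_two, hdd]; exact one_mem Y)
  set v : normalizer (Y : Set G) := ⁅(⟨d, hTN hd⟩ : normalizer (Y : Set G)), ⟨x, h.xY⟩⁆ with hv
  have hψ : modHom Y v = h.phiV⁻¹ * h.phiV⁻¹ := by
    rw [hv, map_commutatorElement, commutatorElement_def]
    show modHom Y ⟨d, hTN hd⟩ * h.phiV * (modHom Y ⟨d, hTN hd⟩)⁻¹ * h.phiV⁻¹ = _
    rw [hA]
  have hvinv : d * (v : G) * d⁻¹ = (v : G)⁻¹ := by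
    show d * (d * x * d⁻¹ * x⁻¹) * d⁻¹ = (d * x * d⁻¹ * x⁻¹)⁻¹
    calc d * (d * x * d⁻¹ * x⁻¹) * d⁻¹ = d * d * (x * d⁻¹ * x⁻¹ * d⁻¹) := by group
      _ = x * d * x⁻¹ * d⁻¹ := by rw [hdd, one_mul]; nth_rw 1 [hd']
      _ = (d * x * d⁻¹ * x⁻¹)⁻¹ := by group
  obtain ⟨a, m, hm, hord⟩ :=
    Nat.exists_eq_pow_mul_and_not_dvd (orderOf_pos (v : G)).ne' 2 (by norm_num)
  have hmodd : Odd m := Nat.not_even_iff_odd.1 fun he => hm (even_iff_two_dvd.1 he)
  set w := (v : G) ^ 2 ^ a with hw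
  have hwodd : Odd (orderOf w) := by
    refine Odd.of_dvd_nat hmodd (orderOf_dvd_of_pow_eq_one ?_)
    rw [hw, ← pow_mul, ← hord, pow_orderOf_eq_one]
  have hwinv : d * w * d⁻¹ = w⁻¹ := by rw [hw, ← conj_pow, hvinv, inv_pow]
  have hodd' : Odd (orderOf (g⁻¹ * w * g)) := by
    rwa [show g⁻¹ * w * g = MulAut.conj g⁻¹ w by simp, MulEquiv.orderOf_eq]
  obtain ⟨k, hk⟩ := h.three_of_inverted hG hrk hrkr hc hc1 hodd' (by
    calc c * (g⁻¹ * w * g) * c⁻¹ = g⁻¹ * (d * w * d⁻¹) * g := by rw [hddef]; group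
      _ = (g⁻¹ * w * g)⁻¹ := by rw [hwinv]; group)
  have hk' : w ^ 3 ^ k = 1 := by
    have e : g⁻¹ * w * g = g⁻¹ * w * g⁻¹⁻¹ := by rw [inv_inv]
    rw [e, conj_pow, conj_eq_one_iff] at hk
    exact hk
  have h1 : (h.phiV⁻¹ * h.phiV⁻¹) ^ (2 ^ a * 3 ^ k) = 1 := by
    rw [← hψ, ← map_pow]
    rw [show v ^ (2 ^ a * 3 ^ k) = 1 from Subtype.ext (by
      rw [SubmonoidClass.coe_pow, pow_mul]; exact hk'), map_one]
  rw [← pow_two, ← pow_mul, inv_pow, inv_eq_one] at h1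
  have h5 := orderOf_dvd_of_pow_eq_one h1
  rw [h.orderOf_phiV] at h5
  have h52 : Nat.Coprime 5 (2 * (2 ^ a * 3 ^ k)) :=
    Nat.Coprime.mul_right (by norm_num)
      (((by norm_num : Nat.Coprime 5 2).pow_right a).mul_right
        ((by norm_num : Nat.Coprime 5 3).pow_right k))
  have := Nat.eq_one_of_dvd_coprimes h52 dvd_rfl h5
  norm_num at this

/-- A Sylow subgroup of `G` inside `L` receives a conjugate of every 2-subgroup of `L`. -/
theorem exists_conj_le {T L R : Subgroup G} {P : Sylow 2 G} (hP : (P : Subgroup G) = T)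
    (hTL : T ≤ L) (hR : IsPGroup 2 R) (hRL : R ≤ L) :
    ∃ k ∈ L, ∀ r ∈ R, k * r * k⁻¹ ∈ T := by
  haveI : Fact (Nat.Prime 2) := ⟨Nat.prime_two⟩
  obtain ⟨Q, hQ⟩ := (hR.comap_subtype (K := L)).exists_le_sylow
  subst hP
  let P' : Sylow 2 L := P.subtype hTL
  obtain ⟨k, hk⟩ := MulAction.exists_smul_eq L Q P'
  refine ⟨k, k.2, fun r hr => ?_⟩
  have h1 : MulAut.conj k ⟨r, hRL hr⟩ ∈ (P' : Subgroup L) := by
    rw [← hk]
    exact ⟨⟨r, hRL hr⟩, hQ hr, rfl⟩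
  exact h1

/-- There is no moved extraspecial group of order 32. -/
theorem Sp.false_of_card_two (h : Sp Y Z x) (hG : Hyp G) (hrk : Rk G)
    (hrkr : ∀ r : ℕ, r.Prime → 5 ≤ r → Cfsg.PRankLE r 2 G) (h2 : Nat.card Z = 2) : False := by
  haveI : Fact (Nat.Prime 2) := ⟨Nat.prime_two⟩
  haveI := hG.nontrivial
  obtain ⟨c, hc, hc1⟩ := Z.bot_or_exists_ne_one.resolve_left fun e => by
    rw [e, Subgroup.card_bot] at h2; omega
  have hZ : ∀ z ∈ Z, z = 1 ∨ z = c := by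
    intro z hz
    by_contra hne
    push Not at hne
    have h3 : ({1, c, z} : Set G).ncard = 3 :=
      Set.ncard_eq_three.2 ⟨1, c, z, hc1.symm, Ne.symm hne.1, Ne.symm hne.2, rfl⟩
    have hsub : ({1, c, z} : Set G) ⊆ (Z : Set G) := by
      rintro w (rfl | rfl | rfl)
      exacts [one_mem Z, hc, hz]
    have h4 := Set.ncard_le_ncard hsub (Set.toFinite _)
    rw [h3, ← Nat.card_coe_set_eq] at h4
    simp only [SetLike.coe_sort_coe] at h4
    omega
  obtain ⟨T, hYT, hTN, hT, hTmax⟩ := exists_maximal_two h.pY (le_normalizer (H := Y))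
  set H := centralizer ({c} : Set G) with hH
  have hHs : Group.IsSolvable H := hG.centralizer_solvable hc1
  have hYH : Y ≤ H := fun y hy => mem_centralizer_singleton_iff.2 (h.central c hc y hy).eq.symm
  have hxH : x ∈ H := mem_centralizer_singleton_iff.2 (h.xZ c hc).eq
  have hNH : normalizer (Y : Set G) ≤ H := by
    intro t ht
    have h1 : t * c * t⁻¹ ∈ Z := (mem_normalizer_iff.1 (h.normalizer_le ht) c).1 hc
    rcases hZ _ h1 with h1 | h1
    · exact absurd (conj_eq_one_iff.1 h1) hc1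
    · exact mem_centralizer_singleton_iff.2 (mul_inv_eq_iff_eq_mul.1 h1)
  -- `T` is a Sylow subgroup of `G`
  obtain ⟨S, hS⟩ := exists_sylow_eq hT fun R hR hTR n hnR hn => by
    refine mem_of_maximal_two hR hTR hTN hTmax hnR ?_
    have hncT : n * c * n⁻¹ ∈ T := (mem_normalizer_iff.1 hn c).1 (hYT (h.le hc))
    have hncY := h.mem_Y_of_conj hG hrk hrkr hT hYT hTN hc hc1 hncT
    have hncZ : n * c * n⁻¹ ∈ Z := by
      refine h.mem_Z_of_central hncY fun y hy => ?_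
      have h1 : n⁻¹ * y * n ∈ T := (mem_normalizer_iff''.1 hn y).1 (hYT hy)
      have h2 := mem_centralizer_singleton_iff.1 (hNH (hTN h1))
      show n * c * n⁻¹ * y = y * (n * c * n⁻¹)
      calc n * c * n⁻¹ * y = n * (c * (n⁻¹ * y * n)) * n⁻¹ := by group
        _ = n * (n⁻¹ * y * n * c) * n⁻¹ := by rw [h2]
        _ = y * (n * c * n⁻¹) := by group
    have hnH : n ∈ H := by
      rcases hZ _ hncZ with h1 | h1
      · exact absurd (conj_eq_one_iff.1 h1) hc1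
      · exact mem_centralizer_singleton_iff.2 (mul_inv_eq_iff_eq_mul.1 h1)
    refine Coprime.mem_normalizer_of_map_conj ?_
    refine h.eq_of_common hrk hHs hxH hYH (h.conj n) (mul_mem (mul_mem hnH hxH) (inv_mem hnH))
      ?_ (Coprime.card_map_conj _ _) hT hYT
      ((map_mono hYT).trans_eq (Coprime.map_conj_eq hn))
    rintro _ ⟨y, hy, rfl⟩
    exact mul_mem (mul_mem hnH (hYH hy)) (inv_mem hnH)
  -- `c` is isolated in `T`
  by_cases hiso : ∀ g : G, g * c * g⁻¹ ∈ T → g * c * g⁻¹ = c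
  · obtain ⟨N, hN, hNodd, hNc⟩ := Cfsg.Agent.S0215.result S c (orderOf_eq_prime (h.zsq c hc) hc1)
      (show c ∈ (S : Subgroup G) by rw [hS]; exact hYT (h.le hc))
      (fun g hg => hiso g (by rw [← hS]; exact hg))
    rcases hG.normal_eq N hN with h1 | h1
    · refine hG.centralizer_ne_top hc1 (eq_top_iff.2 fun g _ => mem_centralizer_singleton_iff.2 ?_)
      have h3 := hNc g
      rw [h1, mem_bot] at h3
      exact (mul_inv_eq_iff_eq_mul.1 (mul_inv_eq_one.1 h3)).symm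
    · rw [h1, Subgroup.card_top] at hNodd
      have h3 : 2 ∣ Nat.card G := by
        rw [← orderOf_eq_prime (h.zsq c hc) hc1]; exact orderOf_dvd_natCard c
      exact Nat.not_even_iff_odd.2 hNodd (even_iff_two_dvd.2 h3)
  push Not at hiso
  obtain ⟨g, hgT, hgne⟩ := hiso
  set c' := g * c * g⁻¹ with hc'def
  have hc'Y : c' ∈ Y := h.mem_Y_of_conj hG hrk hrkr hT hYT hTN hc hc1 hgT
  have hc'1 : c' ≠ 1 := fun e => hc1 (conj_eq_one_iff.1 e)
  set Y' := Y.map (MulAut.conj g).toMonoidHom with hY'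
  set Z' := Z.map (MulAut.conj g).toMonoidHom with hZ'
  set T' := T.map (MulAut.conj g).toMonoidHom with hT'
  have h' : Sp Y' Z' (g * x * g⁻¹) := h.conj g
  set H' := centralizer ({c'} : Set G) with hH'
  have hH's : Group.IsSolvable H' := hG.centralizer_solvable hc'1
  have hconjH : ∀ w ∈ H, g * w * g⁻¹ ∈ H' := fun w hw => by
    refine mem_centralizer_singleton_iff.2 ?_
    have h3 := mem_centralizer_singleton_iff.1 hw
    calc g * w * g⁻¹ * c' = g * (w * c) * g⁻¹ := by rw [hc'def]; group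
      _ = g * (c * w) * g⁻¹ := by rw [h3]
      _ = c' * (g * w * g⁻¹) := by rw [hc'def]; group
  have hY'H : Y' ≤ H' := by rintro _ ⟨y, hy, rfl⟩; exact hconjH y (hYH hy)
  have hT'H : T' ≤ H' := by rintro _ ⟨t, ht, rfl⟩; exact hconjH t (hNH (hTN ht))
  have hx'H : g * x * g⁻¹ ∈ H' := hconjH x hxH
  have hY'T' : Y' ≤ T' := map_mono hYT
  have hT'N : T' ≤ normalizer (Y' : Set G) := (map_mono hTN).trans (le_normalizer_map _)
  have hc'Z' : c' ∈ Z' := mem_map_of_mem _ hc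
  obtain ⟨k, hkH, hk⟩ := exists_conj_le (T := T') (P := g • S)
    (show (MulAut.conj g • S : Sylow 2 G).toSubgroup = T' by rw [hT', ← hS]; rfl)
    hT'H (h.pY.to_le (inf_le_left : Y ⊓ H' ≤ Y)) inf_le_right
  set O' := coreOf 2 H' with hO'
  have hkn : ∀ w, k * w * k⁻¹ ∈ O' ⊔ Y' ↔ w ∈ O' ⊔ Y' := fun w =>
    ((mem_normalizer_iff.1 (h'.local_le_normalizer hrk hH's hx'H hY'H hkH)) w).symm
  set M := (Y ⊓ H') ⊓ (O' ⊔ Y') with hM
  have hMY' : ∀ r ∈ M, k * r * k⁻¹ ∈ Y' := by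
    intro r hr
    have h1 := eq_of_le_sup hY'H ((hT.map _).to_le (inf_le_left : T' ⊓ (O' ⊔ Y') ≤ T'))
      inf_le_right (le_inf hY'T' le_sup_right)
    exact h1.le ⟨hk r hr.1, (hkn r).2 hr.2⟩
  have hc'H : c' ∈ Y ⊓ H' := ⟨hc'Y, mem_centralizer_singleton_iff.2 rfl⟩
  have hcM : c ∈ M := by
    have hcH : c ∈ Y ⊓ H' :=
      ⟨h.le hc, mem_centralizer_singleton_iff.2 (h.central c hc c' hc'Y).eq⟩
    refine ⟨hcH, (hkn c).1 (mem_sup_right ?_)⟩
    have e : k * c * k⁻¹ = k * g⁻¹ * c' * (k * g⁻¹)⁻¹ := by rw [hc'def]; group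
    rw [e]
    exact h'.mem_Y_of_conj hG hrk hrkr (hT.map _) hY'T' hT'N hc'Z' hc'1
      (e ▸ hk c hcH)
  have hsqM : ∀ a ∈ Y ⊓ H', a ^ 2 ∈ M := by
    intro a ha
    rcases hZ _ (h.sq a ha.1) with h1 | h1
    · rw [h1]; exact one_mem M
    · rw [h1]; exact hcM
  have hidx : Nat.card (Y ⊓ H' : Subgroup G) ≤ 2 * Nat.card M := by
    refine card_le_two_mul fun a ha haM b hb hbM =>
      ⟨(Y ⊓ H').mul_mem ((Y ⊓ H').inv_mem ha) hb, (hkn _).1 ?_⟩
    have hnot : ∀ r ∈ Y ⊓ H', r ∉ M → k * r * k⁻¹ ∉ Y' := fun r hr hrM e =>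
      hrM ⟨hr, (hkn r).1 (mem_sup_right e)⟩
    have hsq : ∀ r ∈ Y ⊓ H', (k * r * k⁻¹) ^ 2 ∈ Y' := fun r hr => by
      rw [conj_pow]; exact hMY' _ (hsqM r hr)
    refine mem_sup_right ?_
    have e : k * (a⁻¹ * b) * k⁻¹ = k * a⁻¹ * k⁻¹ * (k * b * k⁻¹) := by group
    rw [e]
    exact h'.mul_mem_Y hrk (h'.normalizer_solvable hG) (hT.map _) hY'T' hT'N
      (hk _ (inv_mem ha)) (hk b hb) (hnot _ (inv_mem ha) fun hi => haM (by simpa using inv_mem hi))
      (hnot b hb hbM) (hsq _ (inv_mem ha)) (hsq b hb)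
  have hPY : Nat.card Y ≤ 2 * Nat.card (Y ⊓ H' : Subgroup G) := by
    refine card_le_two_mul fun a ha haP b hb hbP =>
      ⟨Y.mul_mem (Y.inv_mem ha) hb, mem_centralizer_singleton_iff.2 ?_⟩
    have hmem : ∀ r ∈ Y, r ∉ Y ⊓ H' → ⁅r, c'⁆ = c := fun r hr hrP => by
      refine (hZ _ (h.comm_mem hr hc'Y)).resolve_left fun e => hrP ⟨hr, ?_⟩
      exact mem_centralizer_singleton_iff.2 (commutatorElement_eq_one_iff_commute.1 e).eq
    refine commutatorElement_eq_one_iff_commute.1 ?_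
    have e1 : ⁅a⁻¹, c'⁆ = c := hmem _ (inv_mem ha) fun hi => haP (by simpa using inv_mem hi)
    rw [h.comm_mul_left (inv_mem ha) hb hc'Y, hmem b hb hbP, e1, ← pow_two, h.zsq c hc]
  have hMY : M ≤ Y := inf_le_left.trans inf_le_left
  obtain ⟨m, hm, hm2⟩ : ∃ m ∈ M, m ^ 2 ≠ 1 := by
    by_contra hno
    push Not at hno
    have := h.no_eight h2 hMY hno
    have h32 : Nat.card Y = 32 := by rw [h.card, h2]
    omega
  have hmc : m ^ 2 = c := (hZ _ (h.sq m (hMY hm))).resolve_left hm2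
  have hkm : k * c * k⁻¹ ∈ Z' := by
    rw [← hmc, ← conj_pow]; exact h'.sq _ (hMY' m hm)
  obtain ⟨z, hz, hze⟩ := hkm
  rcases hZ z hz with hz1 | hz1 <;> rw [hz1] at hze
  · rw [map_one] at hze
    exact hc1 (conj_eq_one_iff.1 hze.symm)
  · have h3 : c' * k = k * c := by
      rw [show c' = k * c * k⁻¹ from hze, inv_mul_cancel_right]
    rw [← mem_centralizer_singleton_iff.1 hkH] at h3
    exact hgne (mul_left_cancel h3)

end Cfsg.Agent.H63.TwoGen.NoMoved
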